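import Cfsg.Agent.SM.Ex78.Base
import Cfsg.Agent.H420.Rg.Sz
import Cfsg.Agent.H420.Rg.Ree

/-!
# SM (S3570): the groups of Suzuki and the small groups of Ree have no factorisation (helper78)
-/

set_option autoImplicit false

namespace Cfsg.Agent.SM.Ex78

open Cfsg Subgroup

section sz

open Cfsg.Agent.H761.SzCls Cfsg.Agent.H56.Exc

variable {F : Type*} [Field F] [Fintype F] {m : ℕ}

theorem sz_card (hm : 1 ≤ m) (hF : Fintype.card F = 2 ^ (2 * m + 1)) (L : Subgroup (Cfsg.Sz F m)) (hL : L ≠ ⊤) :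
    Nat.card L ∣ (2 ^ (2 * m + 1)) ^ 2 * (2 ^ (2 * m + 1) - 1) ∨ Nat.card L ≤ (2 ^ (2 * m + 1)) ^ 2 := by
  have hqt : 2 ^ (2 * m + 1) = 2 * (2 ^ m * 2 ^ m) := by rw [← pow_add, ← pow_succ']; congr 1; omega
  have ht : 2 ^ (m + 1) = 2 * 2 ^ m := by rw [pow_succ']
  have hz : 2 ≤ 2 ^ m := Nat.le_self_pow (by omega) 2
  rcases S2251.result hm hF L hL with ⟨Q, hQ⟩ | ⟨V, hV, hVc, hKV⟩ | ⟨K, _, _, k, hk, hkm, hK, hdiv, S, ⟨e⟩, hKS⟩
  · left
    rw [← card_norm_sylow hm hF Q]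
    exact Subgroup.card_dvd_of_le hQ
  · right
    obtain ⟨j, hj⟩ := mem_set_iff.1 hVc
    have hV' : IsTor V j := ⟨hV, hj⟩
    have hfin := finite_Sz F m
    refine (Subgroup.card_le_of_le hKV).trans ?_
    rw [card_norm hm hF hV']
    refine (Nat.mul_le_mul_right _ (cT_le j).1).trans ?_
    have h4 : nT m j ≤ 2 ^ (2 * m + 1) + 2 ^ (m + 1) + 1 := by
      fin_cases j
      · show 2 ^ (2 * m + 1) - 1 ≤ _
        omega
      · show 2 ^ (2 * m + 1) + 2 ^ (m + 1) + 1 ≤ _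
        omega
      · show 2 ^ (2 * m + 1) - 2 ^ (m + 1) + 1 ≤ _
        omega
    refine (Nat.mul_le_mul_left _ h4).trans ?_
    rw [hqt, ht]
    generalize 2 ^ m = z at *
    obtain ⟨t, rfl⟩ := Nat.exists_eq_add_of_le hz
    nlinarith [Nat.zero_le t, Nat.zero_le (t ^ 2), Nat.zero_le (t ^ 3), Nat.zero_le (t ^ 4)]
  · right
    have hfin := finite_Sz F m
    refine (Subgroup.card_le_of_le hKS).trans ?_
    rw [Nat.card_congr e.toEquiv, S0324.result hk hK]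
    obtain ⟨-, -, -, h6⟩ := sub_arith hk hkm hdiv
    obtain ⟨l, hl⟩ := hdiv
    have hl3 : 3 ≤ l := by
      rcases Nat.lt_or_ge l 3 with h | h
      · interval_cases l <;> omega
      · exact h
    set q := 2 ^ (2 * m + 1) with hq
    set s := 2 ^ (2 * k + 1) with hs
    have hs2 : 2 ≤ s := Nat.le_self_pow (by omega) 2
    have h7 : s ^ 2 * (s ^ 2 + 1) * (s - 1) ≤ 2 * s ^ 5 := by
      calc s ^ 2 * (s ^ 2 + 1) * (s - 1) ≤ s ^ 2 * (2 * s ^ 2) * s := by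
            refine Nat.mul_le_mul (Nat.mul_le_mul_left _ ?_) (Nat.sub_le _ _)
            have : 1 ≤ s ^ 2 := Nat.one_le_pow _ _ (by omega)
            omega
        _ = 2 * s ^ 5 := by ring
    refine h7.trans ?_
    have hql : q = s ^ l := by rw [hq, hl, pow_mul]
    calc 2 * s ^ 5 ≤ s * s ^ 5 := Nat.mul_le_mul_right _ hs2
      _ = (s ^ 3) ^ 2 := by ring
      _ ≤ q ^ 2 := by
        rw [hql]
        exact Nat.pow_le_pow_left (Nat.pow_le_pow_right (by omega) hl3) 2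

theorem noFac_sz' (hm : 1 ≤ m) (hF : Fintype.card F = 2 ^ (2 * m + 1)) : NoFac (Cfsg.Sz F m) := by
  intro X Y hX hY h
  have hfin := finite_Sz F m
  have hc := h.card_dvd
  rw [S0324.result hm hF] at hc
  have hXc := sz_card hm hF X hX
  have hYc := sz_card hm hF Y hY
  have hXp : 0 < Nat.card X := Nat.card_pos
  have hYp : 0 < Nat.card Y := Nat.card_pos
  have hq2 : 2 ≤ 2 ^ (2 * m + 1) := Nat.le_self_pow (by omega) 2
  generalize 2 ^ (2 * m + 1) = q at *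
  generalize Nat.card X = a at *
  generalize Nat.card Y = b at *
  have hpos : 0 < q ^ 2 * (q - 1) := Nat.mul_pos (by positivity) (by omega)
  have hbig : ∀ a b : ℕ, 0 < a → 0 < b → a ≤ q ^ 2 → b ≤ q ^ 2 * (q - 1) →
      q ^ 2 * (q ^ 2 + 1) * (q - 1) ∣ a * b → False := by
    intro a b ha0 hb0 ha hb hab
    have h1 := (Nat.le_of_dvd (Nat.mul_pos ha0 hb0) hab).trans (Nat.mul_le_mul ha hb)
    have h2 : q ^ 2 * (q ^ 2 * (q - 1)) + q ^ 2 * (q - 1) = q ^ 2 * (q ^ 2 + 1) * (q - 1) := by ring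
    omega
  have hsm : ∀ b : ℕ, b ≤ q ^ 2 → b ≤ q ^ 2 * (q - 1) := fun b hb =>
    hb.trans (Nat.le_mul_of_pos_right _ (by omega))
  rcases hXc with h4 | h4 <;> rcases hYc with h5 | h5
  · have h7 : q ^ 2 * (q ^ 2 + 1) * (q - 1) ∣ (q ^ 2 * (q - 1)) * (q ^ 2 * (q - 1)) := hc.trans (mul_dvd_mul h4 h5)
    have h8 : q ^ 2 + 1 ∣ q ^ 2 * (q - 1) := by
      have h9 : (q ^ 2 * (q - 1)) * (q ^ 2 + 1) ∣ (q ^ 2 * (q - 1)) * (q ^ 2 * (q - 1)) := by
        have e1 : (q ^ 2 * (q - 1)) * (q ^ 2 + 1) = q ^ 2 * (q ^ 2 + 1) * (q - 1) := by ring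
        rw [e1]
        exact h7
      exact Nat.dvd_of_mul_dvd_mul_left hpos h9
    have hc2 : Nat.Coprime (q ^ 2 + 1) (q ^ 2) := by
      rw [Nat.coprime_self_add_left]; exact Nat.coprime_one_left _
    have h9 := Nat.le_of_dvd (by omega) (hc2.dvd_of_dvd_mul_left h8)
    have h11 : q ≤ q ^ 2 := Nat.le_self_pow (by norm_num) q
    omega
  · exact hbig b a hYp hXp h5 (Nat.le_of_dvd hpos h4) (by rw [mul_comm b a]; exact hc)
  · exact hbig a b hXp hYp h4 (Nat.le_of_dvd hpos h5) hc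
  · exact hbig a b hXp hYp h4 (hsm b h5) hc

/-- **The Suzuki groups have no factorisation.** -/
theorem noFac_sz (hm : 1 ≤ m) (hF : Fintype.card F = 2 ^ (2 * m + 1)) : NoFac ↥(Lie.Sz F (2 ^ (m + 1))) := by
  obtain ⟨f⟩ := Cfsg.Agent.OddCyclic.ClaimC.SzIso.iso hm hF
  exact (noFac_sz' hm hF).congr f.symm

end sz

section ree

open Cfsg.Agent.H947.El Cfsg.Agent.H303.ReeFac Cfsg.Agent.H420.Rg

variable {K : Type*} [Field K] [Fintype K] {m : ℕ}

/-- **The small Ree groups have no factorisation.** -/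
theorem noFac_ree (hm : 1 ≤ m) (hK : Fintype.card K = 3 ^ (2 * m + 1)) : NoFac ↥(Lie.twistedG2 K (3 ^ m)) := by
  obtain ⟨ρ, n⟩ := exists_reeN m hm
  have F := reeF hm hK n
  obtain ⟨hs, hna0⟩ := Cfsg.Agent.S1073.result hm hK
  have hna : ∃ x y : ↥(Cfsg.Lie.twistedG2 K (3 ^ m)), x * y ≠ y * x := by
    by_contra hcon
    push Not at hcon
    exact hna0 ⟨⟨hcon⟩⟩
  have key : ∀ X Y : Subgroup ↥(Lie.twistedG2 K (3 ^ m)), X ≠ ⊤ → Y ≠ ⊤ → Pd X Y → ρ ∣ Nat.card X → False := by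
    intro X Y hX hY h hρ
    have h1 := card_le_of_rho F n X hX hρ
    obtain ⟨k, σ, g1, g2, g3⟩ := Cfsg.Agent.H452.FprDeg.exists_irr hna hY
    have h2 := (Cfsg.Agent.S2343.result m hm hK k σ g1 g2).trans g3
    have h3 := h.index_le
    rw [n.fac] at h2
    have h27 := n.q27
    have hrq := n.rq
    generalize 3 ^ (2 * m + 1) = q at *
    generalize 3 ^ (m + 1) = r at *
    have h4 : 7 * (q + r + 1) ≤ (q - r + 1) * (q + r + 1) := Nat.mul_le_mul_right _ (by omega)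
    omega
  intro X Y hX hY h
  have hrho : ρ ∣ Nat.card ↥(Lie.twistedG2 K (3 ^ m)) := by rw [F.card, n.cube]; exact (n.dvd.mul_left _).mul_left _
  rcases h.prime_dvd n.pr hrho with h1 | h1
  · exact key X Y hX hY h h1
  · exact key Y X hY hX h.symm h1

end ree

end Cfsg.Agent.SM.Ex78
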