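import Cfsg.Agent.SM.Ex78.Base
import Cfsg.Agent.H187.Rg.TF4
import Cfsg.Agent.H349.Rg.RowTD4
import Cfsg.Agent.S1072

/-!
# SM (S3570): `²F₄(q)`, `q ≥ 8`, and `³D₄(q)` have no factorisation (helper78)
-/

set_option autoImplicit false

namespace Cfsg.Agent.SM.Ex78

open Cfsg Subgroup Cfsg.Lie

section tf

open Cfsg.Agent.H436 Cfsg.Agent.H563.KG Cfsg.Agent.H56.Exc Cfsg.Agent.H394.Wei Cfsg.Agent.H187.Rg

theorem tf_num {m k : ℕ} (hm : 2 ≤ m) (hk : Kx m k) : 12 * k < (2 ^ (2 * m + 1) - 1) * (2 ^ (2 * m + 1)) ^ 2 := by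
  have h1 := Cfsg.Agent.H187.Rg.Kx.le_mP (by omega) hk
  have h3 : 4 ≤ 2 ^ m := by
    calc 4 = 2 ^ 2 := by norm_num
      _ ≤ 2 ^ m := Nat.pow_le_pow_right (by norm_num) hm
  have h4 : 2 ^ (2 * m + 1) = 2 * (2 ^ m) ^ 2 := by rw [pow_succ, pow_mul', mul_comm]
  rw [h4]
  unfold mP at h1
  generalize 2 ^ m = x at *
  obtain ⟨t, rfl⟩ := Nat.exists_eq_add_of_le h3
  have h5 : 2 * (4 + t) ^ 2 - 1 = 2 * t ^ 2 + 16 * t + 31 := by
    have : 2 * (4 + t) ^ 2 = (2 * t ^ 2 + 16 * t + 31) + 1 := by ring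
    rw [this, Nat.add_sub_cancel]
  rw [h5]
  calc 12 * k ≤ 12 * (1 + 2 * (4 + t) + 2 * (4 + t) ^ 2 + 4 * (4 + t) ^ 3 + 4 * (4 + t) ^ 4) := Nat.mul_le_mul_left _ h1
    _ < (2 * t ^ 2 + 16 * t + 31) * (2 * (4 + t) ^ 2) ^ 2 := by
        nlinarith [Nat.zero_le t, Nat.zero_le (t ^ 2), Nat.zero_le (t ^ 3), Nat.zero_le (t ^ 4), Nat.zero_le (t ^ 5),
          Nat.zero_le (t ^ 6)]

/-- **The large Ree groups have no factorisation.** -/
theorem noFac_tf4 {F : Type} [Field F] [Fintype F] {m : ℕ} (hm : 1 ≤ m) (hF : Fintype.card F = 2 ^ (2 * m + 1)) :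
    NoFac ↥(twistedF4 F (2 ^ m)) := by
  obtain ⟨hs, hna0⟩ := Cfsg.Agent.S1072.result hm hF
  have hna : ¬ ∀ a b : ↥(twistedF4 F (2 ^ m)), a * b = b * a := fun h => hna0 ⟨⟨h⟩⟩
  have tb := Cfsg.Agent.OrdDiv.table.{0}
  have hcf : ∀ (S : Type) [Group S] [Finite S] [IsSimpleGroup S], IsKnownSimple' S :=
    fun _ _ _ _ => Cfsg.Agent.S0000.result
  have key : ∃ u b : ℕ, u.Prime ∧ u ∣ Nat.card ↥(twistedF4 F (2 ^ m)) ∧
      b < (2 ^ (2 * m + 1) - 1) * (2 ^ (2 * m + 1)) ^ 2 ∧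
      ∀ M : Subgroup ↥(twistedF4 F (2 ^ m)), M ≠ ⊤ → u ∣ Nat.card M → Nat.card M ≤ b := by
    rcases Nat.lt_or_ge m 2 with h2 | h2
    · obtain rfl : m = 1 := by omega
      have hk : Kx 1 37 := Or.inr mM_two.symm
      have hu : Prim 2 (12 * (2 * 1 + 1)) 37 := by
        refine prim_of_ord (by norm_num) (by norm_num) ?_
        have key : ∀ j : ℕ, ((2 : ℕ) : ZMod 37) ^ j = 1 ↔ 2 ^ j % 37 = 1 % 37 := fun j => by
          rw [← Nat.cast_pow, ← Nat.cast_one, ZMod.natCast_eq_natCast_iff]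
          rfl
        refine orderOf_eq_of_pow_and_pow_div_prime (by norm_num) ((key 36).2 (by norm_num)) fun p hp hd => ?_
        rw [Ne, key]
        have h6 : p ∈ Nat.primeFactors 36 := Nat.mem_primeFactors.2 ⟨hp, hd, by norm_num⟩
        rw [show Nat.primeFactors 36 = {2, 3} by decide +kernel] at h6
        simp only [Finset.mem_insert, Finset.mem_singleton] at h6
        rcases h6 with rfl | rfl <;> norm_num
      refine ⟨37, 12 * 37, by norm_num, dvd_card hm hF (T := (⊤ : Subgroup ↥(twistedF4 F (2 ^ 1)))) topEquiv hu |>.trans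
        (by rw [card_top]), by norm_num, fun M hM h37 => ?_⟩
      exact Nat.le_of_dvd (by norm_num) (card_dvd_tf4 tb cycFixSolv hcf hF hm hk hu dvd_rfl hM h37)
    · obtain ⟨k, u, hk, hu, huk⟩ := exists_kx hm
      refine ⟨u, 12 * k, hu.prime, dvd_card hm hF (T := (⊤ : Subgroup ↥(twistedF4 F (2 ^ m)))) topEquiv hu |>.trans
        (by rw [card_top]), tf_num h2 hk, fun M hM huM => ?_⟩
      exact Nat.le_of_dvd (by have := hk.pos hm; omega) (card_dvd_one tb cycFixSolv hcf hF h2 hk hu huk hM huM)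
  obtain ⟨u, b, hu, huS, hb, hle⟩ := key
  have kill : ∀ X Y : Subgroup ↥(twistedF4 F (2 ^ m)), X ≠ ⊤ → Y ≠ ⊤ → Pd X Y → u ∣ Nat.card X → False := by
    intro X Y hX hY h huX
    have h1 := index_ge hF hm hna hY
    have h2 := h.index_le
    have h3 := hle X hX huX
    omega
  intro X Y hX hY h
  rcases h.prime_dvd hu huS with h1 | h1
  · exact kill X Y hX hY h h1
  · exact kill Y X hY hX h.symm h1

end tf

section td

open Cfsg.Agent.OrdDiv Cfsg.Agent.H436 Cfsg.Agent.H902 Cfsg.Agent.H902.Names Cfsg.Agent.H915.GN Cfsg.Agent.H264.GN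
  Cfsg.Agent.H290.ElReg Cfsg.Agent.H264.FKS Cfsg.Agent.H563.KG Cfsg.Agent.H56.Exc Cfsg.Agent.H349.KD4 Cfsg.Agent.H349.Rg

variable {p f : ℕ} {K : Type} [Field K] [Fintype K]

/-- the index of a proper subgroup of `³D₄(q)` does not divide `4 (q⁴ - q² + 1)` -/
theorem td_index (hp : p.Prime) (hf : 1 ≤ f) (hK : Fintype.card K = (p ^ f) ^ 3)
    {X : Subgroup ↥(twistedD4 K (p ^ f))} (hX : X ≠ ⊤) (h : X.index ∣ 4 * ncl 12 (p ^ f)) : False := by
  have hq : 2 ≤ p ^ f := hp.two_le.trans (Nat.le_self_pow (by omega) p)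
  have hpp : IsPrimePow (p ^ f) := hp.isPrimePow.pow (by omega)
  obtain ⟨hs, hna⟩ := Cfsg.Agent.S1071.result hpp hK
  have hna' : ∃ x y : ↥(twistedD4 K (p ^ f)), x * y ≠ y * x := by
    by_contra hcon
    push Not at hcon
    exact hna ⟨⟨hcon⟩⟩
  obtain ⟨h1, h2⟩ := index_deg hna' (Cfsg.Agent.S2342.result (p ^ f) hpp hK) hX
  have hC := Cfsg.Agent.S1067.result hpp hK
  generalize Nat.card ↥(twistedD4 K (p ^ f)) = C at h2 hC
  rw [ncl12] at h
  generalize p ^ f = q at *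
  generalize X.index = n at *
  have hpos : 0 < q ^ 4 - q ^ 2 + 1 := Nat.succ_pos _
  have hle := Nat.le_of_dvd (by omega) h
  rcases Nat.lt_or_ge q 4 with h4 | h4
  · obtain ⟨c, hc⟩ := h
    have hc1 : ∀ D : ℕ, D = n * c → 0 < D → D < 2 * n → n = D := by
      intro D hD h0 hlt
      rcases c with _ | _ | c
      · omega
      · omega
      · exfalso
        have : n * 2 ≤ n * (c + 1 + 1) := Nat.mul_le_mul_left _ (by omega)
        omega
    interval_cases q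
    · norm_num at h1 h2 hc hC
      have hn := hc1 52 hc (by norm_num) (by omega)
      rw [hn, hC] at h2
      norm_num at h2
    · norm_num at h1 h2 hc hC
      have hn := hc1 292 hc (by norm_num) (by omega)
      rw [hn, hC] at h2
      norm_num at h2
  · have h5 : 4 * (q ^ 4 - q ^ 2 + 1) ≤ q * (q ^ 4 - q ^ 2 + 1) := Nat.mul_le_mul_right _ h4
    omega

theorem noFac_td4' (hp : p.Prime) (hf : 1 ≤ f) (hK : Fintype.card K = (p ^ f) ^ 3) : NoFac ↥(twistedD4 K (p ^ f)) := by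
  have hq : 2 ≤ p ^ f := hp.two_le.trans (Nat.le_self_pow (by omega) p)
  have hpp : IsPrimePow (p ^ f) := hp.isPrimePow.pow (by omega)
  have : Fact p.Prime := ⟨hp⟩
  have : CharP K p := charP_of_pow (a := f * 3) hp (by rw [hK, ← pow_mul])
  have tb := Cfsg.Agent.OrdDiv.table.{0}
  have hkn : ∀ (S : Type) [Group S] [Finite S], IsSimpleGroup S → IsKnownSimple' S := fun _ _ _ _ => Cfsg.Agent.S0000.result
  have hbig : ∀ r, Prim (p ^ f) 12 r → Big ↥(twistedD4 K (p ^ f)) r (ncl 12 (p ^ f)) 4 := fun r hr =>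
    big_TD4_12 hpp hK (cast_ncl (by omega)) hr
  have hdvdG : ncl 12 (p ^ f) ∣ Nat.card ↥(twistedD4 K (p ^ f)) := by
    rw [← Int.natCast_dvd_natCast, ord_TD4 hpp hK, cast_ncl (by omega)]
    refine ⟨((p ^ f : ℕ) : ℤ) ^ 12 * (((p ^ f : ℕ) : ℤ) ^ 2 - 1) * (((p ^ f : ℕ) : ℤ) ^ 6 - 1) *
      (((p ^ f : ℕ) : ℤ) ^ 4 + ((p ^ f : ℕ) : ℤ) ^ 2 + 1), by ring⟩
  have hbase : ∀ {r : ℕ}, Prim p (12 * f) r → Prim (p ^ f) 12 r := fun h => Cfsg.Agent.H946.KZ.prim_base (by omega) h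
  have hlt : ∀ {r : ℕ}, Prim p (12 * f) r → 12 * f < r := fun h => Cfsg.Agent.H946.KZ.lt_of_prim hp.two_le (by omega) h
  intro X Y hX hY h
  have small : ∀ X Y : Subgroup ↥(twistedD4 K (p ^ f)), Y ≠ ⊤ → Pd X Y → Nat.card X ∣ 4 * ncl 12 (p ^ f) → False :=
    fun X Y hY h hX => td_index hp hf hK hY (h.index_dvd.trans hX)
  have large : ∀ {r : ℕ}, Prim p (12 * f) r → 13 < r → False := by
    intro r hr h13
    have hrT := (dvd_ncl cls12 (by omega) (hbase hr)).trans hdvdG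
    rcases h.prime_dvd hr.prime hrT with h1 | h1
    · exact small X Y hY h ((kone_TD4 tb hkn cycFixSolv hp hf hK X hr h13 h1).resolve_left hX)
    · exact small Y X hX h.symm ((kone_TD4 tb hkn cycFixSolv hp hf hK Y hr h13 h1).resolve_left hY)
  obtain ⟨r, hr⟩ := exists_prim (e := 12 * f) hp.two_le (by omega) (by omega)
  have h13r : ¬ 13 < r := large hr
  have hf1 : f = 1 := by
    have := hlt hr
    omega
  subst hf1
  have h12 : ∀ {s : ℕ}, Prim (p ^ 1) 12 s → Prim p (12 * 1) s := fun hs => by rwa [pow_one] at hs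
  have huniq : ∀ s, Prim (p ^ 1) 12 s → s = r := by
    intro s hs
    have a0 : ¬ 13 < s := large (h12 hs)
    have a1 := hlt (h12 hs)
    have a2 := hlt hr
    omega
  have hcyc : ∀ P : Subgroup ↥(twistedD4 K (p ^ 1)), IsPGroup r P → IsCyclic P := by
    intro P hP
    have := Fact.mk hr.prime
    obtain ⟨Q, hQ⟩ := hP.exists_le_sylow
    have hcQ := (hbig r (hbase hr)).isCyclic_sylow Q
    exact isCyclic_of_injective (Subgroup.inclusion hQ) (Subgroup.inclusion_injective hQ)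
  have one : ∀ X Y : Subgroup ↥(twistedD4 K (p ^ 1)), X ≠ ⊤ → Y ≠ ⊤ → Pd X Y → ¬ r ∣ X.index → False := by
    intro X Y hX hY h hrX
    have h1 := (kfull_TD4 tb hkn cycFixSolv hp le_rfl hK X fun s hs => by rw [huniq s hs]; exact hrX).resolve_left hX
    rw [m_eq hq] at h1
    exact small X Y hY h h1
  rcases h.cyc hr.prime hcyc with h1 | h1
  · exact one X Y hX hY h h1
  · exact one Y X hY hX h.symm h1

/-- **The triality groups have no factorisation.** -/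
theorem noFac_td4 {q : ℕ} (hK : Fintype.card K = q ^ 3) : NoFac ↥(twistedD4 K q) := by
  have hpp : IsPrimePow q := by
    have h1 : IsPrimePow (q ^ 3) := by rw [← hK]; exact FiniteField.isPrimePow_card K
    exact (isPrimePow_pow_iff (by norm_num)).1 h1
  obtain ⟨p, f, hp, hf, rfl⟩ := (isPrimePow_nat_iff q).1 hpp
  exact noFac_td4' hp hf hK

end td

end Cfsg.Agent.SM.Ex78
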