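import Cfsg.Agent.SM.Fac
import Cfsg.Agent.SM.Ex78.SzRee
import Cfsg.Agent.SM.Ex78.TFD

/-!
# SM (S3570): no overgroup has socle `Sz(q)`, `²G₂(q)`, `²F₄(q)` or `³D₄(q)` (helper78)
-/

set_option autoImplicit false

namespace Cfsg.Agent.SM.Ex78

open Cfsg Subgroup Equiv MulAction

/-- the factorisation inside the socle -/
theorem fac_pd {Γ : Type} [Group Γ] {M S H T B : Subgroup Γ} (f : Fac M S H T B) :
    Pd (T.subgroupOf S) (B.subgroupOf S) ∧ T.subgroupOf S ≠ ⊤ ∧ B.subgroupOf S ≠ ⊤ := by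
  refine ⟨fun g => ?_, fun h => f.ne (le_antisymm f.le (subgroupOf_eq_top.1 h)), fun h => f.nB (subgroupOf_eq_top.1 h)⟩
  obtain ⟨t, ht, b, hb, e⟩ := f.fac g g.2
  have hbS : b ∈ S := by
    have h1 : b = t⁻¹ * g := by rw [e, inv_mul_cancel_left]
    exact h1 ▸ S.mul_mem (S.inv_mem (f.le ht)) g.2
  exact ⟨⟨t, f.le ht⟩, ht, ⟨b, hbS⟩, hb, Subtype.ext e⟩

theorem nil_of_noFac {P : Fam} (h : ∀ (S : Type) [Group S], P S → NoFac S) : Nil P := fun Ω _ _ X H T M S u hS => by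
  have : Nonempty Ω := Fintype.card_pos_iff.1 (lt_of_lt_of_le (by norm_num) u.two)
  obtain ⟨h1, h2, h3⟩ := fac_pd (u.fac (Classical.arbitrary Ω))
  exact h S hS _ _ h2 h3 h1

/-- **The families `³D₄`, `Sz`, `²G₂`, `²F₄` give no overgroup.** -/
theorem nil_tw : Nil fun S _ => Lie.Iso3D4 S ∨ Lie.IsoSuzuki S ∨ Lie.IsoRee S ∨ Lie.Iso2F4 S := by
  refine nil_of_noFac fun S _ hS => ?_
  rcases hS with ⟨K, _, _, q, -, hK, ⟨e⟩⟩ | ⟨K, _, _, m, hm, hK, ⟨e⟩⟩ | ⟨K, _, _, m, hm, hK, ⟨e⟩⟩ | ⟨K, _, _, m, hm, hK, ⟨e⟩⟩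
  · exact (noFac_td4 hK).congr e
  · exact (noFac_sz hm hK).congr e
  · exact (noFac_ree hm hK).congr e
  · exact (noFac_tf4 hm hK).congr e

end Cfsg.Agent.SM.Ex78
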