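import Cfsg.Agent.SM.Defs

/-!
# SM (S3570), `S = G₂(q)`: the family and the table (helper78)
-/

set_option autoImplicit false

namespace Cfsg.Agent.SM.Ex78

open Cfsg

/-- the family `G₂(q)`, `q ≥ 3` -/
def fG2 : Fam := fun S _ => Lie.IsoChevG2 S

/-- `J₂ < G₂(4)` on the cosets of `U₃(4).2` and `U₃(4) < G₂(4)` on the cosets of `J₂` -/
def RG : Tab := fun t n k => k = 4 ∧ ((t = 604800 ∧ n = 2016) ∨ (t = 62400 ∧ n = 416))

end Cfsg.Agent.SM.Ex78
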