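import Cfsg.Agent.SM.Ex78.Defs
import Cfsg.Agent.SM.Rig
import Cfsg.Agent.H394.Wei.Congr
import Cfsg.Agent.ChevStructure.FieldMap
import Cfsg.Agent.S0815
import Cfsg.Agent.S1619
import Cfsg.Agent.S2066

/-!
# SM (S3570), `S = G₂(q)`: the count (helper40)

`bndG_of : BoxId → BoxConj → BoxEX → Bnd fG2 RG`.
-/

set_option autoImplicit false
set_option linter.unusedSectionVars false

namespace Cfsg.Agent.SM.Ex78

open Cfsg Cfsg.Lie Subgroup Equiv MulAction Cfsg.Agent.OrdDiv Cfsg.Agent.H436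
open Cfsg.Agent.H394.Wei (named_congr)

namespace Cnt

theorem card_aut {G : Type} [Group G] (hs : IsSimpleGroup G) (hn : ¬ IsMulCommutative G) :
    Nat.card (MulAut G) = Nat.card (Out G) * Nat.card G := by
  rw [card_eq_card_quotient_mul_card_subgroup (Inn G)]
  congr 1
  refine (Nat.card_congr (MonoidHom.ofInjective ?_).toEquiv).symm
  rw [injective_iff_map_eq_one]
  intro g hg
  have h2 : g ∈ center G := mem_center_iff.2 fun y => by
    have := DFunLike.congr_fun hg y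
    rw [MulAut.conj_apply, MulAut.one_apply, mul_inv_eq_iff_eq_mul] at this
    exact this.symm
  rcases (inferInstance : (center G).Normal).eq_bot_or_eq_top with k | k
  · rwa [k, mem_bot] at h2
  · exact absurd ⟨⟨fun a b => (mem_center_iff.1 (k ▸ mem_top b : b ∈ center _) a)⟩⟩ hn

section names

variable {G G' : Type} [Group G] [Group G']

theorem card_j (h : Spor.IsoJ2 G) : Nat.card G = 604800 := by
  obtain ⟨e⟩ := h
  rw [Nat.card_congr e.toEquiv]
  exact S1619.result.2.2.2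

theorem card_u (h : IsNamed (.psu 3 4) G) : Nat.card G = 62400 := h.ord.trans (by decide +kernel)

theorem card_g (h : IsNamed (.g2 4) G) : Nat.card G = 251596800 := h.ord.trans (by decide +kernel)

theorem j_congr (h : Spor.IsoJ2 G) (e : G' ≃* G) : Spor.IsoJ2 G' := ⟨e.trans h.some⟩

theorem iso_g (h : IsNamed (.g2 4) G) (h' : IsNamed (.g2 4) G') : Nonempty (G ≃* G') := by
  obtain ⟨F, _, _, hF, ⟨e⟩⟩ := h.real
  obtain ⟨K, _, _, hK, ⟨e'⟩⟩ := h'.real
  exact ⟨e.trans ((ChevStructure.FieldMap.groupEquivOfRingEquiv chevG2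
    (FiniteField.ringEquivOfCardEq (hF.trans hK.symm))).trans e'.symm)⟩

theorem out_j (hs : IsSimpleGroup G) (hn : ¬ IsMulCommutative G) (h : Spor.IsoJ2 G) : Nat.card (Out G) ≤ 4 := by
  have h1 := card_aut hs hn
  have h3 := card_j h
  obtain ⟨e⟩ := h
  have h2 := card_aut (G := Spor.J2) e.symm.isSimpleGroup fun k =>
    hn ⟨⟨fun a b => e.injective (by rw [map_mul, map_mul, k.is_comm.comm])⟩⟩
  rw [S2066.result, S1619.result.2.2.2, ← Nat.card_congr (MulAut.congr e).toEquiv] at h2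
  rw [h2, h3] at h1
  omega

theorem out_u (hs : IsSimpleGroup G) (hn : ¬ IsMulCommutative G) (h : IsNamed (.psu 3 4) G) : Nat.card (Out G) ≤ 4 := by
  have h1 := card_aut hs hn
  have h3 := card_u h
  obtain ⟨F, _, _, hF, ⟨e⟩⟩ := h.real
  have : Fact (Nat.Prime 2) := ⟨Nat.prime_two⟩
  have h2 := S0815.result 2 2 (by norm_num) (q := 4) (by norm_num) hF 3 le_rfl (by norm_num)
  rw [← Nat.card_congr (MulAut.congr e).toEquiv, ← Nat.card_congr e.toEquiv, h1, h3] at h2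
  norm_num at h2
  omega

/-- row 1 inside the socle -/
def R1 (T B : Subgroup G) : Prop :=
  Spor.IsoJ2 T ∧ ∃ U : Subgroup G, IsNamed (.psu 3 4) U ∧ 25 ∣ Nat.card ↥(T ⊓ U) ∧ B = normalizer (U : Set G)

/-- row 2 inside the socle -/
def R2 (T B : Subgroup G) : Prop := IsNamed (.psu 3 4) T ∧ Spor.IsoJ2 B ∧ 25 ∣ Nat.card ↥(B ⊓ T)

theorem move (hC : BoxConj) [Finite G'] (h' : IsNamed (.g2 4) G') (e : G ≃* G') {J U : Subgroup G} {J' U' : Subgroup G'}
    (j : Spor.IsoJ2 J) (j' : Spor.IsoJ2 J') (u : IsNamed (.psu 3 4) U) (u' : IsNamed (.psu 3 4) U')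
    (d : 25 ∣ Nat.card ↥(J ⊓ U)) (d' : 25 ∣ Nat.card ↥(J' ⊓ U')) :
    ∃ φ : G ≃* G', J.map φ.toMonoidHom = J' ∧ U.map φ.toMonoidHom = U' := by
  obtain ⟨g, h1, h2⟩ := hC G' h' (J.map e.toMonoidHom) J' (U.map e.toMonoidHom) U'
    (j_congr j (J.equivMapOfInjective _ e.injective).symm) j' (named_congr u (U.equivMapOfInjective _ e.injective).symm) u'
    (by rwa [← map_inf _ _ _ e.injective, ← Nat.card_congr ((J ⊓ U).equivMapOfInjective e.toMonoidHom e.injective).toEquiv]) d'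
  rw [map_map] at h1 h2
  exact ⟨e.trans (MulAut.conj g), h1, h2⟩

theorem move' (hC : BoxConj) [Finite G'] (h : IsNamed (.g2 4) G) (h' : IsNamed (.g2 4) G') {T B : Subgroup G}
    {T' B' : Subgroup G'} (hc : Nat.card T = Nat.card T') (r : R1 T B ∨ R2 T B) (r' : R1 T' B' ∨ R2 T' B') :
    ∃ φ : G ≃* G', T.map φ.toMonoidHom = T' ∧ B.map φ.toMonoidHom = B' := by
  obtain ⟨e⟩ := iso_g h h'
  rcases r with ⟨j, U, u, d, rfl⟩ | ⟨u, j, d⟩ <;> rcases r' with ⟨j', U', u', d', rfl⟩ | ⟨u', j', d'⟩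
  · obtain ⟨φ, h1, h2⟩ := move hC h' e j j' u u' d d'
    exact ⟨φ, h1, by rw [map_equiv_normalizer_eq, h2]⟩
  · rw [card_j j, card_u u'] at hc
    omega
  · rw [card_u u, card_j j'] at hc
    omega
  · obtain ⟨φ, h1, h2⟩ := move hC h' e j j' u u' d d'
    exact ⟨φ, h2, h1⟩

theorem r1_of (hE : BoxEX) [Finite G] (h : IsNamed (.g2 4) G) {T B U : Subgroup G} (j : Spor.IsoJ2 T)
    (u : IsNamed (.psu 3 4) U) (hU : U ≤ B) (hn : B ≤ normalizer (U : Set G)) (hB : Nat.card B = 124800)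
    (hA : Nat.card ↥(T ⊓ B) = 300) : R1 T B := by
  refine ⟨j, U, u, ?_, ?_⟩
  · have h1 := Fac.card_mul (T ⊓ B) U
    have h2 := Fac.card_mul B U
    rw [inf_eq_right.2 hU, card_u u, hB] at h2
    have h3 : U.relIndex B = 2 := by omega
    have h4 := relIndex_le_of_le_right (H := U) (inf_le_right : T ⊓ B ≤ B) (by omega)
    rw [inf_assoc, inf_eq_right.2 hU, hA] at h1
    generalize U.relIndex (T ⊓ B) = r at h1 h4
    have h5 : r = 0 ∨ r = 1 ∨ r = 2 := by omega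
    rcases h5 with rfl | rfl | rfl <;> omega
  · obtain ⟨⟨k, h1, h2⟩, -⟩ := (hE 2 2 G Nat.prime_two (by norm_num) h (normalizer (U : Set G))
      (U.subgroupOf (normalizer (U : Set G))) inferInstance).1 false
      (named_congr u (subgroupOfEquivOfLe le_normalizer))
    have h3 : dd false (2 ^ 2) = 1 := by decide
    have h4 : oL false (2 ^ 2) = 62400 := by decide
    rw [h3] at h1 h2
    rw [h4] at h2
    have h5 := Nat.le_of_dvd (by norm_num) h1
    exact eq_of_le_of_card_ge hn (by omega)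

end names

theorem rows (hE : BoxEX) {Γ : Type} [Group Γ] [Finite Γ] {M S H T B : Subgroup Γ} (f : Fac M S H T B)
    (h : IsNamed (.g2 4) S) (r : Row S T B) :
    (R1 (T.subgroupOf S) (B.subgroupOf S) ∨ R2 (T.subgroupOf S) (B.subgroupOf S)) ∧
      RG (Nat.card T) (B.relIndex T) 4 ∧ Nat.card (Out T) ≤ 4 := by
  have h1 := f.card_eq
  have h2 := Fac.card_mul T B
  have eT := subgroupOfEquivOfLe f.le
  have e0 : (S ⊓ B).subgroupOf S = B.subgroupOf S := inf_subgroupOf_left B S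
  have eB : B.subgroupOf S ≃* ↥(S ⊓ B) := (MulEquiv.subgroupCongr e0.symm).trans (subgroupOfEquivOfLe inf_le_left)
  have cA : Nat.card ↥(T.subgroupOf S ⊓ B.subgroupOf S) = Nat.card ↥(T ⊓ B) :=
    Nat.card_congr ((MulEquiv.subgroupCongr (comap_inf T B S.subtype).symm).trans
      (subgroupOfEquivOfLe (inf_le_left.trans f.le))).toEquiv
  rw [card_g h] at h1
  rcases r with ⟨j, c, L, hL, u⟩ | ⟨u, j⟩
  · rw [card_j j] at h2 ⊢
    rw [card_j j, c] at h1
    have h3 : Nat.card ↥(T ⊓ B) = 300 := by omega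
    rw [h3] at h2
    refine ⟨Or.inl (r1_of hE h (j_congr j eT) (U := L.map (inclusion inf_le_left))
      (named_congr u (L.equivMapOfInjective _ (inclusion_injective _)).symm) ?_ ?_ ((Nat.card_congr eB.toEquiv).trans c)
      (cA.trans h3)), ⟨rfl, Or.inl ⟨rfl, by omega⟩⟩, out_j f.asH.simple f.asH.nab j⟩
    · rintro _ ⟨x, -, rfl⟩
      exact x.2.2
    · intro b hb
      have h4 : b = inclusion (inf_le_left : S ⊓ B ≤ S) ⟨b.1, b.2, hb⟩ := rfl
      rw [h4]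
      exact le_normalizer_map _ ⟨_, by rw [normalizer_eq_top]; exact mem_top _, rfl⟩
  · rw [card_u u] at h2 ⊢
    rw [card_u u, card_j j] at h1
    have h3 : Nat.card ↥(T ⊓ B) = 150 := by omega
    rw [h3] at h2
    exact ⟨Or.inr ⟨named_congr u eT, j_congr j eB, by rw [inf_comm, cA, h3]; norm_num⟩, ⟨rfl, Or.inr ⟨rfl, by omega⟩⟩,
      out_u f.asH.simple f.asH.nab u⟩

section perm

variable {Ω : Type} [Fintype Ω] [DecidableEq Ω] {X H T : Subgroup (Perm Ω)}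

/-- the restriction to `T` -/
noncomputable def rs {S : Subgroup (Perm Ω)} (h : T ≤ S) {G : Type} [Group G] (φ : S ≃* G) {T₀ : Subgroup G}
    (e : (T.subgroupOf S).map φ.toMonoidHom = T₀) : T ≃* T₀ :=
  (subgroupOfEquivOfLe h).symm.trans (((T.subgroupOf S).equivMapOfInjective φ.toMonoidHom φ.injective).trans
    (MulEquiv.subgroupCongr e))

/-- **Counting by outer automorphisms**: all pairs `(T, S_a)` have the same image in a model. -/
theorem ncard_le_out (a : Ω) {O : Set (Subgroup (Perm Ω))} {G : Type} [Group G] (T₀ B₀ : Subgroup G)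
    (h : ∀ M ∈ O, ∃ S, Up X H T M S ∧ ∃ φ : S ≃* G, (T.subgroupOf S).map φ.toMonoidHom = T₀ ∧
      ((M ⊓ stabilizer (Perm Ω) a).subgroupOf S).map φ.toMonoidHom = B₀) : O.ncard ≤ Nat.card (Out T) := by
  rcases O.eq_empty_or_nonempty with rfl | ⟨M₀, h₀⟩
  · simp
  obtain ⟨S₀, u₀, φ₀, e₀, -⟩ := h M₀ h₀
  have : Finite (MulAut T) := Finite.of_injective _ (DFunLike.coe_injective (F := MulAut T))
  rw [← Set.ncard_univ]
  refine ncard_le_of_col Set.finite_univ (fun M (c : Out T) => ∃ S, ∃ u : Up X H T M S, ∃ φ : S ≃* G,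
    ∃ e : (T.subgroupOf S).map φ.toMonoidHom = T₀, ((M ⊓ stabilizer (Perm Ω) a).subgroupOf S).map φ.toMonoidHom = B₀ ∧
      c = QuotientGroup.mk ((rs u.le φ e).trans (rs u₀.le φ₀ e₀).symm)) (fun M hM => ?_) ?_
  · obtain ⟨S, u, φ, e, b⟩ := h M hM
    exact ⟨_, Set.mem_univ _, S, u, φ, e, b, rfl⟩
  · rintro M₁ - M₂ - _ - ⟨S₁, u₁, φ₁, e₁, b₁, rfl⟩ ⟨S₂, u₂, φ₂, e₂, b₂, c⟩
    obtain ⟨t, ht⟩ := QuotientGroup.eq.1 c
    have k : ∀ x : T, rs u₁.le φ₁ e₁ (t * x * t⁻¹) = rs u₂.le φ₂ e₂ x := fun x => by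
      have h1 := DFunLike.congr_fun (eq_inv_mul_iff_mul_eq.1 ht) x
      exact (rs u₀.le φ₀ e₀).symm.injective h1
    refine u₁.rig_model u₂ φ₁ φ₂ (MulAut.conj (φ₁ ⟨t, u₁.le t.2⟩)) (fun x hx => ?_) (a := (t : Perm Ω)⁻¹ a) (b := a)
      fun s s' h1 h2 => ?_
    · rw [MulAut.conj_apply, ← map_inv, ← map_mul, ← map_mul]
      exact congrArg Subtype.val (k ⟨x, hx⟩)
    · rw [MulAut.conj_apply, ← map_inv, ← map_mul, ← map_mul] at h2
      have h3 : φ₂ s' ∈ B₀ := by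
        rw [← h2, ← b₁]
        refine ⟨_, ⟨u₁.socM.le (Subtype.prop _), ?_⟩, rfl⟩
        show (t : Perm Ω) ((s : Perm Ω) ((t : Perm Ω)⁻¹ a)) = a
        rw [h1]
        exact (t : Perm Ω).apply_symm_apply a
      rw [← b₂] at h3
      exact ((mem_map_iff_mem (f := φ₂.toMonoidHom) φ₂.injective).1 h3).2

end perm

end Cnt

/-- **the count** -/
theorem bndG_of (hId : BoxId) (hC : BoxConj) (hE : BoxEX) : Bnd fG2 RG := by
  rintro Ω _ _ X H T ⟨M₀, S₀, u₀, g₀⟩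
  have h2 := u₀.two
  have : Nonempty Ω := Fintype.card_pos_iff.1 (by omega)
  obtain ⟨a⟩ := this
  obtain ⟨n₀, r₀⟩ := hId _ _ _ _ _ _ (u₀.fac a) g₀
  obtain ⟨k₀, k₁, k₂⟩ := Cnt.rows hE (u₀.fac a) n₀ r₀
  rw [u₀.relIndex] at k₁
  refine ⟨4, k₁, (Cnt.ncard_le_out (X := X) (H := H) a (T.subgroupOf S₀) ((M₀ ⊓ stabilizer (Perm Ω) a).subgroupOf S₀) ?_).trans k₂⟩
  rintro M ⟨S, u, g⟩
  obtain ⟨n, r⟩ := hId _ _ _ _ _ _ (u.fac a) g
  exact ⟨S, u, Cnt.move' hC n n₀ ((Nat.card_congr (subgroupOfEquivOfLe u.le).toEquiv).trans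
    (Nat.card_congr (subgroupOfEquivOfLe u₀.le).toEquiv).symm) (Cnt.rows hE (u.fac a) n r).1 k₀⟩

end Cfsg.Agent.SM.Ex78
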