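import Cfsg.Agent.SM.Ex78.Defs
import Cfsg.Agent.H375.LThree.Spec
import Cfsg.Agent.H127.PSUThreeEx

/-!
# SM (S3570), `G₂(q)`: numbers and elements of `L₃^ε(q)`, cyclic Sylow subgroups (helper78)
-/

set_option autoImplicit false

namespace Cfsg.Agent.SM.Ex78

open Cfsg Cfsg.Lie Subgroup Cfsg.Agent.OrdDiv Cfsg.Agent.H436 Cfsg.Agent.H946.Num

section num

variable {ε : Bool} {q r : ℕ}

theorem qm_mul (hq : 1 ≤ q) (ε : Bool) : qm ε q * qm (!ε) q = q ^ 2 - 1 := by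
  obtain ⟨k, rfl⟩ := Nat.exists_eq_add_of_le' hq
  have h : (k + 1) ^ 2 - 1 = k * (k + 2) := Nat.sub_eq_of_eq_add (by ring)
  cases ε <;> simp [qm, h, mul_comm]

theorem qm_pos (hq : 2 ≤ q) (ε : Bool) : 0 < qm ε q := by
  cases ε <;> simp only [qm, cond] <;> omega

theorem Nc_eq (hq : 1 ≤ q) (ε : Bool) : Nc ε q = q * qm (!ε) q + 1 := by
  obtain ⟨k, rfl⟩ := Nat.exists_eq_add_of_le' hq
  cases ε
  · show (k + 1) ^ 2 - (k + 1) + 1 = (k + 1) * (k + 1 - 1) + 1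
    rw [Nat.add_sub_cancel, show (k + 1) ^ 2 = (k + 1) * k + (k + 1) by ring, Nat.add_sub_cancel]
  · show (k + 1) ^ 2 + (k + 1) + 1 = (k + 1) * (k + 1 + 1) + 1
    ring

theorem Nc_pos (ε : Bool) (q : ℕ) : 0 < Nc ε q := by
  cases ε <;> simp only [Nc, cond, N3, N6] <;> omega

theorem oL_pos (hq : 2 ≤ q) (ε : Bool) : 0 < oL ε q := by
  have h1 := qm_pos hq ε
  have h2 := Nc_pos ε q
  have h3 : 0 < q ^ 2 - 1 := by
    rw [← qm_mul (by omega) ε]
    exact Nat.mul_pos h1 (qm_pos hq _)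
  unfold oL
  positivity

theorem dd_dvd (ε : Bool) (q : ℕ) : dd ε q ∣ qm ε q := Nat.gcd_dvd_right _ _

theorem dd_cases (ε : Bool) (q : ℕ) : dd ε q = 1 ∨ dd ε q = 3 :=
  (Nat.dvd_prime Nat.prime_three).1 (Nat.gcd_dvd_left _ _)

theorem dd_pos (ε : Bool) (q : ℕ) : 0 < dd ε q := by
  rcases dd_cases ε q with h | h <;> omega

theorem dd_eq_one (h : ¬ 3 ∣ qm ε q) : dd ε q = 1 := (Nat.prime_three.coprime_iff_not_dvd).2 h

theorem dvd_two_of_qm (hq : 1 ≤ q) (h1 : r ∣ qm ε q) (h2 : r ∣ qm (!ε) q) : r ∣ 2 := by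
  have h3 : r ∣ q - 1 ∧ r ∣ q + 1 := by
    cases ε
    · exact ⟨h2, h1⟩
    · exact ⟨h1, h2⟩
  have h4 := Nat.dvd_sub h3.2 h3.1
  rwa [show q + 1 - (q - 1) = 2 by omega] at h4

theorem eq_one_of_qm (hq : 1 ≤ q) (h1 : r ∣ qm ε q) (h2 : r ∣ q) : r = 1 := by
  cases ε
  · exact Nat.dvd_one.1 ((Nat.dvd_add_right h2).1 h1)
  · have h4 := Nat.dvd_sub h2 h1
    rw [show q - qm true q = 1 by simp only [qm, cond]; omega] at h4
    exact Nat.dvd_one.1 h4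

theorem eq_one_of_Nc (hq : 1 ≤ q) (h1 : r ∣ qm (!ε) q) (h2 : r ∣ Nc ε q) : r = 1 := by
  rw [Nc_eq hq] at h2
  exact Nat.dvd_one.1 ((Nat.dvd_add_right (h1.mul_left _)).1 h2)

theorem eq_one_of_Nc' (hq : 1 ≤ q) (h1 : r ∣ q) (h2 : r ∣ Nc ε q) : r = 1 := by
  rw [Nc_eq hq] at h2
  exact Nat.dvd_one.1 ((Nat.dvd_add_right (h1.mul_right _)).1 h2)

/-- `(q - ε) (q² + ε q + 1) (q + ε) (q² - ε q + 1) = q⁶ - 1` -/
theorem six_eq (hq : 1 ≤ q) (ε : Bool) : qm ε q * Nc ε q * (qm (!ε) q * Nc (!ε) q) = q ^ 6 - 1 := by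
  have h : qm true q * Nc true q * (qm false q * Nc false q) = q ^ 6 - 1 := by
    rw [Nc_eq hq, Nc_eq hq]
    obtain ⟨k, rfl⟩ := Nat.exists_eq_add_of_le' hq
    simp only [qm, cond, Bool.not_true, Bool.not_false, Nat.add_sub_cancel]
    exact (Nat.sub_eq_of_eq_add (by ring)).symm
  cases ε
  · rw [mul_comm]
    exact h
  · exact h

/-- the odd primes of `q + ε` have their full part in `q + ε` -/
theorem fact_oL (hq : 2 ≤ q) (hr : r.Prime) (h2 : r ≠ 2) (h : r ∣ qm (!ε) q) :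
    (oL ε q).factorization r = (qm (!ε) q).factorization r := by
  have h1 := qm_pos hq ε
  have h1' := qm_pos hq (!ε)
  have h3 := Nc_pos ε q
  have h4 : ¬ r ∣ qm ε q := fun k => h2 ((Nat.prime_dvd_prime_iff_eq hr Nat.prime_two).1 (dvd_two_of_qm (by omega) k h))
  have h5 : ¬ r ∣ q ^ 3 := fun k => hr.one_lt.ne' (eq_one_of_qm (by omega) h (hr.dvd_of_dvd_pow k))
  have h6 : ¬ r ∣ Nc ε q := fun k => hr.one_lt.ne' (eq_one_of_Nc (by omega) h k)
  rw [oL, ← qm_mul (by omega) ε, Nat.factorization_mul (by positivity) (by positivity),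
    Nat.factorization_mul (by positivity) (by positivity), Nat.factorization_mul h1.ne' h1'.ne',
    Nat.factorization_mul h1.ne' h3.ne']
  simp only [Finsupp.add_apply, Nat.factorization_eq_zero_of_not_dvd h4, Nat.factorization_eq_zero_of_not_dvd h5,
    Nat.factorization_eq_zero_of_not_dvd h6]
  omega

end num

section grp

variable {ε : Bool} {q : ℕ} {L : Type} [Group L]

theorem LU_two (h : IsNamed (LU ε q) L) : 2 ≤ q := by
  cases ε
  · obtain ⟨F, _, _, hF, -⟩ := h.real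
    exact Cfsg.Agent.ClassicalGeometry.GUBasic.two_le hF
  · obtain ⟨F, _, _, hF, -⟩ := h.real
    rw [← hF]
    exact Fintype.one_lt_card

theorem LU_card (h : IsNamed (LU ε q) L) : dd ε q * Nat.card L = oL ε q := by
  have hq := LU_two h
  have h0 := h.eq
  refine Nat.eq_of_mul_eq_mul_left (qm_pos hq ε) ?_
  rw [oL, Nc_eq (by omega)]
  obtain ⟨k, rfl⟩ := Nat.exists_eq_add_of_le' (show 1 ≤ q by omega)
  have e2 : (k + 1) ^ 2 - 1 = k * (k + 2) := Nat.sub_eq_of_eq_add (by ring)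
  cases ε
  · have h1 : Nat.gcd 3 (k + 1 + 1) * (k + 1 + 1) * Nat.card L =
        (k + 1) ^ 3 * (((k + 1) ^ 1 + 1) * (((k + 1) ^ 2 - 1) * (((k + 1) ^ 3 + 1) * 1))) := h0
    simp only [dd, qm, cond, Bool.not_false, Nat.add_sub_cancel]
    rw [← mul_assoc, mul_comm (k + 1 + 1), h1, e2]
    ring
  · have h1 : Nat.gcd 3 (k + 1 - 1) * (k + 1 - 1) * Nat.card L =
        ((k + 1) ^ 3 - (k + 1) ^ 0) * (((k + 1) ^ 3 - (k + 1) ^ 1) * (((k + 1) ^ 3 - (k + 1) ^ 2) * 1)) := h0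
    have e3 : (k + 1) ^ 3 - (k + 1) ^ 0 = k * (k ^ 2 + 3 * k + 3) := Nat.sub_eq_of_eq_add (by ring)
    have e4 : (k + 1) ^ 3 - (k + 1) ^ 1 = (k + 1) * (k * (k + 2)) := Nat.sub_eq_of_eq_add (by ring)
    have e5 : (k + 1) ^ 3 - (k + 1) ^ 2 = (k + 1) ^ 2 * k := Nat.sub_eq_of_eq_add (by ring)
    simp only [dd, qm, cond, Bool.not_true, Nat.add_sub_cancel] at h1 ⊢
    rw [← mul_assoc, mul_comm k, h1, e2, e3, e4, e5]
    ring

/-- an element of order `(q² - 1) / d` -/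
theorem LU_xx (h : IsNamed (LU ε q) L) : ∃ x : L, dd ε q * orderOf x = q ^ 2 - 1 := by
  have hq := LU_two h
  cases ε
  · obtain ⟨F, _, _, hF, ⟨e⟩⟩ := h.real
    obtain ⟨z, hz⟩ := H127.PSUThreeEx.ex_three hF _ dvd_rfl
    refine ⟨e.symm z, ?_⟩
    rw [MulEquiv.orderOf_eq, hz]
    exact Nat.mul_div_cancel' ((dd_dvd false q).trans (Dvd.intro _ (qm_mul (by omega) false)))
  · obtain ⟨F, _, _, hF, ⟨e⟩⟩ := h.real
    obtain ⟨z, hz⟩ := H375.LThree.exists_order_xx (F := F)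
    refine ⟨e.symm z, ?_⟩
    rw [MulEquiv.orderOf_eq, hz, hF]
    exact H375.LThree.dd_mul_xx q (by omega)

/-- an element of order `(q² + ε q + 1) / d` -/
theorem LU_nn (h : IsNamed (LU ε q) L) : ∃ x : L, dd ε q * orderOf x = Nc ε q := by
  have hq := LU_two h
  cases ε
  · obtain ⟨F, _, _, hF, ⟨e⟩⟩ := h.real
    obtain ⟨p, hp⟩ := CharP.exists F
    have := Fact.mk (CharP.char_is_prime F p)
    obtain ⟨z, hz⟩ := H127.PSUThreeEx.ex_four p hF _ dvd_rfl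
    refine ⟨e.symm z, ?_⟩
    rw [MulEquiv.orderOf_eq, hz]
    refine Nat.mul_div_cancel' ?_
    rcases dd_cases false q with h1 | h1
    · rw [h1]
      exact one_dvd _
    · have h2 : 3 ∣ q + 1 := h1 ▸ dd_dvd false q
      rw [h1]
      obtain ⟨k, rfl⟩ : ∃ k, q = 3 * k + 2 := ⟨q / 3, by omega⟩
      refine ⟨3 * k ^ 2 + 3 * k + 1, ?_⟩
      rw [show (3 * k + 2) ^ 2 = (9 * k ^ 2 + 9 * k + 2) + (3 * k + 2) by ring, Nat.add_sub_cancel]
      ring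
  · obtain ⟨F, _, _, hF, ⟨e⟩⟩ := h.real
    obtain ⟨z, hz⟩ := H375.LThree.exists_order_nn (F := F)
    refine ⟨e.symm z, ?_⟩
    rw [MulEquiv.orderOf_eq, hz, hF]
    exact H375.LThree.dd_mul_nn q (by omega)

end grp

section cyc

variable {Γ : Type} [Group Γ] [Finite Γ] {K P : Subgroup Γ} {x : Γ} {r : ℕ}

/-- an `r`-subgroup of `K` is conjugate into a cyclic subgroup which contains the `r`-part of `|K|` -/
theorem conj_into (hr : r.Prime) (hx : x ∈ K) (h : r ^ (Nat.card K).factorization r ∣ orderOf x) (hP : P ≤ K)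
    (hp : IsPGroup r P) : ∃ g ∈ K, P ≤ zpowers (g * x * g⁻¹) := by
  have := Fact.mk hr
  set y : K := ⟨x, hx⟩ with hy
  have ho : orderOf y = orderOf x := orderOf_mk _ _
  have h1 : Nat.card (zpowers (y ^ (orderOf y / r ^ (Nat.card K).factorization r))) = r ^ (Nat.card K).factorization r := by
    rw [Nat.card_zpowers, orderOf_pow_orderOf_div (orderOf_pos y).ne' (ho ▸ h)]
  obtain ⟨Q, hQ⟩ := (hp.comap_subtype (K := K)).exists_le_sylow
  obtain ⟨g, hg⟩ := MulAction.exists_smul_eq K (Sylow.ofCard _ h1) Q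
  refine ⟨g, g.2, fun z hz => ?_⟩
  have h2 : (⟨z, hP hz⟩ : K) ∈ ((g • Sylow.ofCard _ h1 : Sylow r K) : Subgroup K) := hg ▸ hQ hz
  rw [Sylow.smul_def, Sylow.pointwise_smul_def, Sylow.coe_ofCard] at h2
  obtain ⟨_, ⟨k, rfl⟩, h3⟩ := (mem_smul_pointwise_iff_exists _ _ _).1 h2
  refine ⟨(orderOf y / r ^ (Nat.card K).factorization r : ℕ) * k, ?_⟩
  have h4 := congrArg Subtype.val h3
  show ((g : Γ) * x * (g : Γ)⁻¹) ^ _ = z
  rw [conj_zpow, zpow_mul, zpow_natCast]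
  exact h4

theorem cyc_of_elt (hr : r.Prime) (hx : x ∈ K) (h : r ^ (Nat.card K).factorization r ∣ orderOf x) (hP : P ≤ K)
    (hp : IsPGroup r P) : IsCyclic P := by
  obtain ⟨g, -, hg⟩ := conj_into hr hx h hP hp
  exact isCyclic_of_le hg

end cyc

end Cfsg.Agent.SM.Ex78
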