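import Cfsg.Agent.SM.Ex78.JM
import Cfsg.Agent.SM.Ex78.LU
import Cfsg.Agent.TH.ExG.Grp
import Cfsg.Agent.H134.Syl.Wr
import Cfsg.Agent.H394.Wei.Congr
import Cfsg.Agent.S2148

/-!
# SM (S3570), `S = G₂(4)`: a Sylow 5-subgroup lies in one `J₂` and in one `U₃(4)` (helper95)

`Tt P X` : the non-trivial elements of `P` which commute with an element of order 3 of `X`. The sets `Tt P J` and `Tt P U`
are disjoint and have at least 12 elements, so they are complementary.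
-/

set_option autoImplicit false
set_option linter.unusedSectionVars false

namespace Cfsg.Agent.SM.Ex78

open Subgroup MulAction Cfsg.Agent.H921.Cov Cfsg.Agent.H436 Cfsg.Agent.SB.Low

namespace Conj

open JM

section gen

variable {G : Type*} [Group G]

theorem ordc (g x : G) : orderOf (g * x * g⁻¹) = orderOf x :=
  orderOf_injective (MulAut.conj g).toMonoidHom (MulAut.conj g).injective x

theorem commc (g : G) {r y : G} (h : r * y = y * r) : g * r * g⁻¹ * (g * y * g⁻¹) = g * y * g⁻¹ * (g * r * g⁻¹) := by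
  rw [conj_mul, conj_mul, h]

theorem card_sub (H K : Subgroup G) : Nat.card (H.subgroupOf K) = Nat.card ↥(K ⊓ H) := by
  rw [← Nat.card_congr (subgroupOfEquivOfLe (inf_le_left : K ⊓ H ≤ K)).toEquiv, inf_subgroupOf_left]

/-- the non-trivial elements of `P` -/
def Ps (P : Sylow 5 G) : Set G := ((P : Subgroup G) : Set G) \ {1}

/-- the non-trivial elements of `P` which commute with an element of order 3 of `X` -/
def Tt (P : Sylow 5 G) (X : Subgroup G) : Set G := {y | y ∈ Ps P ∧ ∃ r ∈ X, orderOf r = 3 ∧ r * y = y * r}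

theorem Tt_conj {P : Sylow 5 G} {X : Subgroup G} {w y : G} (hw : w ∈ Nm P) (hX : w ∈ X) (hy : y ∈ Tt P X) :
    w * y * w⁻¹ ∈ Tt P X := by
  obtain ⟨⟨h1, h2⟩, r, hr, h3, h4⟩ := hy
  exact ⟨⟨cj hw h1, fun h => h2 (conj_eq_one_iff.1 h)⟩, w * r * w⁻¹, X.mul_mem (X.mul_mem hX hr) (X.inv_mem hX),
    (ordc w r).trans h3, commc w h4⟩

theorem Tt_line {P : Sylow 5 G} {X : Subgroup G} {y : G} (hy : y ∈ Tt P X) : (zpowers y : Set G) \ {1} ⊆ Tt P X := by
  obtain ⟨⟨h1, -⟩, r, hr, h3, h4⟩ := hy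
  rintro _ ⟨⟨k, rfl⟩, h5⟩
  exact ⟨⟨(P : Subgroup G).zpow_mem h1 k, h5⟩, r, hr, h3, (Commute.zpow_right h4 k).eq⟩

variable [Finite G]

theorem exists_in (P : Sylow 5 G) {y r : G} (hy : orderOf y = 5) (hr : orderOf r = 3) (hc : r * y = y * r) :
    ∃ y ∈ (P : Subgroup G), orderOf y = 5 ∧ ∃ r : G, orderOf r = 3 ∧ r * y = y * r := by
  have := f5
  obtain ⟨Q, hQ⟩ := (IsPGroup.of_card (p := 5) (n := 1) (G := zpowers y)
    (by rw [Nat.card_zpowers, hy, pow_one])).exists_le_sylow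
  obtain ⟨k, rfl⟩ := exists_smul_eq G Q P
  refine ⟨k * y * k⁻¹, mem_smul.2 ?_, (ordc k y).trans hy, k * r * k⁻¹, (ordc k r).trans hr, commc k hc⟩
  rw [show k⁻¹ * (k * y * k⁻¹) * k = y by group]
  exact hQ (mem_zpowers y)

theorem ne_one {y : G} (hy : orderOf y = 5) : y ≠ 1 := fun h => by
  rw [h, orderOf_one] at hy
  omega

theorem Tt_ne {P : Sylow 5 G} {X : Subgroup G} (hP : (P : Subgroup G) ≤ X) {y r : X} (hy : y ∈ (P.subtype hP : Subgroup X))
    (h5 : orderOf y = 5) (hr : orderOf r = 3) (hc : r * y = y * r) : (y : G) ∈ Tt P X :=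
  ⟨⟨hy, ne_one ((Subgroup.orderOf_coe y).trans h5)⟩, r, r.2, (Subgroup.orderOf_coe r).trans hr, congrArg Subtype.val hc⟩

theorem pow5 {P : Sylow 5 G} (h : St P) (h3 : 3 ∣ Nat.card (Nm P)) {x : G} (hx : x ∈ (P : Subgroup G)) : x ^ 5 = 1 := by
  let W : Subgroup G := {
    carrier := {x | x ∈ (P : Subgroup G) ∧ x ^ 5 = 1}
    mul_mem' := fun {a b} ha hb => ⟨mul_mem ha.1 hb.1, by
      rw [(show Commute a b from h.comm ha.1 hb.1).mul_pow, ha.2, hb.2, mul_one]⟩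
    one_mem' := ⟨one_mem _, one_pow _⟩
    inv_mem' := fun {a} ha => ⟨inv_mem ha.1, by rw [inv_pow, ha.2, inv_one]⟩ }
  obtain ⟨w, hw, hw3⟩ := exists_ord (by norm_num) h3
  rcases h.irr hw hw3 (Y := W) (fun x hx => hx.1)
    (fun x hx => ⟨cj hw hx.1, by rw [conj_pow, hx.2, mul_one, mul_inv_cancel]⟩) with h1 | h1
  · obtain ⟨y, hy, hy5⟩ := exists_ord (p := 5) (K := (P : Subgroup G)) (by norm_num) (by
      rw [show Nat.card (P : Subgroup G) = 25 from h.card]; norm_num)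
    exact absurd (mem_bot.1 (h1 ▸ (⟨hy, hy5 ▸ pow_orderOf_eq_one y⟩ : y ∈ W))) (ne_one hy5)
  · exact (h1.ge hx : x ∈ W).2

/-- the setting -/
structure Sx (P : Sylow 5 G) : Prop where
  st : St P
  nm : Nat.card (Nm P) = 300
  cb : ∀ y : G, orderOf y = 5 → Nat.card (centralizer ({y} : Set G)) ≤ 400

namespace Sx

variable {P : Sylow 5 G} (h : Sx P)
include h

theorem ord {y : G} (hy : y ∈ Ps P) : orderOf y = 5 := by
  have := f5
  exact orderOf_eq_prime (pow5 h.st (by rw [h.nm]; norm_num) hy.1) hy.2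

theorem ncard_Ps : (Ps P).ncard = 24 := by
  rw [Ps, Set.ncard_sdiff_singleton_of_mem (one_mem _), ← Nat.card_coe_set_eq]
  exact congrArg (· - 1) h.st.card

theorem nl {w y : G} (hw : w ∈ Nm P) (h3 : orderOf w = 3) (hy : y ∈ Ps P) : w * y * w⁻¹ ∉ zpowers y := fun h1 => by
  have h2 : Nat.card (zpowers y) = 5 := by rw [Nat.card_zpowers, h.ord hy]
  rcases h.st.irr hw h3 (zpowers_le.2 hy.1) (by
    rintro _ ⟨k, rfl⟩
    rw [← conj_zpow]
    exact zpow_mem h1 k) with h4 | h4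
  · rw [h4, card_bot] at h2
    omega
  · rw [h4, show Nat.card (P : Subgroup G) = 25 from h.st.card] at h2
    omega

theorem line_eq {y : G} (hy : y ∈ Ps P) {W : Subgroup G} (hW : Nat.card W = 5) (h1 : y ∈ W) : zpowers y = W :=
  eq_of_le_of_card_ge (zpowers_le.2 h1) (by rw [Nat.card_zpowers, h.ord hy, hW])

theorem disj {y y' : G} (hy : y ∈ Ps P) (hy' : y' ∈ Ps P) (h1 : y' ∉ zpowers y) :
    Disjoint ((zpowers y : Set G) \ {1}) ((zpowers y' : Set G) \ {1}) := by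
  refine Set.disjoint_left.2 fun z hz hz' => h1 ?_
  have h2 : z ∈ Ps P := ⟨zpowers_le.2 hy.1 hz.1, hz.2⟩
  rw [← h.line_eq h2 (by rw [Nat.card_zpowers, h.ord hy]) hz.1,
    h.line_eq h2 (by rw [Nat.card_zpowers, h.ord hy']) hz'.1]
  exact mem_zpowers y'

theorem ncard_line {y : G} (hy : y ∈ Ps P) : ((zpowers y : Set G) \ {1}).ncard = 4 := by
  rw [Set.ncard_sdiff_singleton_of_mem (one_mem _), ← Nat.card_coe_set_eq]
  exact congrArg (· - 1) ((Nat.card_zpowers y).trans (h.ord hy))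

theorem twelve {X : Subgroup G} {w y : G} (hw : w ∈ Nm P) (hX : w ∈ X) (h3 : orderOf w = 3) (hy : y ∈ Tt P X) :
    12 ≤ (Tt P X).ncard := by
  have h1 := Tt_conj hw hX hy
  have h2 := Tt_conj hw hX h1
  have h4 : w * (w * y * w⁻¹) * w⁻¹ ∉ zpowers y := by
    have h5 := h.nl (w := w ^ 2) (pow_mem hw 2) (by rw [orderOf_pow, h3]; norm_num) hy.1
    rwa [show w ^ 2 * y * (w ^ 2)⁻¹ = w * (w * y * w⁻¹) * w⁻¹ by rw [pow_two]; group] at h5
  have h5 := Set.ncard_le_ncard (Set.union_subset (Set.union_subset (Tt_line hy) (Tt_line h1)) (Tt_line h2))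
  rw [Set.ncard_union_eq (Set.disjoint_union_left.2 ⟨h.disj hy.1 h2.1 h4, h.disj h1.1 h2.1 (h.nl hw h3 h1.1)⟩),
    Set.ncard_union_eq (h.disj hy.1 h1.1 (h.nl hw h3 hy.1)), h.ncard_line hy.1, h.ncard_line h1.1,
    h.ncard_line h2.1] at h5
  exact h5

theorem part {X Y : Subgroup G} (hX : 12 ≤ (Tt P X).ncard) (hY : 12 ≤ (Tt P Y).ncard) (hd : Disjoint (Tt P X) (Tt P Y)) :
    Tt P Y = Ps P \ Tt P X := by
  refine Set.eq_of_subset_of_ncard_le (fun y hy => ⟨hy.1, fun h1 => Set.disjoint_left.1 hd h1 hy⟩) ?_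
  rw [Set.ncard_sdiff fun y hy => hy.1, h.ncard_Ps]
  omega

theorem c1 {y : G} (hy : y ∈ Ps P) {H : Subgroup G} (hP : (P : Subgroup G) ≤ H) (hC : H ≤ centralizer {y})
    (h3 : 3 ∣ Nat.card H) : Nat.card H = 150 ∨ Nat.card H = 300 := by
  have h1 := card_inf H (Nm P)
  have h2 := rel_mod hP
  have h4 : Nat.card H ≤ 400 := (card_le_of_le hC).trans (h.cb y (h.ord hy))
  obtain ⟨c, hc⟩ : 25 ∣ Nat.card ↥(H ⊓ Nm P) := h.st.card ▸ card_dvd_of_le (le_inf hP (le_Nm P))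
  have h5 : 0 < Nat.card ↥(H ⊓ Nm P) := Nat.card_pos
  rw [← h1] at h3
  have h6 : 3 ∣ (Nm P).relIndex H := ((Nat.Prime.dvd_mul (by norm_num)).1 h3).resolve_left fun h6 => by
    obtain ⟨w, hw, hw3⟩ := exists_ord (by norm_num) h6
    exact hy.2 (h.st.eq_one hw.2 hw3 hy.1 (mem_centralizer_singleton_iff.1 (hC hw.1)).symm)
  have h7 := Nat.mul_le_mul_right ((Nm P).relIndex H) (show 25 ≤ Nat.card ↥(H ⊓ Nm P) by omega)
  have h8 : (Nm P).relIndex H = 6 := by omega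
  rw [h8] at h1
  omega

theorem le_C {y : G} (hy : y ∈ Ps P) : (P : Subgroup G) ≤ centralizer {y} := fun _ hx =>
  mem_centralizer_singleton_iff.2 (h.st.comm hx hy.1)

theorem c1' {X : Subgroup G} (hP : (P : Subgroup G) ≤ X) {y : G} (hy : y ∈ Tt P X) :
    Nat.card ↥(centralizer {y} ⊓ X) = 150 ∨ Nat.card ↥(centralizer {y} ⊓ X) = 300 := by
  obtain ⟨h1, r, hr, h3, h4⟩ := hy
  exact h.c1 h1 (le_inf (h.le_C h1) hP) inf_le_left
    (h3 ▸ JA.dvd_of_mem (⟨mem_centralizer_singleton_iff.2 h4, hr⟩ : r ∈ centralizer {y} ⊓ X))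

theorem c2 {X Y : Subgroup G} (hX : (P : Subgroup G) ≤ X) (hY : (P : Subgroup G) ≤ Y) {y : G} (h1 : y ∈ Tt P X)
    (h2 : y ∈ Tt P Y) : y ∈ Tt P (X ⊓ Y) := by
  have a1 := h.c1' hX h1
  have a2 := h.c1' hY h2
  have a3 : Nat.card ↥(centralizer {y} ⊓ (⊤ : Subgroup G)) ≤ 300 := by
    obtain ⟨b1, r, -, b2⟩ := h1
    have := h.c1' le_top ⟨b1, r, mem_top r, b2⟩
    omega
  rw [inf_top_eq] at a3
  have a4 := H134.Syl.card_mul_le' (inf_le_left : centralizer {y} ⊓ X ≤ _) (inf_le_left : centralizer {y} ⊓ Y ≤ _)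
  have a5 := card_dvd_of_le (inf_le_left : (centralizer {y} ⊓ X) ⊓ (centralizer {y} ⊓ Y) ≤ _)
  have a6 := card_dvd_of_le (inf_le_right : (centralizer {y} ⊓ X) ⊓ (centralizer {y} ⊓ Y) ≤ _)
  have a7 : 25 ∣ Nat.card ↥((centralizer {y} ⊓ X) ⊓ (centralizer {y} ⊓ Y)) :=
    h.st.card ▸ card_dvd_of_le (le_inf (le_inf (h.le_C h1.1) hX) (le_inf (h.le_C h1.1) hY))
  have a8 := Nat.mul_le_mul_right (Nat.card ↥((centralizer {y} ⊓ X) ⊓ (centralizer {y} ⊓ Y))) a3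
  have a9 : 3 ∣ Nat.card ↥((centralizer {y} ⊓ X) ⊓ (centralizer {y} ⊓ Y)) := by
    obtain ⟨c, hc⟩ := a7
    rw [hc] at a4 a5 a6 a8 ⊢
    have b1 : c ≤ 12 := by
      have := Nat.le_of_dvd (by omega) a5
      omega
    rcases a1 with a1 | a1 <;> rcases a2 with a2 | a2 <;> rw [a1] at a4 a5 <;> rw [a2] at a4 a6 <;>
      interval_cases c <;> omega
  obtain ⟨r, hr, hr3⟩ := exists_ord (by norm_num) a9
  exact ⟨h1.1, r, ⟨hr.1.2, hr.2.2⟩, hr3, mem_centralizer_singleton_iff.1 hr.1.1⟩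

theorem c3 {X : Subgroup G} (hX : (P : Subgroup G) ≤ X) {y y' : G} (h1 : y ∈ Tt P X) (h2 : y' ∈ Tt P X)
    (h3 : y' ∉ zpowers y) : 900 ≤ Nat.card X := by
  have a1 := h.c1' hX h1
  have a2 := h.c1' hX h2
  have a4 := H134.Syl.card_mul_le' (inf_le_right : centralizer {y} ⊓ X ≤ _) (inf_le_right : centralizer {y'} ⊓ X ≤ _)
  have a5 : (centralizer {y} ⊓ X) ⊓ (centralizer {y'} ⊓ X) ≤ P := fun c hc => by
    have b1 : y ∈ (P : Subgroup G) ⊓ centralizer {c} :=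
      ⟨h1.1.1, mem_centralizer_singleton_iff.2 (mem_centralizer_singleton_iff.1 hc.1.1).symm⟩
    have b2 : y' ∈ (P : Subgroup G) ⊓ centralizer {c} :=
      ⟨h2.1.1, mem_centralizer_singleton_iff.2 (mem_centralizer_singleton_iff.1 hc.2.1).symm⟩
    rcases h.st.cases (inf_le_left : (P : Subgroup G) ⊓ centralizer {c} ≤ P) with b3 | b3 | b3
    · exact absurd (mem_bot.1 (b3 ▸ b1)) h1.1.2
    · exact absurd (h.line_eq h1.1 b3 b1 ▸ b2) h3
    · exact h.st.cen (mem_centralizer_iff.2 fun x hx => mem_centralizer_singleton_iff.1 (inf_eq_left.1 b3 hx))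
  have a6 := Nat.mul_le_mul_left (Nat.card X) ((card_le_of_le a5).trans h.st.card.le)
  have a7 := Nat.mul_le_mul (show 150 ≤ Nat.card ↥(centralizer {y} ⊓ X) by omega)
    (show 150 ≤ Nat.card ↥(centralizer {y'} ⊓ X) by omega)
  omega

end Sx

end gen

variable {G : Type} [Group G] [Finite G]

theorem U_card {U : Type} [Group U] (hU : IsNamed (.psu 3 4) U) : Nat.card U = 62400 := by
  have h := LU_card (ε := false) (q := 4) hU
  have h1 : dd false 4 = 1 := by decide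
  have h2 : oL false 4 = 62400 := by decide
  rwa [h1, h2, one_mul] at h

theorem U_idx {U : Type} [Group U] (hU : IsNamed (.psu 3 4) U) (H : Subgroup U) (hH : H ≠ ⊤) : 65 ≤ H.index := by
  obtain ⟨F, _, _, hF, ⟨e⟩⟩ := hU.real
  have h0 : (H.map (e : U →* PSU 3 F 4)).index = H.index := index_map_of_bijective e.bijective H
  have h := (S2148.result 4 hF (by norm_num) (by norm_num)).1 (H.map (e : U →* PSU 3 F 4)) fun h =>
    hH (index_eq_one.1 (h0.symm.trans (index_eq_one.2 h)))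
  rwa [h0] at h

section U

variable {P : Sylow 5 G} (h : Sx P) {U : Subgroup G} (hU : IsNamed (.psu 3 4) U) (hP : (P : Subgroup G) ≤ U)
include h hU hP

theorem U_T : ∃ y, y ∈ Tt P U := by
  obtain ⟨x, hx⟩ := LU_xx (ε := false) (q := 4) hU
  have h1 : dd false 4 = 1 := by decide
  have h2 : orderOf x = 15 := by
    rw [h1, one_mul] at hx
    exact hx
  obtain ⟨y, hy, h5, r, hr, hc⟩ := exists_in (P.subtype hP) (y := x ^ 3) (r := x ^ 5) (by rw [orderOf_pow, h2]; norm_num)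
    (by rw [orderOf_pow, h2]; norm_num) (Commute.pow_pow_self x 5 3).eq
  exact ⟨y, Tt_ne hP hy h5 hr hc⟩

theorem U_w : ∃ w ∈ U ⊓ Nm P, orderOf w = 3 := by
  have := f5
  refine exists_ord (by norm_num) ?_
  by_contra h3
  have h1 := card_inf U (Nm P)
  have h2 := rel_mod hP
  have h4 : Nat.card ↥(U ⊓ Nm P) ∣ 300 := h.nm ▸ card_dvd_of_le inf_le_right
  obtain ⟨c, hc⟩ : 25 ∣ Nat.card ↥(U ⊓ Nm P) := h.st.card ▸ card_dvd_of_le (le_inf hP (le_Nm P))
  rw [U_card hU, hc] at h1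
  have h5 : c = 1 := by
    rw [hc] at h3 h4
    have h6 : c ≤ 12 := by
      have := Nat.le_of_dvd (by norm_num) h4
      omega
    interval_cases c <;> omega
  have h6 := h.st.sub hP
  have h7 : (P.subtype hP : Subgroup U) = Nm (P.subtype hP) :=
    eq_of_le_of_card_ge (le_Nm _) (by rw [Nm_sub, card_sub, hc, h5]; exact h6.card.ge)
  have h8 := (MonoidHom.ker_transferSylow_isComplement' (P.subtype hP) fun x hx =>
    mem_centralizer_iff.2 fun y hy => h6.comm hy (h7.ge hx)).symm.index_eq_card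
  rw [show Nat.card (P.subtype hP : Subgroup U) = 25 from h6.card] at h8
  exact absurd (h8 ▸ U_idx hU _ fun h9 => absurd (h8.symm.trans (index_eq_one.2 h9)) (by norm_num)) (by norm_num)

theorem U_le {X : Subgroup G} (hX : (P : Subgroup G) ≤ X) {y y' : G} (h1 : y ∈ Tt P U) (h2 : y ∈ Tt P X) (h1' : y' ∈ Tt P U)
    (h2' : y' ∈ Tt P X) (h3 : y' ∉ zpowers y) : U ≤ X := by
  have a1 := h.c3 (le_inf hP hX) (h.c2 hP hX h1 h2) (h.c2 hP hX h1' h2') h3
  have a2 := card_inf U X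
  obtain ⟨c, hc⟩ : 25 ∣ Nat.card ↥(U ⊓ X) := h.st.card ▸ card_dvd_of_le (le_inf hP hX)
  by_contra a3
  have a4 : 65 ≤ X.relIndex U := U_idx hU _ fun a4 => a3 (subgroupOf_eq_top.1 a4)
  have a5 := Nat.mul_le_mul_right (X.relIndex U) a1
  rw [U_card hU] at a2
  have a6 : X.relIndex U ≤ 69 := by omega
  rw [hc] at a2
  generalize X.relIndex U = k at *
  interval_cases k <;> omega

theorem U_12 : 12 ≤ (Tt P U).ncard := by
  obtain ⟨y, hy⟩ := U_T h hU hP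
  obtain ⟨w, hw, h3⟩ := U_w h hU hP
  exact h.twelve hw.2 hw.1 h3 hy

theorem U_disj {J : Subgroup G} (hJ : Nat.card J = 604800) (hN : Nm P ≤ J) : Disjoint (Tt P U) (Tt P J) := by
  refine Set.disjoint_left.2 fun y h1 h2 => ?_
  obtain ⟨w, hw, h3⟩ := U_w h hU hP
  have h4 := card_dvd_of_le (U_le h hU hP ((le_Nm P).trans hN) h1 h2 (Tt_conj hw.2 hw.1 h1) (Tt_conj hw.2 (hN hw.2) h2)
    (h.nl hw.2 h3 h1.1))
  rw [U_card hU, hJ] at h4
  omega

end U

/-- the facts on `G₂(4)` -/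
structure Gb (G : Type) [Group G] : Prop where
  card : Nat.card G = 251596800
  cb : ∀ y : G, orderOf y = 5 → Nat.card (centralizer ({y} : Set G)) ≤ 400
  tor : ∀ E : Subgroup G, EA 5 E → Cz E ≤ E → Nat.card (Nz E) ≤ 300

theorem gb_of (hG : IsNamed (.g2 4) G) : Gb G := by
  obtain ⟨F, _, _, hF, ⟨e⟩⟩ := hG.real
  obtain ⟨p, hp⟩ := CharP.exists F
  obtain ⟨n, hp', hn⟩ := FiniteField.card F p
  have := Fact.mk hp'
  have h2 : p = 2 := by
    have h3 : p ∣ 2 ^ 2 := by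
      rw [show 2 ^ 2 = Fintype.card F from hF.symm, hn]
      exact dvd_pow_self p n.ne_zero
    exact (Nat.prime_dvd_prime_iff_eq hp' Nat.prime_two).1 (hp'.dvd_of_dvd_pow h3)
  have h := TH.ExG.gr_of (p := p) (by omega) (T := (⊤ : Subgroup G)) (topEquiv.trans e)
  rw [hF, h2] at h
  refine ⟨card_top.symm.trans (h.card.trans (by decide)), fun y hy => ?_, fun E hE hC => ?_⟩
  · have h3 := h.cb y (mem_top y) (by rw [hy]; norm_num)
    rw [inf_top_eq, hy] at h3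
    exact h3.trans (by decide)
  · obtain ⟨c, i, h3, -, h4, h5⟩ := h.tor 5 E le_top hE (by norm_num) (by norm_num) (Group.isSolvable_of_comm fun a b =>
      Subtype.ext (hE.comm _ (hC a.2.1) _ (hC b.2.1)))
    rw [inf_top_eq] at h3
    exact h3.le.trans (Nat.mul_le_mul h4 h5)

theorem J_facts (hG : Gb G) {P : Sylow 5 G} {J : Subgroup G} (hJ : Spor.IsoJ2 J) (hP : (P : Subgroup G) ≤ J) :
    Sx P ∧ Nm P ≤ J ∧ Nat.card J = 604800 ∧ ∃ y, y ∈ Tt P J := by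
  obtain ⟨h1, h2, h3⟩ := st_J hJ (P.subtype hP)
  obtain ⟨z, u, f, d, U, V, H0, D⟩ := JA.exists_dt hJ
  obtain ⟨w, hw, hw5⟩ := JA.exists_w D
  obtain ⟨y, hy, h5, r, hr, hc⟩ := exists_in (P.subtype hP) hw5 D.hd (D.dH w hw)
  have h4 : Nat.card (centralizer ({y} : Set J)) = 300 := (JA.card_C_five D h5).resolve_right fun h4 => by
    have h6 := JA.dvd_of_mem (mem_centralizer_singleton_iff.2 hc)
    rw [hr, h4] at h6
    omega
  have h6 : (centralizer {(y : G)}).subgroupOf J = centralizer {y} := by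
    ext x
    rw [mem_subgroupOf, mem_centralizer_singleton_iff, mem_centralizer_singleton_iff, Subtype.ext_iff]
    rfl
  rw [← h6, card_sub] at h4
  have h7 : J ⊓ centralizer {(y : G)} = centralizer {(y : G)} := by
    refine eq_of_le_of_card_ge inf_le_right ?_
    have a1 := hG.cb y ((Subgroup.orderOf_coe y).trans h5)
    have a2 := card_dvd_of_le (inf_le_right : J ⊓ centralizer {(y : G)} ≤ _)
    have a3 : 0 < Nat.card (centralizer ({(y : G)} : Set G)) := Nat.card_pos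
    rw [h4] at a2 ⊢
    omega
  have h8 : St P := ⟨(Nat.card_congr (subgroupOfEquivOfLe hP).toEquiv).symm.trans h1.card, fun x hx => by
    have a1 : x ∈ J := (h7.ge (mem_centralizer_singleton_iff.2 (mem_centralizer_iff.1 hx y hy).symm)).1
    exact h1.cen (x := ⟨x, a1⟩) (mem_centralizer_iff.2 fun a ha => Subtype.ext (mem_centralizer_iff.1 hx a ha))⟩
  rw [Nm_sub, card_sub] at h2
  have h9 : 3 ∣ Nat.card (Nm P) := Dvd.dvd.trans (by rw [h2]; norm_num) (card_dvd_of_le (inf_le_right : J ⊓ Nm P ≤ _))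
  have h10 : Nat.card (Nm P) ≤ 300 := hG.tor P ⟨by norm_num, fun a1 => ne_one ((Subgroup.orderOf_coe y).trans h5)
    (mem_bot.1 (a1 ▸ (hy : (y : G) ∈ (P : Subgroup G)))), fun x hx => pow5 h8 h9 hx, fun a ha b hb => h8.comm ha hb⟩ h8.cen
  have h11 : J ⊓ Nm P = Nm P := eq_of_le_of_card_ge inf_le_right (h2 ▸ h10)
  exact ⟨⟨h8, h11 ▸ h2, hG.cb⟩, inf_eq_right.1 h11, h3, y, Tt_ne hP hy h5 hr hc⟩

/-- **A Sylow 5-subgroup lies in one `J₂` and in one `U₃(4)`.** -/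
theorem uniq (hM : BoxJM) (hG : Gb G) {P : Sylow 5 G} {J₁ J₂ U₁ U₂ : Subgroup G} (hJ₁ : Spor.IsoJ2 J₁) (hJ₂ : Spor.IsoJ2 J₂)
    (hU₁ : IsNamed (.psu 3 4) U₁) (hU₂ : IsNamed (.psu 3 4) U₂) (a1 : (P : Subgroup G) ≤ J₁) (a2 : (P : Subgroup G) ≤ J₂)
    (b1 : (P : Subgroup G) ≤ U₁) (b2 : (P : Subgroup G) ≤ U₂) : J₁ = J₂ ∧ U₁ = U₂ := by
  obtain ⟨h, n1, c1, y, hy⟩ := J_facts hG hJ₁ a1
  obtain ⟨-, n2, c2, y', hy'⟩ := J_facts hG hJ₂ a2
  obtain ⟨w, hw, h3⟩ := exists_ord (p := 3) (K := Nm P) (by norm_num) (by rw [h.nm]; norm_num)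
  have t1 := h.twelve hw (n1 hw) h3 hy
  have t2 := h.twelve hw (n2 hw) h3 hy'
  have s1 := U_12 h hU₁ b1
  have s2 := U_12 h hU₂ b2
  constructor
  · have e1 : Tt P J₁ = Tt P J₂ := (h.part s1 t1 (U_disj h hU₁ b1 c1 n1)).trans (h.part s1 t2 (U_disj h hU₁ b1 c2 n2)).symm
    obtain ⟨e2, r, hr, hr3, hc⟩ := h.c2 a1 a2 hy (e1 ▸ hy)
    have e3 : Nm (P.subtype a1) < J₂.subgroupOf J₁ := by
      rw [Nm_sub]
      refine lt_of_le_of_ne (fun x hx => n2 hx) fun e3 => e2.2 (h.st.eq_one ?_ hr3 e2.1 hc.symm)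
      exact (e3.ge (hr.2 : (⟨r, hr.1⟩ : J₁) ∈ J₂.subgroupOf J₁) : (⟨r, hr.1⟩ : J₁) ∈ (Nm P).subgroupOf J₁)
    exact eq_of_le_of_card_ge (subgroupOf_eq_top.1 ((hM J₁ hJ₁ (P.subtype a1)).2 _ e3)) (by rw [c1, c2])
  · have e1 : Tt P U₁ = Tt P U₂ :=
      (h.part t1 s1 (U_disj h hU₁ b1 c1 n1).symm).trans (h.part t1 s2 (U_disj h hU₂ b2 c1 n1).symm).symm
    obtain ⟨x, hx⟩ := U_T h hU₁ b1
    obtain ⟨v, hv, hv3⟩ := U_w h hU₁ b1
    have hx' := Tt_conj hv.2 hv.1 hx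
    exact eq_of_le_of_card_ge (U_le h hU₁ b1 b2 hx (e1 ▸ hx) hx' (e1 ▸ hx') (h.nl hv.2 hv3 hx.1))
      (by rw [U_card hU₁, U_card hU₂])

theorem exists_syl (hG : Gb G) {K : Subgroup G} (hK : 25 ∣ Nat.card K) : ∃ P : Sylow 5 G, (P : Subgroup G) ≤ K := by
  have := f5
  obtain ⟨Y, h1, h2⟩ := exists_25 hK
  have h3 := Y.card_mul_index
  rw [h2, hG.card] at h3
  exact ⟨(IsPGroup.of_card (n := 2) h2).toSylow (by omega), h1⟩

theorem smul_le {P : Sylow 5 G} {K : Subgroup G} (h : (P : Subgroup G) ≤ K) (g : G) :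
    ((g • P : Sylow 5 G) : Subgroup G) ≤ K.map (MulAut.conj g).toMonoidHom := fun x hx =>
  ⟨g⁻¹ * x * g, h (mem_smul.1 hx), by simp [mul_assoc]⟩

end Conj

/-- **The pairs `(J₂, U₃(4))` of `G₂(4)` with a common Sylow 5-subgroup are conjugate.** -/
theorem boxConj_of (hM : BoxJM) : BoxConj := by
  intro G _ _ hG J₁ J₂ U₁ U₂ hJ₁ hJ₂ hU₁ hU₂ h1 h2
  have := JM.f5
  have hB := Conj.gb_of hG
  obtain ⟨P, hP⟩ := Conj.exists_syl hB h1
  obtain ⟨Q, hQ⟩ := Conj.exists_syl hB h2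
  obtain ⟨g, rfl⟩ := exists_smul_eq G P Q
  obtain ⟨e⟩ := hJ₁
  exact ⟨g, Conj.uniq hM hB ⟨(J₁.equivMapOfInjective _ (MulAut.conj g).injective).symm.trans e⟩ hJ₂
    (H394.Wei.named_congr hU₁ (U₁.equivMapOfInjective _ (MulAut.conj g).injective).symm) hU₂
    (Conj.smul_le (hP.trans inf_le_left) g) (hQ.trans inf_le_left) (Conj.smul_le (hP.trans inf_le_right) g)
    (hQ.trans inf_le_right)⟩

theorem boxConj : BoxConj := boxConj_of boxJM

end Cfsg.Agent.SM.Ex78
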