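import Cfsg.Agent.SM.Ex78.Defs
import Cfsg.Agent.H612.MinNormal

/-!
# SM (S3570), `S = G₂(q)`: `boxT2` and the lemma `T2.sy` (helper2)
-/

set_option autoImplicit false
set_option linter.unusedSectionVars false

namespace Cfsg.Agent.SM.Ex78

open Cfsg Subgroup

namespace T2

variable {Γ : Type} [Group Γ] [Finite Γ] {M S H T B : Subgroup Γ}

/-- a cyclic group has one subgroup of order `r` -/
theorem mem_zp {P : Subgroup Γ} (hP : IsCyclic P) {r : ℕ} (hr : 0 < r) {x y : Γ} (hx : x ∈ P) (hy : y ∈ P)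
    (ho : orderOf x = r) (h : y ^ r = 1) : y ∈ zpowers x := by
  classical
  have := Fintype.ofFinite P
  have h1 : (Finset.univ.filter fun a : P => a ∈ zpowers (⟨x, hx⟩ : P)) = Finset.univ.filter fun a : P => a ^ r = 1 := by
    refine Finset.eq_of_subset_of_card_le (fun a ha => ?_) ((IsCyclic.card_pow_eq_one_le hr).trans ?_)
    · rw [Finset.mem_filter] at ha ⊢
      refine ⟨ha.1, orderOf_dvd_iff_pow_eq_one.1 ((orderOf_dvd_of_mem_zpowers ha.2).trans ?_)⟩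
      rw [orderOf_mk, ho]
    · rw [← Fintype.card_subtype, ← Nat.card_eq_fintype_card, Nat.card_zpowers, orderOf_mk, ho]
  obtain ⟨k, hk⟩ := (Finset.mem_filter.1 (h1.ge (Finset.mem_filter.2 ⟨Finset.mem_univ ⟨y, hy⟩, Subtype.ext h⟩))).2
  exact ⟨k, congrArg Subtype.val hk⟩

theorem pg_zp {p k : ℕ} {y : Γ} (h : y ^ p ^ k = 1) : IsPGroup p (zpowers y) := fun a =>
  ⟨k, Subtype.ext (orderOf_dvd_iff_pow_eq_one.1 ((orderOf_dvd_of_mem_zpowers a.2).trans (orderOf_dvd_of_pow_eq_one h)))⟩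

theorem pg_sup {A N : Subgroup Γ} {p k : ℕ} (hp : IsPGroup p N) (hn : ∀ g ∈ A, ∀ x ∈ N, g * x * g⁻¹ ∈ N) {y : Γ} (hy : y ∈ A)
    (h : y ^ p ^ k = 1) : IsPGroup p ↥(zpowers y ⊔ N) :=
  IsPGroup.to_sup_of_normal_right' (pg_zp h) hp (zpowers_le.2 (mem_normalizer_fintype (hn y hy)))

/-- **SY**: a normal `r`-subgroup of `A`, `r` odd -/
theorem sy (f : Fac M S H T B) (hC : Cy (T ⊓ B)) {r : ℕ} (hr : r.Prime) (h2 : r ≠ 2) {N : Subgroup Γ} (hN : N ≤ T ⊓ B)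
    (h0 : N ≠ ⊥) (hp : IsPGroup r N) (hn : ∀ g ∈ T ⊓ B, ∀ x ∈ N, g * x * g⁻¹ ∈ N) : Iv T B r := by
  have := Fact.mk hr
  obtain ⟨x, hx⟩ := exists_prime_orderOf_dvd_card' (G := N) r (hp.card_eq_or_dvd.resolve_left fun k => h0 (card_eq_one.1 k))
  have ho : orderOf x.1 = r := by rw [orderOf_coe, hx]
  have key : ∀ y ∈ T ⊓ B, y ^ r = 1 → y ∈ zpowers x.1 := fun y hy h =>
    mem_zp (hC r hr h2 _ (sup_le (zpowers_le.2 hy) hN) (pg_sup (k := 1) hp hn hy (by rwa [pow_one]))) hr.pos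
      (mem_sup_right x.2) (mem_sup_left (mem_zpowers y)) ho h
  have hE : zpowers x.1 ≤ T ⊓ B := zpowers_le.2 (hN x.2)
  have hz : ∀ g z : Γ, z ∈ zpowers x.1 → (g * z * g⁻¹) ^ r = 1 := fun g z hz => by
    rw [conj_pow, orderOf_dvd_iff_pow_eq_one.1 ((orderOf_dvd_of_mem_zpowers hz).trans ho.dvd), mul_one, mul_inv_cancel]
  have h3 := f.nrm hE (fun k => hr.one_lt.ne' (by rw [← ho, zpowers_eq_bot.1 k, orderOf_one]))
    fun g hg z k => key _ (f.conjA hg (hE k)) (hz g z k)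
  refine ⟨hr, h2, fun hd => ?_, _, hE, by rw [Nat.card_zpowers, ho], h3⟩
  obtain ⟨Q, hQ⟩ := ((pg_zp (p := r) (k := 1) (y := x.1) (by rw [pow_one, ← ho, pow_orderOf_eq_one])).comap_subtype
    (K := T)).exists_le_sylow
  refine Q.not_dvd_index (hd.trans (index_dvd_of_le (by_contra fun k => ?_)))
  have := Q.isPGroup'.isNilpotent
  obtain ⟨y, hy1, hy2⟩ := SetLike.exists_of_lt (Group.normalizerCondition_of_isNilpotent
    ((B.subgroupOf T).subgroupOf (Q : Subgroup T)) (lt_top_iff_ne_top.2 fun h => k (subgroupOf_eq_top.1 h)))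
  refine hy2 (h3.le ⟨y.1.2, mem_normalizer_fintype fun z k => key _ ⟨T.mul_mem (T.mul_mem y.1.2 (hE k).1) (T.inv_mem y.1.2),
    ?_⟩ (hz _ z k)⟩).2
  exact (mem_normalizer_iff.1 hy1 ⟨⟨z, (hE k).1⟩, hQ k⟩).1 (hE k).2

/-- a minimal normal subgroup -/
theorem dich {A : Subgroup Γ} (h0 : A ≠ ⊥) : (∃ (l : ℕ) (N : Subgroup Γ), l.Prime ∧ N ≤ A ∧ N ≠ ⊥ ∧
    (∀ g ∈ A, ∀ x ∈ N, g * x * g⁻¹ ∈ N) ∧ (∀ a ∈ N, ∀ b ∈ N, a * b = b * a) ∧ ∀ a ∈ N, a ^ l = 1) ∨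
      ∃ L : Subgroup A, NS L := by
  have := (nontrivial_iff_ne_bot A).2 h0
  obtain ⟨N, -, hN⟩ := exists_minimal_le_of_wellFoundedLT (fun N : Subgroup A => N.Normal ∧ N ≠ ⊥) ⊤ ⟨inferInstance, top_ne_bot⟩
  have := hN.prop.1
  have hmin : ∀ K : Subgroup A, K.Normal → K ≤ N → K = ⊥ ∨ K = N := fun K h1 h2 =>
    (em (K = ⊥)).imp_right fun h3 => le_antisymm h2 (hN.le_of_le ⟨h1, h3⟩ h2)
  by_cases hc : ∀ a ∈ N, ∀ b ∈ N, a * b = b * a
  · obtain ⟨l, hl, hd⟩ := Nat.exists_prime_and_dvd fun k => hN.prop.2 (card_eq_one.1 k)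
    have := Fact.mk hl
    obtain ⟨x, hx⟩ := exists_prime_orderOf_dvd_card' l hd
    let K : Subgroup A :=
      { carrier := {a | a ∈ N ∧ a ^ l = 1}
        one_mem' := ⟨one_mem _, one_pow _⟩
        mul_mem' := fun {a b} ha hb => ⟨mul_mem ha.1 hb.1, by
          rw [Commute.mul_pow (hc a ha.1 b hb.1), ha.2, hb.2, one_mul]⟩
        inv_mem' := fun {a} ha => ⟨inv_mem ha.1, by rw [inv_pow, ha.2, inv_one]⟩ }
    have h1 : K = N := (hmin K ⟨fun a ha g => ⟨hN.prop.1.conj_mem a ha.1 g, by rw [conj_pow, ha.2, mul_one, mul_inv_cancel]⟩⟩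
      fun a ha => ha.1).resolve_left fun k => hl.one_lt.ne' (by
        have h2 : x.1 ∈ K := ⟨x.2, by rw [← hx, ← orderOf_coe, pow_orderOf_eq_one]⟩
        rw [← hx, ← orderOf_coe, mem_bot.1 (k.le h2), orderOf_one])
    refine .inl ⟨l, N.map A.subtype, hl, map_subtype_le _,
      fun k => hN.prop.2 ((map_eq_bot_iff_of_injective _ A.subtype_injective).1 k), ?_, ?_, ?_⟩
    · rintro g hg _ ⟨a, ha, rfl⟩
      exact ⟨_, hN.prop.1.conj_mem a ha ⟨g, hg⟩, rfl⟩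
    · rintro _ ⟨a, ha, rfl⟩ _ ⟨b, hb, rfl⟩
      exact congrArg Subtype.val (hc a ha b hb)
    · rintro _ ⟨a, ha, rfl⟩
      exact congrArg Subtype.val (h1.ge ha).2
  · obtain ⟨L, -, -, h1, h2, -⟩ := H612.MinNormal.exists_factor N hN.prop.2 hmin hc
    exact .inr ⟨L, h1, h2⟩

theorem pg_of {N : Subgroup Γ} {l : ℕ} (h : ∀ a ∈ N, a ^ l = 1) : IsPGroup l N := fun a =>
  ⟨1, Subtype.ext (by rw [pow_one]; exact h a a.2)⟩

theorem dvd_two {G : Type} [Group G] [Finite G] (hp : IsPGroup 2 G) (h4 : ¬ 4 ∣ Nat.card G) : Nat.card G ∣ 2 := by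
  obtain ⟨k, hk⟩ := hp.exists_card_eq
  rw [hk] at h4 ⊢
  exact pow_dvd_pow 2 (show k ≤ 1 from not_lt.1 fun h => h4 (pow_dvd_pow 2 (show 2 ≤ k from h)))

theorem eq_of {P : Subgroup Γ} (h : Nat.card P ∣ 2) {a b : Γ} (ha : a ∈ P) (hb : b ∈ P) (h1 : a ≠ 1) (h2 : b ≠ 1) : a = b := by
  rcases (Nat.dvd_prime Nat.prime_two).1 h with k | k
  · exact absurd (mem_bot.1 ((card_eq_one.1 k).le ha)) h1
  · exact congrArg Subtype.val (((Nat.card_eq_two_iff' 1).1 k).unique (y₁ := ⟨a, ha⟩) (y₂ := ⟨b, hb⟩)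
      (fun e => h1 (congrArg Subtype.val e)) fun e => h2 (congrArg Subtype.val e))

end T2

open T2

theorem boxT2 : BoxT2 := fun Γ _ _ M S H T B f hC h4 => by
  rcases dich f.nb with ⟨l, N, hl, hN, h0, hn, -, hp⟩ | ⟨L, h1, h2⟩
  · by_cases h2 : l = 2
    · subst h2
      obtain ⟨t, ht, ht1⟩ := (bot_or_exists_ne_one N).resolve_left h0
      have k : ∀ P ≤ T ⊓ B, IsPGroup 2 P → Nat.card P ∣ 2 := fun P h1 h2 =>
        dvd_two h2 fun h3 => h4 (h3.trans (card_dvd_of_le h1))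
      refine (f.not_central (p := 2) (((pg_of hp).card_eq_or_dvd.resolve_left fun k => h0 (card_eq_one.1 k)).trans
        (card_dvd_of_le hN)) fun x hx ⟨j, hj⟩ a ha => ?_).elim
      rcases eq_or_ne x 1 with rfl | hx1
      · rw [mul_one, one_mul]
      obtain rfl := eq_of (k _ (sup_le (zpowers_le.2 hx) hN) (pg_sup (pg_of hp) hn hx hj)) (mem_sup_left (mem_zpowers x))
        (mem_sup_right ht) hx1 ht1
      exact mul_inv_eq_iff_eq_mul.1 (eq_of (k N hN (pg_of hp)) (hn a ha x ht) ht (by simpa using ht1) ht1)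
    · exact ⟨l, sy f hC hl h2 hN h0 (pg_of hp) hn⟩
  · have : IsZGroup ↥(T ⊓ B) := ⟨fun p hp P => by
      by_cases k : p = 2
      · subst k
        exact isCyclic_of_card_dvd_prime (dvd_two P.isPGroup' fun h3 => h4 (h3.trans (card_subgroup_dvd_card _)))
      · have := hC p hp k _ (map_subtype_le (P : Subgroup ↥(T ⊓ B))) (P.isPGroup'.map _)
        exact isCyclic_of_surjective _ (equivMapOfInjective _ _ (T ⊓ B).subtype_injective).symm.surjective⟩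
    exact absurd ⟨⟨IsSimpleGroup.comm_iff_isSolvable.2 inferInstance⟩⟩ h2

end Cfsg.Agent.SM.Ex78
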