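import Cfsg.Agent.SM.Ex78.IdY
import Cfsg.Agent.SM.Ex78.T2
import Cfsg.Agent.SM.Ex78.Nil
import Cfsg.Agent.S3719
import Cfsg.Agent.S0280
import Cfsg.Agent.SmallSimple.S1000.PSLFacts
import Cfsg.Agent.SolvableStructure.HallConverse
import Cfsg.Agent.SmallSimple.FiveSq
import Cfsg.Agent.GH.C2SevenTop

/-!
# SM (S3570), `G₂(q)`: only the two rows survive (helper78)
-/

set_option autoImplicit false

namespace Cfsg.Agent.SM.Ex78

open Cfsg Cfsg.Lie Subgroup Cfsg.Agent.OrdDiv Cfsg.Agent.H436 Cfsg.Agent.H946.Num Cfsg.Agent.H56.Exc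

namespace Id

/-- the situation -/
structure Cx (p f : ℕ) {Γ : Type} [Group Γ] (M S H T B : Subgroup Γ) : Prop where
  F : Fac M S H T B
  hp : p.Prime
  hf : 1 ≤ f
  hS : IsNamed (.g2 (p ^ f)) S

/-- the second factor -/
def eY {Γ : Type} [Group Γ] (S B : Subgroup Γ) : B.subgroupOf S ≃* ↥(S ⊓ B) :=
  (MulEquiv.subgroupCongr (inf_subgroupOf_left B S).symm).trans (subgroupOfEquivOfLe inf_le_left)

open SmallSimple.PSLFacts in
/-- simple `{2, 3, 5}`-groups -/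
theorem k3 {T : Type} [Group T] [Finite T] [IsSimpleGroup T] (hna : ¬ IsMulCommutative T)
    (h : Nat.card T ∣ 2 ^ 12 * (3 ^ 3 * 5 ^ 2)) : ¬ 2 ^ 9 ∣ Nat.card T := fun h1 => by
  have h2 : 3 ≤ (Nat.card T).primeFactors.card := not_lt.1 fun k => hna ⟨⟨IsSimpleGroup.comm_iff_isSolvable.2
    (SolvableStructure.HallConverse.isSolvable_of_no_three_primes (by omega))⟩⟩
  have h3 : (Nat.card T).primeFactors.card ≤ 3 :=
    (Finset.card_le_card (Nat.primeFactors_mono h (by norm_num))).trans (by decide +kernel)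
  rcases S3719.result hna (le_antisymm h3 h2) with ⟨⟨e⟩⟩ | ⟨⟨e⟩⟩ | ⟨F, _, _, hF | hF | hF, ⟨e⟩⟩ | ⟨F, _, _, hF, ⟨e⟩⟩ |
    ⟨F, _, _, hF, ⟨e⟩⟩ | ⟨F, _, _, hF, ⟨e⟩⟩ <;> rw [Nat.card_congr e.toEquiv] at h1
  · exact absurd (card_alt_five ▸ h1) (by norm_num)
  · exact absurd (card_alt_six ▸ h1) (by norm_num)
  · exact absurd (card_psl_two_seven hF ▸ h1) (by norm_num)
  · exact absurd (card_psl_two_eight hF ▸ h1) (by norm_num)
  · exact absurd (card_psl_two_seventeen hF ▸ h1) (by norm_num)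
  · exact absurd (card_psl_three_three hF ▸ h1) (by norm_num)
  · exact absurd (card_psu_three_three hF ▸ h1) (by norm_num)
  · have h4 := S0280.result (F := F) (q := 2) (by rw [hF]; norm_num) 4 (by norm_num)
    simp [Finset.prod_range_succ, Nat.even_iff] at h4
    omega

namespace Cx

variable {p f r : ℕ} {ε : Bool} {Γ : Type} [Group Γ] [Finite Γ] {M S H T B : Subgroup Γ} (c : Cx p f M S H T B)

include c

omit [Finite Γ] in
theorem pd : Pd (T.subgroupOf S) (B.subgroupOf S) := (fac_pd c.F).1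

omit [Finite Γ] in
theorem cX : Nat.card (T.subgroupOf S) = Nat.card T := Nat.card_congr (subgroupOfEquivOfLe c.F.le).toEquiv

omit [Finite Γ] in
theorem cA : Nat.card ↥(T.subgroupOf S ⊓ B.subgroupOf S) = Nat.card ↥(T ⊓ B) :=
  Nat.card_congr (subgroupOfEquivOfLe (inf_le_left.trans c.F.le : T ⊓ B ≤ S)).toEquiv

omit [Finite Γ] in
theorem q3 : 3 ≤ p ^ f := c.hS.cond.1

omit [Finite Γ] in
theorem eq : oG (p ^ f) * Nat.card ↥(T ⊓ B) = Nat.card T * Nat.card (B.subgroupOf S) := by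
  rw [← g2_card c.hS, ← c.cA, ← c.cX, c.pd.card]

theorem val : (Nat.card T).factorization p + (Nat.card (B.subgroupOf S)).factorization p =
    6 * f + (Nat.card ↥(T ⊓ B)).factorization p := by
  rw [← c.cA, ← c.cX, Pd.val c.pd c.hp c.hf c.hS]

omit [Finite Γ] in
theorem cls (h : Cp ε (p ^ f) r) : r ∣ Nat.card T ∨ r ∣ Nat.card (B.subgroupOf S) :=
  h.prime.dvd_mul.1 (c.eq ▸ (cp_dvd h).mul_right _)

omit [Finite Γ] in
theorem ns : NS (T.subgroupOf S) :=
  have e := subgroupOfEquivOfLe c.F.le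
  haveI := c.F.asH.simple
  ⟨e.isSimpleGroup, fun hc => c.F.asH.nab ⟨⟨fun a b => e.symm.injective (by rw [map_mul, map_mul]; exact hc.is_comm.comm _ _)⟩⟩⟩

omit [Finite Γ] in
theorem nsT : ¬ Group.IsSolvable T := fun h =>
  haveI := c.F.asH.simple
  c.F.asH.nab ⟨⟨IsSimpleGroup.comm_iff_isSolvable.2 h⟩⟩

theorem two : 2 ≤ Nat.card ↥(T ⊓ B) := (one_lt_card_iff_ne_bot _).2 c.F.nb

omit [Finite Γ] in
theorem mx : Mx (B.subgroupOf S) := by
  refine ⟨(fac_pd c.F).2.2, not_solv c.pd (fac_pd c.F).2.1 c.hS, fun E hE h0 g hg => ?_⟩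
  let φ := S.subtype.comp (B.subgroupOf S).subtype
  have hφ : Function.Injective φ := S.subtype_injective.comp (B.subgroupOf S).subtype_injective
  refine c.F.asM.mem_of_norm c.F.bm c.F.nB (Y := E.map φ) ?_ (fun h => h0 ((map_eq_bot_iff_of_injective E hφ).1 h)) ?_
    (c.F.asM.le g.2) ?_
  · rintro _ ⟨x, -, rfl⟩
    exact x.2
  · rintro b hb _ ⟨x, hx, rfl⟩
    have k : ∀ b ∈ B, ∀ y : B.subgroupOf S, ∃ z : B.subgroupOf S, φ z = b * φ y * b⁻¹ := fun b hb y =>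
      ⟨⟨⟨_, c.F.asM.conj b (c.F.BM hb) _ y.1.2⟩, B.mul_mem (B.mul_mem hb y.2) (B.inv_mem hb)⟩, rfl⟩
    choose σ hσ using k
    let α : B.subgroupOf S ≃* B.subgroupOf S :=
      { toFun := σ b hb
        invFun := σ b⁻¹ (B.inv_mem hb)
        left_inv := fun y => hφ (by rw [hσ, hσ]; group)
        right_inv := fun y => hφ (by rw [hσ, hσ]; group)
        map_mul' := fun y z => hφ (by rw [map_mul, hσ, hσ, hσ, map_mul]; group) }
    exact ⟨α x, characteristic_iff_le_comap.1 hE α hx, hσ b hb x⟩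
  · rw [← map_map]
    exact le_normalizer_map S.subtype ⟨g, hg, rfl⟩

theorem t6 {s : ℕ} (hs : Prim p (f * 6) s) (hd : s ∣ Nat.card T) :
    IsNamed (.psu 3 (p ^ f)) T ∨ (p = 3 ∧ IsNamed (.ree (p ^ f)) T) ∨ (5 ≤ p ∧ ¬ p ^ 2 ∣ Nat.card T) ∨
    (p ^ f = 3 ∧ (Nat.card T = 168 ∨ Nat.card T = 504 ∨ Nat.card T = 1092)) ∨ (p ^ f = 4 ∧ Nat.card T = 1092) := by
  have h := boxS6 p f S c.hp c.hf c.hS _ (fac_pd c.F).2.1 c.ns s hs (c.cX ▸ hd)
  have e := (subgroupOfEquivOfLe c.F.le).symm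
  rw [c.cX] at h
  exact h.imp (H394.Wei.named_congr · e) (Or.imp_left (And.imp_right (H394.Wei.named_congr · e)))

theorem t3 (hd : ∀ r, Cp true (p ^ f) r → r ∣ Nat.card T) :
    IsNamed (.psl 3 (p ^ f)) T ∨ (9 ≤ p ^ f ∧ 2 ∣ f ∧ Nat.card T = oS true (p ^ f)) ∨
    (Nat.card T).factorization p + 1 < 3 * f ∨ (p ^ f = 4 ∧ (Spor.IsoJ2 T ∨ Nat.card T = 6048)) := by
  have e := (subgroupOfEquivOfLe c.F.le).symm
  rcases boxS3 p f S c.hp c.hf c.hS _ (fac_pd c.F).2.1 c.ns (c.cX ▸ hd) with h | ⟨j, rfl, h⟩ | h | ⟨h4, h⟩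
  · exact Or.inl (H394.Wei.named_congr h e)
  · refine Or.inr (Or.inl ⟨?_, Dvd.intro _ rfl, c.cX ▸ half_card c.hp h⟩)
    rw [mul_comm, pow_mul]
    exact Nat.pow_le_pow_left (show 3 ≤ p ^ j from h.cond.1) 2
  · rw [c.cX, ← pow_mul] at h
    have h1 := v_lt c.hp (Nat.mul_ne_zero c.hp.ne_zero Nat.card_pos.ne') h
    rw [Nat.factorization_mul c.hp.ne_zero Nat.card_pos.ne', Finsupp.add_apply, c.hp.factorization_self] at h1
    exact Or.inr (Or.inr (Or.inl (by omega)))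
  · exact Or.inr (Or.inr (Or.inr ⟨h4, h.imp (fun ⟨k⟩ => ⟨e.trans k⟩) c.cX.symm.trans⟩))

theorem t3v (hd : ∀ r, Cp true (p ^ f) r → r ∣ Nat.card T) : V p f (Nat.card T) := by
  have h0 := c.q3
  rcases c.t3 hd with h | ⟨-, -, h⟩ | h | ⟨h, h1⟩
  · exact v_two c.hp c.hf (LU_card (ε := true) h ▸ (dvd_mul_left _ _).mul_left _)
  · exact v_two c.hp c.hf (h ▸ (oS_dvd (by omega)).mul_left _)
  · exact ⟨by omega, fun _ => by omega⟩
  · obtain ⟨rfl, rfl⟩ := eq_four c.hp c.hf h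
    refine ⟨Nat.lt_succ_iff.1 (v_lt c.hp Nat.card_pos.ne' (k := 8) ?_), fun k => absurd rfl k⟩
    rcases h1 with h1 | h1
    · rw [TAB.M5.j2_card h1]
      norm_num
    · rw [h1]
      norm_num

/-- small characteristic -/
theorem small (hT : Nat.card T ∣ oL ε (p ^ f)) (hY : V p f (Nat.card (B.subgroupOf S))) : p = 2 ∨ p = 3 := by
  have h1 := c.hp.two_le
  by_contra h2
  have h5 : 5 ≤ p := c.hp.five_le_of_ne_two_of_ne_three (by omega) (by omega)
  have h3 := v_one c.hp c.hf hT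
  have h4 := hY.2 (by omega)
  have h6 := c.val
  have h7 := l1 c.pd c.hp c.hS h5 (by rw [c.cX]; omega) (by omega)
  have h8 := c.hp.factorization_pos_of_dvd Nat.card_pos.ne' (c.cA ▸ h7)
  omega

omit c in
theorem cy (hTS : T ≤ S) (h : ∀ r, r.Prime → r ≠ 2 → r ∣ Nat.card ↥(T ⊓ B) → CS r T ∨ CS r (B.subgroupOf S)) : Cy (T ⊓ B) :=
  fun r hr h2 P hP hp => by
  have := Fact.mk hr
  by_cases h1 : r ∣ Nat.card ↥(T ⊓ B)
  · rcases h r hr h2 h1 with k | k
    · exact k.cyc hp (inclusion (hP.trans inf_le_left)) (inclusion_injective _)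
    · exact k.cyc hp ((eY S B).symm.toMonoidHom.comp (inclusion (hP.trans (inf_le_inf_right B hTS))))
        ((eY S B).symm.injective.comp (inclusion_injective _))
  · obtain ⟨j, hj⟩ := IsPGroup.iff_card.1 hp
    obtain rfl : j = 0 := by
      by_contra h3
      exact h1 ((hj ▸ dvd_pow_self r h3).trans (card_dvd_of_le hP))
    rw [card_eq_one.1 hj]
    infer_instance

theorem ou (hT3 : BoxT3) (hp : p = 2 ∨ p = 3) (hc : Cy (T ⊓ B)) {d k j : ℕ} (hj : 1 ≤ j) (hk : k ∣ 6)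
    (h3 : p = 3 → d = 1 ∧ k ∣ 2) (he : d * Nat.card ↥(T ⊓ B) = k * ((p ^ f) ^ j - 1)) : Ou p T B := by
  have h1 := not_dvd_sub c.hp c.hf hj
  rcases hp with rfl | rfl
  · refine Or.inl (boxT2 Γ M S H T B c.F hc fun h => ?_)
    have h2 : 2 ^ 2 ∣ k := Nat.Coprime.dvd_of_dvd_mul_right ((Nat.prime_two.coprime_iff_not_dvd.2 h1).pow_left 2)
      (he ▸ h.mul_left d)
    exact absurd (h2.trans hk) (by norm_num)
  · obtain ⟨rfl, h2⟩ := h3 rfl
    rw [one_mul] at he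
    refine hT3 Γ M S H T B f c.F c.hf c.hS hc (fun h => ?_) fun h => ?_
    · exact (Nat.prime_three.dvd_mul.1 (he ▸ h)).elim (fun k => absurd (k.trans h2) (by norm_num)) h1
    · rw [he, ← pow_mul] at h ⊢
      have h4 := ((by norm_num : Nat.Prime 7).dvd_mul.1 h).resolve_left fun k => absurd (k.trans h2) (by norm_num)
      exact (Prim.dvd cp313 ((by decide : 3 ∣ 6).trans ((Prim.dvd_iff cp37 _).1 h4))).mul_left _

omit [Finite Γ] in
theorem dd3 (h : p = 3) (ε : Bool) : dd ε (p ^ f) = 1 := dd_eq_one fun k => by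
  have := eq_one_of_qm (by have := c.q3; omega) k (h ▸ dvd_pow_self p (by have := c.hf; omega))
  omega

omit c in
theorem six {k q : ℕ} (h : k ∣ 2 * dd ε q) : k ∣ 6 := h.trans (mul_dvd_mul_left 2 (Nat.gcd_dvd_left _ _))

/-- `L₃^ε(q)` and `L₃^{-ε}(q).k` -/
theorem LL (hT3 : BoxT3) (hp : p = 2 ∨ p = 3) (h4 : ¬ (ε = true ∧ p ^ f = 4)) (hT : IsNamed (LU ε (p ^ f)) T)
    (hY : Sh (!ε) (p ^ f) (B.subgroupOf S)) : False := by
  have h3 := c.q3
  have q1 : 1 ≤ p ^ f := by omega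
  obtain ⟨k, hk, h1⟩ := hY.1
  have he : dd ε (p ^ f) * dd (!ε) (p ^ f) * Nat.card ↥(T ⊓ B) = k * ((p ^ f) ^ 2 - 1) := by
    refine Nat.eq_of_mul_eq_mul_left (oG_pos (show 2 ≤ p ^ f by omega)) ?_
    calc _ = dd ε (p ^ f) * dd (!ε) (p ^ f) * (oG (p ^ f) * Nat.card ↥(T ⊓ B)) := by ring
      _ = dd ε (p ^ f) * Nat.card T * (dd (!ε) (p ^ f) * Nat.card (B.subgroupOf S)) := by rw [c.eq]; ring
      _ = k * (oS ε (p ^ f) * oS (!ε) (p ^ f) * (p ^ f + 1)) * (p ^ f + 1) := by rw [LU_card hT, h1, oL_eq q1, oL_eq q1]; ring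
      _ = _ := by rw [oS_mul q1, sq_eq q1]; ring
  refine boxTI Γ M S H T B p f ε c.F hp h3 h4 hT (c.ou hT3 hp (cy c.F.le fun r hr h2 h => ?_) (by omega) (six hk)
    (fun h => by rw [c.dd3 h] at hk; rw [c.dd3 h, c.dd3 h]; exact ⟨rfl, hk⟩) he) k hk he
  have h5 : r ∣ k * (qm ε (p ^ f) * qm (!ε) (p ^ f)) := by
    rw [qm_mul q1, ← he]
    exact h.mul_left _
  by_cases h6 : r ∣ qm (!ε) (p ^ f)
  · exact Or.inl (cs_LU hT hr h2 h6)
  refine Or.inr (cs_Sh hY (by omega) hr h2 ?_)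
  rw [Bool.not_not]
  refine (hr.dvd_mul.1 ((hr.dvd_mul.1 h5).resolve_left fun h7 => ?_)).resolve_right h6
  exact (hr.dvd_mul.1 (h7.trans hk)).elim (fun h8 => h2 ((Nat.prime_dvd_prime_iff_eq hr Nat.prime_two).1 h8))
    fun h8 => h6 (h8.trans (dd_dvd _ _))

omit [Finite Γ] in
/-- one factor is small -/
theorem LS {d k : ℕ} (h : d * (Nat.card T * Nat.card (B.subgroupOf S)) = k * (oS ε (p ^ f) * oS (!ε) (p ^ f) * (p ^ f + 1))) :
    d * Nat.card ↥(T ⊓ B) = k * ((p ^ f) ^ 1 - 1) := by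
  have h3 := c.q3
  refine Nat.eq_of_mul_eq_mul_left (oG_pos (show 2 ≤ p ^ f by omega)) ?_
  rw [oS_mul (by omega), ← c.eq] at h
  rw [pow_one]
  exact (mul_left_comm _ _ _).trans (h.trans (mul_left_comm _ _ _))

theorem SS {k : ℕ} (hk : k ∣ 2) (hT : Nat.card T = oS ε (p ^ f)) (hY : Nat.card (B.subgroupOf S) = k * oS (!ε) (p ^ f)) :
    False := by
  have h1 := c.LS (ε := ε) (d := p ^ f + 1) (k := k) (by rw [hT, hY]; ring)
  have h2 := Nat.mul_le_mul_left (p ^ f + 1) c.two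
  have h3 := Nat.mul_le_mul_right ((p ^ f) ^ 1 - 1) (Nat.le_of_dvd two_pos hk)
  rw [pow_one] at h1 h3
  omega

omit c [Finite Γ] in
theorem odd_dvd {a q : ℕ} (ha : a ∣ 2 * (q - 1)) (hr : r.Prime) (h2 : r ≠ 2) (h : r ∣ a) : r ∣ q - 1 :=
  (hr.dvd_mul.1 (h.trans ha)).resolve_left fun k => h2 ((Nat.prime_dvd_prime_iff_eq hr Nat.prime_two).1 k)

theorem nu {e : ℕ} (hO : Ou p T B) (hT : Nat.card T = oS true (p ^ f) * e) (h4 : p = 3 → 4 ∣ e * (p ^ f - 1))
    (ha : Nat.card ↥(T ⊓ B) ∣ 2 * (p ^ f - 1)) : False := by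
  have h3 := c.q3
  obtain ⟨j, hj⟩ := ha
  have h1 : 2 * B.relIndex T = e * (p ^ f - 1) * (j * ((p ^ f) ^ 3 * Nc true (p ^ f))) := by
    refine Nat.eq_of_mul_eq_mul_left (show 0 < p ^ f - 1 by omega) ?_
    calc _ = 2 * (p ^ f - 1) * B.relIndex T := by ring
      _ = j * Nat.card T := by rw [hj, ← Fac.card_mul T B]; ring
      _ = _ := by rw [hT, oS, show qm true (p ^ f) = p ^ f - 1 from rfl]; ring
  rcases hO with ⟨r, hI⟩ | ⟨h, h2⟩
  · refine hI.2.2.1 ((hI.1.dvd_mul.1 (h1 ▸ ((odd_dvd ⟨j, hj⟩ hI.1 hI.2.1 hI.dvd).mul_left _).mul_right _)).resolve_left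
      fun k => hI.2.1 ((Nat.prime_dvd_prime_iff_eq hI.1 Nat.prime_two).1 k))
  · exact two_odd c.F h2 (Nat.dvd_of_mul_dvd_mul_left two_pos (h1 ▸ (h4 h).mul_right _))

omit c [Finite Γ] in
theorem dv {d k a n : ℕ} (hd : 0 < d) (hk : k ∣ 2 * d) (h : d * a = k * n) : a ∣ 2 * n := by
  obtain ⟨j, hj⟩ := hk
  refine ⟨j, Nat.eq_of_mul_eq_mul_left hd ?_⟩
  calc d * (2 * n) = 2 * d * n := by ring
    _ = k * n * j := by rw [hj]; ring
    _ = _ := by rw [← h]; ring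

/-- `T = U₃(q)` or `²G₂(q)` -/
theorem caseA (hE : BoxEX) (hT3 : BoxT3) (hT : IsNamed (.psu 3 (p ^ f)) T ∨ (p = 3 ∧ IsNamed (.ree (p ^ f)) T)) :
    p ^ f = 4 ∧ Row S T B := by
  have q1 : 1 ≤ p ^ f := by have := c.q3; omega
  have hd : Nat.card T ∣ oL false (p ^ f) :=
    hT.elim (fun h => LU_card (ε := false) h ▸ dvd_mul_left _ _) fun h => ree_card h.2 ▸ oS_dvd q1
  have hY := y3 hE c.hp c.hf c.hS c.mx fun r hr => (c.cls hr).resolve_left fun k =>
    absurd (ST.eq_of_dvd q1 hr (k.trans hd)) (by decide)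
  have hp := c.small hd (hY.v c.hp c.hf)
  rcases hY with hY | ⟨h9, k, hk, hY⟩ | hY | ⟨h4, hY⟩
  · rcases hT with hT | ⟨h3, hT⟩
    · exact (c.LL (ε := false) hT3 hp (by simp) hT hY).elim
    obtain ⟨k, hk, h1⟩ := hY.1
    have he := c.LS (ε := false) (d := dd true (p ^ f)) (k := k) (by
      rw [ree_card hT, mul_left_comm, h1, oL_eq q1, Bool.not_false]; ring)
    have ha := dv (dd_pos _ _) hk he
    rw [pow_one] at ha
    refine (boxTU Γ M S H T B p f c.F hp ?_ (Or.inr ⟨h3, hT⟩) (c.ou hT3 hp (cy c.F.le fun r hr h2 h =>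
      Or.inl (cs_ree hT hr h2 (odd_dvd ha hr h2 h))) le_rfl (six hk)
      (fun h => by rw [c.dd3 h] at hk; exact ⟨c.dd3 h _, hk⟩) he) ha).elim
    obtain ⟨m, hm, h⟩ := hT.cond
    rw [h]
    exact Nat.pow_le_pow_right (n := 3) (i := 2) (by norm_num) (by omega)
  · rcases hT with hT | ⟨h3, hT⟩
    swap
    · exact (c.SS (ε := false) hk (ree_card hT) hY).elim
    have he := c.LS (ε := false) (d := dd false (p ^ f)) (k := k) (by
      rw [← mul_assoc, LU_card (ε := false) hT, hY, oL_eq q1, Bool.not_false]; ring)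
    have ha := dv (dd_pos _ _) (hk.mul_right _) he
    rw [pow_one] at ha
    exact (boxTU Γ M S H T B p f c.F hp h9 (Or.inl hT) (c.ou hT3 hp (cy c.F.le fun r hr h2 h =>
      Or.inl (cs_LU (ε := false) hT hr h2 (odd_dvd ha hr h2 h))) le_rfl (hk.trans (by norm_num))
      (fun h => ⟨c.dd3 h _, hk⟩) he) ha).elim
  · rw [← pow_mul] at hY
    have h1 := v_lt c.hp Nat.card_pos.ne' hY
    have h2 := v_one c.hp c.hf hd
    have h3 := c.val
    omega
  · have hT := hT.resolve_right fun h => by have := (eq_four c.hp c.hf h4).1; omega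
    have he := c.eq
    rw [h4] at hT he
    have ht : Nat.card T = 62400 := (one_mul _).symm.trans (LU_card (ε := false) hT)
    rcases hY with ⟨⟨e⟩⟩ | ⟨k, hk, hY⟩
    · exact ⟨h4, Or.inr ⟨hT, ⟨(eY S B).symm.trans e⟩⟩⟩
    have h1 := c.F.not_prime
    have h2 : Nat.card ↥(T ⊓ B) ∣ 62400 := ht ▸ card_dvd_of_le inf_le_left
    have h3 := Nat.le_of_dvd (by norm_num) hk
    rw [ht, hY, show oG 4 = 251596800 from rfl] at he
    obtain h | h | h : Nat.card ↥(T ⊓ B) = 3 ∨ Nat.card ↥(T ⊓ B) = 9 ∨ Nat.card ↥(T ⊓ B) = 27 := by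
      interval_cases k <;> omega
    all_goals rw [h] at h1 h2
    all_goals first | exact absurd Nat.prime_three h1 | omega

/-- `B₀ = U₃(q).k` or `²G₂(q).k` -/
theorem caseB (h34 : BoxL34) (hT3 : BoxT3)
    (hY : (Sh false (p ^ f) (B.subgroupOf S) ∧
      (3 ∣ p ^ f + 1 ∨ ∃ L : Subgroup (B.subgroupOf S), L.Normal ∧ IsNamed (.psu 3 (p ^ f)) L)) ∨
      (p = 3 ∧ ∃ L : Subgroup (B.subgroupOf S), L.Normal ∧ IsNamed (.ree (p ^ f)) L ∧ L.index ∣ 2)) :
    p ^ f = 4 ∧ Row S T B := by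
  have q3 := c.q3
  have q1 : 1 ≤ p ^ f := by omega
  have hR : ∀ {L : Subgroup (B.subgroupOf S)}, IsNamed (.ree (p ^ f)) L →
      Nat.card (B.subgroupOf S) = L.index * oS false (p ^ f) := fun h => by rw [← ree_card h, mul_comm, card_mul_index]
  have hd : Nat.card (B.subgroupOf S) ∣ 2 * oL false (p ^ f) :=
    hY.elim (fun h => Sh.dvd h.1) fun ⟨_, L, _, h, hi⟩ => hR h ▸ mul_dvd_mul hi (oS_dvd q1)
  have hV := v_two c.hp c.hf hd
  rcases c.t3 fun r hr => (c.cls hr).resolve_right fun k => (hr.prime.dvd_mul.1 (k.trans hd)).elim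
    (fun k => by have := Nat.le_of_dvd two_pos k; have := ST.seven_le q1 hr; omega)
    fun k => absurd (ST.eq_of_dvd q1 hr k) (by decide) with hT | ⟨h9, h2f, hT⟩ | hT | ⟨h4, hT⟩
  · have hp := c.small (LU_card (ε := true) hT ▸ dvd_mul_left _ _) hV
    rcases hY with hY | ⟨h3, L, hn, hL, hk⟩
    · exact (c.LL (ε := true) hT3 hp (fun h => h34 S (h.2 ▸ c.hS) (T.subgroupOf S)
        (H394.Wei.named_congr (h.2 ▸ hT) (subgroupOfEquivOfLe c.F.le))) hT hY.1).elim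
    have ht := LU_card (ε := true) hT
    rw [c.dd3 h3, one_mul, oL_eq q1] at ht
    have he := c.LS (ε := true) (d := 1) (k := L.index) (by rw [ht, hR hL, Bool.not_true]; ring)
    have ha := dv one_pos hk he
    rw [pow_one] at ha
    refine (c.nu (c.ou hT3 hp (cy c.F.le fun r hr h2 h => Or.inr ((cs_ree hL hr h2 (odd_dvd ha hr h2 h)).idx hr h2 hk)) le_rfl
      (hk.trans (by norm_num)) (fun _ => ⟨rfl, hk⟩) he) ht (fun _ => ?_) ha).elim
    subst h3
    have := three_pow_mod f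
    exact mul_dvd_mul (show 2 ∣ 3 ^ f + 1 by omega) (show 2 ∣ 3 ^ f - 1 by omega)
  · have hp := c.small (hT ▸ oS_dvd q1) hV
    rcases hY with hY | ⟨h3, L, hn, hL, hk⟩
    swap
    · exact (c.SS (ε := true) hk hT (hR hL)).elim
    obtain ⟨k, hk, h1⟩ := hY.1.1
    have he := c.LS (ε := true) (d := dd false (p ^ f)) (k := k) (by
      rw [hT, mul_left_comm, h1, oL_eq q1, Bool.not_true]; ring)
    have ha := dv (dd_pos _ _) hk he
    rw [pow_one] at ha
    refine (c.nu (c.ou hT3 hp (cy c.F.le fun r hr h2 h => Or.inr (cs_Sh hY.1 (by omega) hr h2 (odd_dvd ha hr h2 h))) le_rfl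
      (six hk) (fun h => by rw [c.dd3 h] at hk; exact ⟨c.dd3 h _, hk⟩) he) (hT.trans (mul_one _).symm) (fun h3 => ?_) ha).elim
    subst h3
    obtain ⟨j, rfl⟩ := h2f
    rw [one_mul, pow_mul, ← one_pow j]
    exact (by decide : 4 ∣ 3 ^ 2 - 1).trans (Nat.sub_dvd_pow_sub_pow _ _ j)
  · have h1 := hV.1
    have h3 := c.val
    omega
  · obtain ⟨⟨⟨k, hk, h1⟩, -⟩, hL⟩ := hY.resolve_right fun h => by have := (eq_four c.hp c.hf h4).1; omega
    have he := c.eq
    rw [h4] at hk h1 hL he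
    have hy : Nat.card (B.subgroupOf S) = k * 62400 := (one_mul _).symm.trans h1
    rw [hy, show oG 4 = 251596800 from rfl] at he
    have h2 := (Nat.dvd_prime Nat.prime_two).1 hk
    rcases hT with hT | hT
    · have ht := TAB.M5.j2_card hT
      obtain ⟨L, hn, hL⟩ := hL.resolve_left (by decide)
      rcases h2 with rfl | rfl
      · have ha : Nat.card ↥(T ⊓ B) = 150 := by omega
        have := Fact.mk Nat.prime_five
        have h3 : B.relIndex T % 5 = 1 % 5 := c.F.syl (p := 5) (by omega) (SmallSimple.FiveSq.card_sylow_of_card_150 ha)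
        have h5 := Fac.card_mul T B
        rw [ha] at h5
        omega
      · exact ⟨h4, Or.inl ⟨hT, (Nat.card_congr (eY S B).toEquiv).symm.trans hy, L.map (eY S B).toMonoidHom,
          hn.map _ (eY S B).surjective, H394.Wei.named_congr hL (equivMapOfInjective L _ (eY S B).injective).symm⟩⟩
    · have h3 := c.two
      rw [hT] at he
      exact (c.F.not_prime ((show Nat.card ↥(T ⊓ B) = 3 by omega) ▸ Nat.prime_three)).elim

/-- a factor with a class prime, `q ≤ 4` -/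
theorem vY (hE : BoxEX) {a b : ℕ} (ha : Prim p (f * 6) a) (hb : ∀ r, Cp true (p ^ f) r → r = b)
    (h : a ∣ Nat.card (B.subgroupOf S) ∨ b ∣ Nat.card (B.subgroupOf S)) : V p f (Nat.card (B.subgroupOf S)) :=
  h.elim (fun h => (y6 hE c.hp c.hf c.hS c.mx ha h).v c.hp c.hf)
    fun h => (y3 hE c.hp c.hf c.hS c.mx fun r hr => hb r hr ▸ h).v c.hp c.hf

omit c [Finite Γ] in
theorem dvd_of_cop {n a b m : ℕ} (ha : a.Prime) (hb : b.Prime) (h1 : ¬ a ∣ n) (h2 : ¬ b ∣ n) (h : n ∣ m * a * b) : n ∣ m :=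
  (ha.coprime_iff_not_dvd.2 h1).symm.dvd_of_dvd_mul_right ((hb.coprime_iff_not_dvd.2 h2).symm.dvd_of_dvd_mul_right h)

theorem main (hE : BoxEX) (h34 : BoxL34) (hT3 : BoxT3) : p ^ f = 4 ∧ Row S T B := by
  have q3 := c.q3
  have hv := c.val
  have he := c.eq
  have t0 : Nat.card T ≠ 0 := Nat.card_pos.ne'
  have y0 : Nat.card (B.subgroupOf S) ≠ 0 := Nat.card_pos.ne'
  have hyd : Nat.card (B.subgroupOf S) ∣ oG (p ^ f) := g2_card c.hS ▸ card_subgroup_dvd_card _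
  have htd : Nat.card T ∣ oG (p ^ f) := g2_card c.hS ▸ card_dvd_of_le c.F.le
  have p7 : Nat.Prime 7 := by norm_num
  have p13 : Nat.Prime 13 := by norm_num
  obtain ⟨s, hs⟩ := exists_prim (q := p) (e := f * 6) c.hp.two_le (by have := c.hf; omega) fun h => by
    obtain rfl : f = 1 := by omega
    rw [h.1] at q3
    omega
  have hs' : Cp false (p ^ f) s := H264.GN.prim_pow c.hf hs
  by_cases hT : s ∣ Nat.card T
  · rcases c.t6 hs hT with h | h | ⟨h5, h⟩ | ⟨h3, h⟩ | ⟨h4, h⟩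
    · exact c.caseA hE hT3 (Or.inl h)
    · exact c.caseA hE hT3 (Or.inr h)
    · exact (h (c.cX ▸ par c.pd (fac_pd c.F).2.1 (fac_pd c.F).2.2 c.hp c.hf c.hS h5)).elim
    · obtain ⟨rfl, rfl⟩ := eq_three h3
      have h1 := v_lt c.hp t0 (k := 3) (by omega)
      by_cases h2 : 7 ∣ Nat.card (B.subgroupOf S) ∨ 13 ∣ Nat.card (B.subgroupOf S)
      · have := (c.vY hE cp37 (fun r hr => cp_eq (by norm_num) hr p13 (by decide)) h2).2 (by norm_num)
        omega
      · exact (c.mx.2.1 (GH.C2SevenTop.solvable_of_dvd (a := 6) (b := 6) Nat.prime_two Nat.prime_three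
          (dvd_of_cop p7 p13 (fun k => h2 (Or.inl k)) (fun k => h2 (Or.inr k)) hyd))).elim
    · obtain ⟨rfl, rfl⟩ := eq_four c.hp c.hf h4
      obtain rfl : s = 13 := cp_eq (by norm_num) hs' p13 (by decide)
      have h1 := v_lt c.hp t0 (k := 3) (by omega)
      by_cases h2 : 13 ∣ Nat.card (B.subgroupOf S) ∨ 7 ∣ Nat.card (B.subgroupOf S)
      · have := (c.vY hE hs (fun r hr => cp_eq (by norm_num) hr p7 (by decide)) h2).1
        omega
      have hay : Nat.card ↥(T ⊓ B) ∣ Nat.card (B.subgroupOf S) := c.cA ▸ card_dvd_of_le inf_le_right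
      have h3 : Nat.card ↥(T ⊓ B) ∣ 12 := dvd_of_cop p7 p13 (fun k => h2 (Or.inr (k.trans hay)))
        (fun k => h2 (Or.inl (k.trans hay))) ((card_dvd_of_le inf_le_left).trans h.dvd)
      have h5 := c.two
      have h6 := c.F.not_prime
      have h7 := c.pd.card_left
      rw [c.cA, c.cX, h] at h7
      rw [h, show oG (2 ^ 2) = 251596800 from rfl] at he
      obtain ⟨P, h8, -, -, V, h9, h10, -, h11⟩ := parP c.hp c.hS le_rfl _ c.mx.1 fun ⟨j, hj⟩ => by
        have := Nat.le_of_dvd (by norm_num) h3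
        rw [hj] at h7
        generalize Nat.card ↥(T ⊓ B) = a at *
        interval_cases a <;> first | omega | exact h6 Nat.prime_three
      have h12 := (ST.fa_of c.hp c.hf c.hS).gr.np V le_top h9 h10
      rw [inf_top_eq, show TH.ExG.cP (2 ^ 2) = 184320 from rfl] at h12
      have h13 := (card_le_of_le (h8.trans h11)).trans h12
      omega
  have hY := (c.cls hs').resolve_left hT
  rcases y6 hE c.hp c.hf c.hS c.mx hs hY with h | h | ⟨h5, h⟩ | ⟨h3, k, hk, h⟩ | ⟨h4, h⟩ | ⟨h2, h⟩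
  · exact c.caseB h34 hT3 (Or.inl h)
  · exact c.caseB h34 hT3 (Or.inr h)
  · exact (h (par c.pd.symm (fac_pd c.F).2.2 (fac_pd c.F).2.1 c.hp c.hf c.hS h5)).elim
  · obtain ⟨rfl, rfl⟩ := eq_three h3
    obtain rfl : s = 7 := cp_eq (by norm_num) hs' p7 (by decide)
    have h6 := Nat.le_of_dvd (by norm_num) hk
    by_cases h2 : 13 ∣ Nat.card T
    swap
    · exact (c.nsT (GH.C2SevenTop.solvable_of_dvd (a := 6) (b := 6) Nat.prime_two Nat.prime_three
        (dvd_of_cop p7 p13 hT h2 htd))).elim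
    have h1 := v_lt c.hp y0 (k := 4) (by interval_cases k <;> omega)
    rcases c.t3 fun r hr => cp_eq (by norm_num) hr p13 (by decide) ▸ h2 with h7 | h7 | h7 | h7
    · have ht : Nat.card T = 5616 := (one_mul _).symm.trans (LU_card (ε := true) h7)
      rw [ht, show oG (3 ^ 1) = 4245696 from rfl] at he
      obtain h8 | h8 : Nat.card ↥(T ⊓ B) = 2 ∨ Nat.card ↥(T ⊓ B) = 2 ^ 2 := by interval_cases k <;> omega
      · exact (c.F.not_prime (h8 ▸ Nat.prime_two)).elim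
      · exact (c.F.not_prime_sq Nat.prime_two h8).elim
    all_goals omega
  · obtain ⟨rfl, rfl⟩ := eq_four c.hp c.hf h4
    obtain rfl : s = 13 := cp_eq (by norm_num) hs' p13 (by decide)
    have h1 := v_lt c.hp y0 (k := 4) fun k => absurd (k.trans h) (by norm_num)
    by_cases h2 : 7 ∣ Nat.card T
    · have := (c.t3v fun r hr => cp_eq (by norm_num) hr p7 (by decide) ▸ h2).1
      omega
    have := c.F.asH.simple
    exact (k3 c.F.asH.nab (dvd_of_cop p7 p13 h2 hT htd) ((c.hp.pow_dvd_iff_le_factorization t0).2 (by omega))).elim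
  · have h1 := (c.t3v fun r hr => (c.cls hr).resolve_right fun k => by
      have h3 : ∀ {u ε}, Cp ε (p ^ f) u → u ∣ Nat.card (B.subgroupOf S) → u = 7 := fun hu k => by
        have h4 := ST.seven_le (by omega) hu
        have h5 : _ ∣ 2 ^ 7 * 3 * 7 := k.trans h
        refine (Nat.prime_dvd_prime_iff_eq hu.prime p7).1 ((hu.prime.dvd_mul.1 h5).resolve_left fun k => ?_)
        rcases hu.prime.dvd_mul.1 k with k | k
        · have := Nat.le_of_dvd two_pos (hu.prime.dvd_of_dvd_pow k)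
          omega
        · have := Nat.le_of_dvd three_pos k
          omega
      exact absurd (Prim.unique (h3 hr k ▸ hr) (h3 hs' hY ▸ hs')) (by decide)).2 h2
    have h3 := not_cube c.hp c.hf h2 h
    rw [← pow_mul] at h3
    have h4 := v_lt c.hp y0 h3
    omega

end Cx

end Id

/-- **Only the two rows survive.** -/
theorem boxId_of (hE : BoxEX) (h34 : BoxL34) (hT3 : BoxT3) : BoxId := by
  intro Γ _ _ M S H T B F ⟨K, _, _, hK, ⟨e⟩⟩
  obtain ⟨p, hp⟩ := CharP.exists K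
  obtain ⟨⟨f, hf⟩, hp', hq⟩ := FiniteField.card K p
  have hS : IsNamed (.g2 (p ^ f)) S := H394.Wei.named_congr
    (H983.KG2.named_g2 hq (hq ▸ hK) ⟨p, f, hp'.prime, hf, rfl⟩) e
  obtain ⟨h1, h2⟩ := Id.Cx.main ⟨F, hp', hf, hS⟩ hE h34 hT3
  exact ⟨h1 ▸ hS, h2⟩

end Cfsg.Agent.SM.Ex78
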