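import Cfsg.Agent.SM.Ex78.Defs
import Cfsg.Agent.H244.G2S.Main
import Cfsg.Agent.H256.G2.AOne
import Cfsg.Agent.Schreier.Tools
import Cfsg.Agent.S0242

/-!
# SM (S3570), `S = G₂(q)`: `L₃(4)` is not a subgroup of `G₂(4)` (helper41)
-/

set_option autoImplicit false
set_option linter.unusedSectionVars false
set_option linter.unusedVariables false

namespace Cfsg.Agent.SM.Ex78

open Cfsg Cfsg.Lie Subgroup Cfsg.Agent.OrdDiv Cfsg.Agent.H436 Cfsg.Agent.H161.Oct Cfsg.Agent.H244.G2S

namespace L34

/-- a perfect group has no subgroup of index three -/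
theorem index_ne {P : Type} [Group P] [Finite P] (hP : commutator P = ⊤) (K : Subgroup P) : K.index ≠ 3 := fun h => by
  have := Schreier.Tools.isSolvable_perm_of_card_le_four (P ⧸ K) (by rw [← index_eq_card, h]; norm_num)
  have h1 : ∀ n, derivedSeries P n = ⊤ := fun n => by
    induction n with
    | zero => rfl
    | succ n ih => rw [derivedSeries_succ, ih, ← commutator_def, hP]
  obtain ⟨n, hn⟩ := this.solvable
  have h2 := map_derivedSeries_le_derivedSeries (MulAction.toPermHom P (P ⧸ K)) n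
  rw [hn, h1, le_bot_iff, Subgroup.map_eq_bot_iff, ← normalCore_eq_ker] at h2
  rw [top_le_iff.1 (h2.trans K.normalCore_le), index_top] at h
  omega

theorem not_hom {F E : Type} [Field F] [Fintype F] [Field E] [Fintype E] (hF : Fintype.card F = 4) (hE : Fintype.card E = 4)
    (hc : Nat.card (Matrix.ProjectiveSpecialLinearGroup (Fin 3) E) = 20160) (hG : Nat.card (AutO F) = 251596800)
    (ψ : Matrix.ProjectiveSpecialLinearGroup (Fin 3) E →* AutO F) : ¬ Function.Injective ψ := fun hψ => by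
  have : Finite (AutO F) := Nat.finite_of_card_ne_zero (by omega)
  have : CharP F 2 := charP_of_card_eq_prime_pow (f := 2) hF
  have : CharP E 2 := charP_of_card_eq_prime_pow (f := 2) hE
  have : Fact (Nat.Prime 7) := ⟨by norm_num⟩
  have hr : Prim (Nat.card F) 3 7 := by
    obtain ⟨r, hr⟩ := exists_prim (q := 4) (e := 3) (by norm_num) le_rfl (by norm_num)
    have h1 : r ∣ 63 := hr.dvd (m := 3) dvd_rfl
    have h2 : ¬ r ∣ 3 := hr.not_dvd_sub (m := 1) (by norm_num)
    rw [Nat.card_eq_fintype_card, hF]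
    rwa [← (Nat.prime_dvd_prime_iff_eq hr.prime (by norm_num : Nat.Prime 7)).1
      ((hr.prime.dvd_mul.1 (show r ∣ 3 ^ 2 * 7 from h1)).resolve_left fun k => h2 (hr.prime.dvd_of_dvd_pow k))]
  obtain ⟨A, hA⟩ := H375.LThree.exists_sl_three (F := F)
  obtain ⟨n, hn, hno⟩ := exists_tor (Nat.card_eq_fintype_card (α := F) ▸ hA) hr
  obtain ⟨y, hy⟩ := exists_prime_orderOf_dvd_card' (G := Matrix.ProjectiveSpecialLinearGroup (Fin 3) E) 7 (by rw [hc]; norm_num)
  let x : AutO F := ⟨slM F (A ^ n), slM_mem _⟩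
  have hx : orderOf x = 7 := by rw [← orderOf_coe, orderOf_injective _ slM_inj, hno]
  have h7 : ∀ z : AutO F, orderOf z = 7 → Nat.card (zpowers z) = 7 ^ (Nat.card (AutO F)).factorization 7 := fun z hz => by
    rw [Nat.card_zpowers, hz, hG]; decide +kernel
  obtain ⟨g, hg⟩ := MulAction.exists_smul_eq (AutO F) (Sylow.ofCard _ (h7 _ ((orderOf_injective ψ hψ y).trans hy)))
    (Sylow.ofCard _ (h7 x hx))
  let χ := (MulAut.conj g).toMonoidHom.comp ψ
  have hχ : Function.Injective χ := (MulAut.conj g).injective.comp hψ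
  obtain ⟨y', hy'⟩ : ∃ y', χ y' = x := by
    have h1 : x ∈ (g • Sylow.ofCard _ (h7 _ ((orderOf_injective ψ hψ y).trans hy)) : Sylow 7 (AutO F)) := hg ▸ mem_zpowers x
    obtain ⟨_, ⟨k, rfl⟩, e⟩ := h1
    exact ⟨y ^ k, (congrArg (MulAut.conj g) (map_zpow ψ y k)).trans e⟩
  let φ := χ.comp (QuotientGroup.mk' (center (Matrix.SpecialLinearGroup (Fin 3) E)))
  have hran : φ.range = χ.range := by rw [MonoidHom.range_comp, QuotientGroup.range_mk', ← MonoidHom.range_eq_map]
  have hs : IsSimpleGroup (Matrix.ProjectiveSpecialLinearGroup (Fin 3) E) :=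
    LieClassical.SLGen.psl_isSimpleGroup (by simp)
  have e := (MonoidHom.ofInjective hχ).trans (MulEquiv.subgroupCongr hran.symm)
  have : IsSimpleGroup φ.range := e.symm.isSimpleGroup
  obtain ⟨y'', rfl⟩ := QuotientGroup.mk_surjective y'
  have h0 : (2 : F) = 0 := CharTwo.two_eq_zero
  have hstb := stb_of_hom 2 (fun h => one_ne_zero (α := F) (by linear_combination h - h0)) hn φ
    ⟨y'', congrArg Subtype.val hy'⟩ fun a ha => (QuotientGroup.eq_one_iff a).1 (hχ (ha.trans (map_one χ).symm))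
  have : IsSimpleGroup (SubQ.img φ) := (φ.range.equivMapOfInjective (AutO F).subtype (AutO F).subtype_injective).symm.isSimpleGroup
  have hfix : ∀ a, (φ a).1 e1 = e1 := fun a => fix_of_stb (K := SubQ.img φ) (map_subtype_le _) le_rfl (by
    by_contra! h
    have h1 : ∀ a b : Matrix.ProjectiveSpecialLinearGroup (Fin 3) E, a * b = b * a := fun a b => by
      obtain ⟨a, rfl⟩ := QuotientGroup.mk_surjective a
      obtain ⟨b, rfl⟩ := QuotientGroup.mk_surjective b
      exact hχ (by rw [map_mul, map_mul]; exact Subtype.ext (h _ (SubQ.mem_img φ a) _ (SubQ.mem_img φ b)))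
    let _ : CommGroup (Matrix.ProjectiveSpecialLinearGroup (Fin 3) E) := ⟨h1⟩
    exact absurd (hc ▸ IsSimpleGroup.prime_card) (by norm_num)) (fun g hg z hz => by
    obtain ⟨a, rfl⟩ := SubQ.exists_of_mem_img φ hg
    exact hstb a z hz) (SubQ.mem_img φ a) (by rw [mem_EE]; simp [e1])
  let θ := (H256.G2.eA F).symm.toMonoidHom.comp (χ.codRestrict (H566.G2.MK e1) fun a => by
    obtain ⟨a, rfl⟩ := QuotientGroup.mk_surjective a
    exact hfix a)
  have hθ : Function.Injective θ := (H256.G2.eA F).symm.injective.comp fun a b h => hχ (congrArg Subtype.val h)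
  have h1 := θ.range.card_mul_index
  have h2 := S0242.result (F := F) hF 3 (by norm_num)
  rw [← Nat.card_congr (MonoidHom.ofInjective hθ).toEquiv, hc] at h1
  rw [← h1, Fin.prod_univ_three] at h2
  refine index_ne (LieClassical.SLGen.commutator_eq_top (by simp)) θ.range ?_
  norm_num at h2
  omega

end L34

/-- **`L₃(4)` is not a subgroup of `G₂(4)`.** -/
theorem boxL34 : BoxL34 := fun G _ _ hG L hL => by
  obtain ⟨F, _, _, hF, ⟨f⟩⟩ := hG.real
  obtain ⟨E, _, _, hE, ⟨e⟩⟩ := hL.real
  obtain ⟨g⟩ := exists_equiv (F := F)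
  exact L34.not_hom hF hE ((Nat.card_congr e.toEquiv).symm.trans (hL.ord.trans (by decide +kernel)))
    ((Nat.card_congr (g.trans f.symm).toEquiv).trans (hG.ord.trans (by decide +kernel)))
    (((f.trans g.symm).toMonoidHom.comp L.subtype).comp e.symm.toMonoidHom)
    (((f.trans g.symm).injective.comp L.subtype_injective).comp e.symm.injective)

end Cfsg.Agent.SM.Ex78
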