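import Cfsg.Agent.SM.Ex78.T2
import Cfsg.Agent.TH.ExG.Main
import Cfsg.Agent.H717.Dickson
import Cfsg.Agent.H979.LieSplit
import Cfsg.Agent.H580.LieBad
import Cfsg.Agent.H364.OutLie
import Cfsg.Agent.OddOrderCharacters.PrimeTIGroup
import Cfsg.Agent.S0000

/-!
# SM (S3570), `S = G₂(q)`: `boxT3` (helper2)
-/

set_option autoImplicit false
set_option linter.unusedSectionVars false

namespace Cfsg.Agent.SM.Ex78

open Cfsg Subgroup T2

namespace T3

variable {F : Type} [Field F] [CharP F 3] {D : Type} [Group D] [Finite D] {n : ℕ}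

theorem mem_of_odd {B : Subgroup D} (hn : Odd n) {z : D} (h : z ^ 2 ∈ B) (hz : z ^ n = 1) : z ∈ B := by
  obtain ⟨m, rfl⟩ := hn
  have h1 := B.pow_mem h (m + 1)
  rwa [← pow_mul, mul_add, mul_one, show 2 * m + 2 = 2 * m + 1 + 1 from rfl, pow_succ, hz, one_mul] at h1

/-- the elements of odd order of a `3'`-subgroup of `SL₂` commute -/
theorem comm_sl (ρ : D →* Matrix.SpecialLinearGroup (Fin 2) F) (hρ : Function.Injective ρ) (h3 : ¬ 3 ∣ Nat.card D)
    (hn : Odd n) {x y : D} (hx : x ^ n = 1) (hy : y ^ n = 1) : x * y = y * x := by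
  have := Fact.mk Nat.prime_three
  let _ : DistribMulAction D (Fin 2 → F) := .compHom _ (Matrix.SpecialLinearGroup.coeMonoidHom.comp ρ)
  have : FaithfulSMul D (Fin 2 → F) := ⟨fun h => hρ (Subtype.ext (Matrix.ext_iff_mulVec.2 h))⟩
  obtain ⟨Z, _, -, h⟩ := H717.Dickson.cases (K := F) 3 (D := D) (E := Fin 2 → F) (by simp)
    (fun d c e => Matrix.mulVec_smul (ρ d).1 c e) h3
  have k : ∀ {X : Type} [Group X], Nonempty ((D ⧸ Z) ≃* X) → ¬ 3 ∣ Nat.card X := fun ⟨e⟩ h =>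
    h3 (h.trans (Nat.card_congr e.toEquiv ▸ card_quotient_dvd_card Z))
  rcases h with ⟨B, _, h1, ⟨c, hc⟩, -⟩ | h | h | h
  · have m : ∀ z : D, z ^ 2 ∈ B := fun z => by
      rw [hc, pow_mul]
      exact B.pow_mem (B.pow_index_mem z) c
    exact h1 x (mem_of_odd hn (m x) hx) y (mem_of_odd hn (m y) hy)
  · exact absurd (by rw [nat_card_alternatingGroup, Nat.card_fin]; decide) (k h)
  · exact absurd (by rw [Nat.card_perm, Nat.card_fin]; decide) (k h)
  · exact absurd (by rw [nat_card_alternatingGroup, Nat.card_fin]; decide) (k h)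

section

variable {L₁ L₂ A : Subgroup D} (hc : ∀ x ∈ L₁, ∀ y ∈ L₂, x * y = y * x) (hz : ∀ z ∈ L₁, z ∈ L₂ → z ^ 2 = 1)

include hc hz

theorem sq_pow {a b : D} (ha : a ∈ L₁) (hb : b ∈ L₂) (h : (a * b) ^ n = 1) : (a ^ n) ^ 2 = 1 := by
  rw [Commute.mul_pow (hc a ha b hb), mul_eq_one_iff_eq_inv] at h
  exact hz _ (pow_mem ha n) (h ▸ inv_mem (pow_mem hb n))

theorem comm_part (e : L₁ ≃* Matrix.SpecialLinearGroup (Fin 2) F) (h3 : ¬ 3 ∣ Nat.card A) (hn : Odd n) {a b a' b' : D}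
    (ha : a ∈ L₁) (hb : b ∈ L₂) (h : a * b ∈ A) (ha' : a' ∈ L₁) (hb' : b' ∈ L₂) (h' : a' * b' ∈ A) (h1 : a ^ n = 1)
    (h2 : a' ^ n = 1) : a * a' = a' * a := by
  let K : Subgroup L₁ :=
    { carrier := {x | ∃ y ∈ L₂, x.1 * y ∈ A}
      one_mem' := ⟨1, one_mem _, by simp⟩
      mul_mem' := by
        rintro x x' ⟨y, h1, h2⟩ ⟨y', h3, h4⟩
        refine ⟨y * y', mul_mem h1 h3, ?_⟩
        rw [coe_mul, (show Commute x'.1 y from hc _ x'.2 y h1).mul_mul_mul_comm]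
        exact mul_mem h2 h4
      inv_mem' := by
        rintro x ⟨y, h1, h2⟩
        refine ⟨y⁻¹, inv_mem h1, ?_⟩
        rw [coe_inv, ← mul_inv_rev, ← hc _ x.2 y h1]
        exact inv_mem h2 }
  have k : ¬ 3 ∣ Nat.card K := fun k => by
    have := Fact.mk Nat.prime_three
    obtain ⟨x, hx⟩ := exists_prime_orderOf_dvd_card' 3 k
    obtain ⟨y, h1, h2⟩ := x.2
    have h4 := sq_pow hc hz x.1.2 h1 (congrArg Subtype.val (pow_card_eq_one' (x := (⟨_, h2⟩ : A))))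
    rw [← pow_mul, ← orderOf_dvd_iff_pow_eq_one, orderOf_coe, orderOf_coe, hx] at h4
    omega
  exact congrArg (fun x : K => x.1.1) (comm_sl (e.toMonoidHom.comp K.subtype) (e.injective.comp K.subtype_injective) k hn
    (x := ⟨⟨a, ha⟩, b, hb, h⟩) (y := ⟨⟨a', ha'⟩, b', hb', h'⟩) (Subtype.ext (Subtype.ext h1)) (Subtype.ext (Subtype.ext h2)))

theorem split (hn : Odd n) {x : D} (hx : x ∈ L₁ ⊔ L₂) (h : x ^ n = 1) :
    ∃ a ∈ L₁, ∃ b ∈ L₂, a * b = x ∧ a ^ n = 1 ∧ b ^ n = 1 := by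
  obtain ⟨a, ha, b, hb, rfl⟩ := (OddOrderCharacters.PrimeTIGroup.mem_sup_iff hc).1 hx
  have h1 : ∀ z : D, (z ^ n) ^ 2 = 1 → (z ^ (n + 1)) ^ n = 1 := fun z k => by
    obtain ⟨m, hm⟩ := hn.add_one.two_dvd
    rw [pow_right_comm, hm, pow_mul, k, one_pow]
  refine ⟨_, pow_mem ha (n + 1), _, pow_mem hb (n + 1), ?_, h1 a (sq_pow hc hz ha hb h), h1 b
    (sq_pow (fun x h y k => (hc y k x h).symm) (fun z h k => hz z k h) hb ha (hc a ha b hb ▸ h))⟩
  rw [← Commute.mul_pow (hc a ha b hb), pow_succ, h, one_mul]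

end

/-- the elements of odd order of a `3'`-subgroup of the centraliser of an involution commute -/
theorem comm_cen [Fintype F] (φ : D →* Lie.chevG2.group F) (hφ : Function.Injective φ) (h3 : ¬ 3 ∣ Nat.card D) {t : D}
    (ht : orderOf t = 2) (hcen : ∀ x, t * x = x * t) (hn : Odd n) {x y : D} (hx : x ^ n = 1) (hy : y ^ n = 1) :
    x * y = y * x := by
  have := Fact.mk Nat.prime_three
  have hF : Odd (Fintype.card F) := by
    obtain ⟨k, -, hk⟩ := FiniteField.card F 3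
    exact hk ▸ Odd.pow (by decide)
  have h2 := (orderOf_injective φ hφ t).trans ht
  obtain ⟨-, L₁, L₂, ⟨e₁⟩, ⟨e₂⟩, hc, h4, -, h5⟩ := S4279.result hF (φ t) h2
  have hz : ∀ z ∈ L₁, z ∈ L₂ → z ^ 2 = 1 := fun z h k =>
    orderOf_dvd_iff_pow_eq_one.1 (h2 ▸ orderOf_dvd_of_mem_zpowers (h4.le ⟨h, k⟩))
  have h6 : ∀ z : D, z ^ n = 1 → ∃ a ∈ L₁, ∃ b ∈ L₂, a * b = φ z ∧ a ^ n = 1 ∧ b ^ n = 1 := fun z h => by
    have k : φ z ^ n = 1 := by rw [← map_pow, h, map_one]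
    exact split hc hz hn (mem_of_odd hn (sq_mem_of_index_two h5
      ⟨φ z, mem_centralizer_singleton_iff.2 (by rw [← map_mul, ← map_mul, hcen])⟩) k) k
  rw [Nat.card_congr (φ.ofInjective hφ).toEquiv] at h3
  obtain ⟨a, ha, b, hb, k1, k2, k3⟩ := h6 x hx
  obtain ⟨a', ha', b', hb', k4, k5, k6⟩ := h6 y hy
  have k7 := comm_part hc hz e₁ h3 hn ha hb ⟨x, k1.symm⟩ ha' hb' ⟨y, k4.symm⟩ k2 k5
  have k8 := comm_part (fun x h y k => (hc y k x h).symm) (fun z h k => hz z k h) e₂ h3 hn hb ha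
    ⟨x, k1.symm.trans (hc a ha b hb)⟩ hb' ha' ⟨y, k4.symm.trans (hc a' ha' b' hb')⟩ k3 k6
  refine hφ ?_
  rw [map_mul, map_mul, ← k1, ← k4]
  exact (Commute.mul_right k7 (hc a ha b' hb')).mul_left (Commute.mul_right (hc a' ha' b hb).symm k8)

/-- a `3'`-group fixes an involution of a normal four-group -/
theorem exists_fix {A N : Subgroup D} (h3 : ¬ 3 ∣ Nat.card A) (hn : ∀ g ∈ A, ∀ x ∈ N, g * x * g⁻¹ ∈ N)
    (h : Nat.card N = 2 ∨ Nat.card N = 4) : ∃ t ∈ N, t ≠ 1 ∧ ∀ g ∈ A, t * g = g * t := by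
  let _ : MulAction A {x : N // x ≠ 1} :=
    { smul := fun g x => ⟨⟨g * x.1 * g⁻¹, hn g g.2 _ x.1.2⟩, fun k => x.2 (by simpa using k)⟩
      one_smul := fun x => Subtype.ext (Subtype.ext (by
        change ((1 : A) : D) * _ * ((1 : A)⁻¹ : A) = _
        simp))
      mul_smul := fun g g' x => Subtype.ext (Subtype.ext (by
        change ((g * g' : A) : D) * _ * ((g * g')⁻¹ : A) = g * (g' * _ * (g'⁻¹ : A)) * (g⁻¹ : A)
        simp [mul_assoc])) }
  have h1 : Nat.card {x : N // x ≠ 1} = Nat.card N - 1 := by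
    classical
    have := Fintype.ofFinite N
    simp
  have h2 : Nat.card (MulAction.toPermHom A {x : N // x ≠ 1}).range ∣ 2 ^ 1 :=
    ((Nat.prime_three.coprime_iff_not_dvd.2 fun k => h3 (k.trans (card_range_dvd _))).symm.dvd_mul_right).1
      ((card_subgroup_dvd_card _).trans (by rw [Nat.card_perm, h1]; rcases h with h | h <;> rw [h] <;> decide))
  obtain ⟨t, ht⟩ := (IsPGroup.of_card_dvd_pow h2).nonempty_fixed_point_of_prime_not_dvd_card {x : N // x ≠ 1}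
    (by rw [h1]; omega)
  refine ⟨t.1, t.1.2, fun k => t.2 (Subtype.ext k), fun g hg => (mul_inv_eq_iff_eq_mul.1 ?_).symm⟩
  exact congrArg (fun x : {x : N // x ≠ 1} => x.1.1) (ht ⟨_, ⟨g, hg⟩, rfl⟩)

/-- the order of a simple subgroup is divisible by three -/
theorem three_dvd [Fintype F] (φ : D →* Lie.chevG2.group F) (hφ : Function.Injective φ) (h : NS D) : 3 ∣ Nat.card D := by
  have := Fact.mk Nat.prime_three
  have := h.1
  have hna := TH.ExT.Mu.ne_comm h.2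
  by_cases hs : IsSporadicGroup D
  · rcases H444.G2S.spor_cases (p := 3) hna φ (fun h2 => by
      obtain ⟨a, b, hab⟩ := hna
      exact hab (hφ (by rw [h2]; rfl))) hs with ⟨-, ⟨⟨d⟩⟩ | ⟨⟨d⟩⟩⟩ | ⟨k, -⟩ | ⟨k, -⟩
    · rw [Nat.card_congr d.toEquiv, HNType.Alt.card_M11]; decide
    · rw [Nat.card_congr d.toEquiv, MTwelveType.SylowModel.card_M12]; decide
    · omega
    · omega
  by_cases hL : IsLieTypeChar 3 D
  · obtain ⟨P, U, ⟨s, hs⟩, hU⟩ := H979.LieSplit.hasSplit_of_isLieTypeChar Nat.prime_three hL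
    exact H580.LieBad.dvd_card hU hs
  obtain ⟨m, o, h1, -, -, -, h2⟩ := TH.ExG.on_list (H957.EPX.g2_list hna φ hφ S0000.result hs hL)
  exact h1.1 ▸ mul_one m ▸ (by decide : ∀ k ∈ TH.ExG.lS, 3 ∣ k) _ ((h2 1 (by decide) (one_dvd o)).resolve_right fun k => k.1 rfl)

end T3

open T3

theorem boxT3 : BoxT3 := fun Γ _ _ M S H T B f c hf hS hC h3 h7 => by
  obtain ⟨F, _, _, hF, ⟨e⟩⟩ := hS.real
  have := Fact.mk Nat.prime_three
  have := H364.OutLie.charP_of_card Nat.prime_three hf hF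
  have hA : T ⊓ B ≤ S := inf_le_left.trans c.le
  have hφ : Function.Injective (e.toMonoidHom.comp (inclusion hA)) := e.injective.comp (inclusion_injective _)
  rcases dich c.nb with ⟨l, N, hl, hN, h0, hn, hc, hp⟩ | ⟨L, hL⟩
  · by_cases h2 : l = 2
    swap
    · exact .inl ⟨l, sy c hC hl h2 hN h0 (pg_of hp) hn⟩
    subst h2
    have h4 := (TH.ExG.gr_of (p := 3) (hF ▸ hS.cond.1) e).rk (by decide) N (hN.trans hA) ⟨hl, h0, hp, hc⟩
    rw [← or_assoc] at h4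
    rcases h4 with h4 | ⟨-, h4⟩
    · obtain ⟨t, ht, ht1, h5⟩ := exists_fix h3 hn (h4.imp_right And.left)
      by_cases h6 : IsPGroup 2 ↥(T ⊓ B)
      · exact .inr ⟨rfl, h6⟩
      obtain ⟨r, hr, hd, h2⟩ : ∃ r, r.Prime ∧ r ∣ Nat.card ↥(T ⊓ B) ∧ r ≠ 2 := by
        by_contra! k
        exact h6 (.of_card (Nat.eq_prime_pow_of_unique_prime_dvd Nat.card_pos.ne' (k _)))
      have h8 : ∀ a ∈ T ⊓ B, ∀ b ∈ T ⊓ B, a ^ r = 1 → b ^ r = 1 → a * b = b * a := fun a ha b hb k1 k2 =>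
        congrArg Subtype.val (comm_cen _ hφ h3 (t := ⟨t, hN ht⟩) (by rw [orderOf_mk, orderOf_eq_prime (hp t ht) ht1])
          (fun x => Subtype.ext (h5 x x.2)) (hr.odd_of_ne_two h2) (x := ⟨a, ha⟩) (y := ⟨b, hb⟩) (Subtype.ext k1)
          (Subtype.ext k2))
      let K : Subgroup Γ :=
        { carrier := {a | a ∈ T ⊓ B ∧ a ^ r = 1}
          one_mem' := ⟨one_mem _, one_pow _⟩
          mul_mem' := fun {a b} ha hb => ⟨mul_mem ha.1 hb.1, by
            rw [Commute.mul_pow (h8 a ha.1 b hb.1 ha.2 hb.2), ha.2, hb.2, one_mul]⟩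
          inv_mem' := fun {a} ha => ⟨inv_mem ha.1, by rw [inv_pow, ha.2, inv_one]⟩ }
      have := Fact.mk hr
      obtain ⟨x, hx⟩ := exists_prime_orderOf_dvd_card' r hd
      refine .inl ⟨r, sy c hC hr h2 (N := K) (fun a ha => ha.1) (fun k => hr.one_lt.ne' ?_) (pg_of fun a ha => ha.2)
        fun g hg a ha => ⟨mul_mem (mul_mem hg ha.1) (inv_mem hg), by rw [conj_pow, ha.2, mul_one, mul_inv_cancel]⟩⟩
      rw [← hx, ← orderOf_coe, mem_bot.1 (k.le ⟨x.2, by rw [← hx, ← orderOf_coe, pow_orderOf_eq_one]⟩), orderOf_one]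
    · have h5 := (card_dvd_of_le (le_inf (fun g hg => mem_normalizer_fintype (hn g hg)) hA)).trans h4
      refine .inr ⟨rfl, .of_card_dvd_pow (n := 7) ((Nat.Coprime.mul_left (Nat.prime_three.coprime_iff_not_dvd.2 h3)
        ((Nat.Prime.coprime_iff_not_dvd (p := 7) (by norm_num)).2 fun k => ?_)).symm.dvd_mul_right.1 h5)⟩
      exact absurd ((h7 k).trans h5) (by decide)
  · exact absurd ((three_dvd ((e.toMonoidHom.comp (inclusion hA)).comp L.subtype) (hφ.comp L.subtype_injective) hL).trans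
      (card_subgroup_dvd_card L)) h3

end Cfsg.Agent.SM.Ex78
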