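import Cfsg.Agent.CharactersDeep.QuatSylow

/-!
# SM (S3570), exceptional socles of small rank: factorisations `S = X Y` (helper78)

* `Pd X Y` : every element is a product `x * y`;
* `Pd.relIndex`, `Pd.index_dvd`, `Pd.prime_dvd`, `Pd.cyc` (cyclic Sylow subgroups lie in one factor);
* `NoFac S` : no factorisation by two proper subgroups.
-/

set_option autoImplicit false

namespace Cfsg.Agent.SM.Ex78

open Subgroup

/-- `S = X Y` -/
def Pd {S : Type*} [Group S] (X Y : Subgroup S) : Prop := ∀ g : S, ∃ x ∈ X, ∃ y ∈ Y, g = x * y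

/-- no factorisation by two proper subgroups -/
def NoFac (S : Type*) [Group S] : Prop := ∀ X Y : Subgroup S, X ≠ ⊤ → Y ≠ ⊤ → ¬ Pd X Y

namespace Pd

variable {S : Type*} [Group S] {X Y : Subgroup S}

theorem symm (h : Pd X Y) : Pd Y X := fun g => by
  obtain ⟨x, hx, y, hy, e⟩ := h g⁻¹
  refine ⟨y⁻¹, Y.inv_mem hy, x⁻¹, X.inv_mem hx, ?_⟩
  rw [← mul_inv_rev, ← e, inv_inv]

theorem mono (h : Pd X Y) {X' Y' : Subgroup S} (hX : X ≤ X') (hY : Y ≤ Y') : Pd X' Y' := fun g => by
  obtain ⟨x, hx, y, hy, e⟩ := h g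
  exact ⟨x, hX hx, y, hY hy, e⟩

theorem map (h : Pd X Y) {S' : Type*} [Group S'] (f : S →* S') (hf : Function.Surjective f) :
    Pd (X.map f) (Y.map f) := fun g => by
  obtain ⟨g, rfl⟩ := hf g
  obtain ⟨x, hx, y, hy, e⟩ := h g
  exact ⟨f x, ⟨x, hx, rfl⟩, f y, ⟨y, hy, rfl⟩, by rw [e, map_mul]⟩

/-- conjugating the second factor -/
theorem conj (h : Pd X Y) (c : S) : Pd X (Y.map (MulAut.conj c).toMonoidHom) := fun g => by
  obtain ⟨x, hx, y, hy, e⟩ := h c
  obtain ⟨x', hx', y', hy', e'⟩ := h (g * x)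
  refine ⟨x' * x⁻¹, X.mul_mem hx' (X.inv_mem hx), c * (y⁻¹ * y' * y) * c⁻¹,
    ⟨y⁻¹ * y' * y, Y.mul_mem (Y.mul_mem (Y.inv_mem hy) hy') hy, rfl⟩, ?_⟩
  have h1 : g = x' * y' * x⁻¹ := by rw [← e', mul_inv_cancel_right]
  rw [h1, e]
  group

theorem relIndex (h : Pd X Y) : Y.relIndex X = Y.index := by
  let f : X ⧸ Y.subgroupOf X → S ⧸ Y := Quotient.map' (fun x : X => (x : S)) fun a b hab => by
    rw [QuotientGroup.leftRel_apply] at hab ⊢
    exact hab
  refine Nat.card_congr (Equiv.ofBijective f ⟨?_, ?_⟩)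
  · intro a b
    induction a using Quotient.inductionOn'
    induction b using Quotient.inductionOn'
    intro hab
    have h1 := Quotient.exact' hab
    apply Quotient.sound'
    rw [QuotientGroup.leftRel_apply] at h1 ⊢
    exact h1
  · intro c
    induction c using Quotient.inductionOn' with
    | h g =>
      obtain ⟨x, hx, y, hy, e⟩ := h g
      refine ⟨Quotient.mk'' ⟨x, hx⟩, Quotient.sound' ?_⟩
      rw [QuotientGroup.leftRel_apply]
      show x⁻¹ * g ∈ Y
      rw [e, inv_mul_cancel_left]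
      exact hy

theorem card_left (h : Pd X Y) : Nat.card ↥(X ⊓ Y) * Y.index = Nat.card X := by
  rw [← h.relIndex, Subgroup.relIndex, ← (Y.subgroupOf X).card_mul_index]
  congr 1
  rw [← Subgroup.inf_subgroupOf_left]
  exact (Nat.card_congr (subgroupOfEquivOfLe (inf_le_left : X ⊓ Y ≤ X)).toEquiv).symm

theorem index_dvd (h : Pd X Y) : Y.index ∣ Nat.card X := Dvd.intro_left _ h.card_left

theorem card (h : Pd X Y) : Nat.card S * Nat.card ↥(X ⊓ Y) = Nat.card X * Nat.card Y := by
  rw [← h.card_left, ← Y.card_mul_index]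
  ring

theorem card_dvd (h : Pd X Y) : Nat.card S ∣ Nat.card X * Nat.card Y := Dvd.intro _ h.card

theorem prime_dvd (h : Pd X Y) {r : ℕ} (hr : r.Prime) (hS : r ∣ Nat.card S) : r ∣ Nat.card X ∨ r ∣ Nat.card Y :=
  hr.dvd_mul.1 (hS.trans h.card_dvd)

theorem index_le [Finite S] (h : Pd X Y) : Y.index ≤ Nat.card X := Nat.le_of_dvd Nat.card_pos h.index_dvd

/-- **A cyclic Sylow subgroup lies in (a conjugate of) one of the factors.** -/
theorem cyc [Finite S] (h : Pd X Y) {r : ℕ} (hr : r.Prime) (hc : ∀ P : Subgroup S, IsPGroup r P → IsCyclic P) :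
    ¬ r ∣ X.index ∨ ¬ r ∣ Y.index := by
  classical
  have := Fact.mk hr
  obtain ⟨A⟩ : Nonempty (Sylow r X) := inferInstance
  obtain ⟨B⟩ : Nonempty (Sylow r Y) := inferInstance
  have hA : IsPGroup r ((A : Subgroup X).map X.subtype) := A.isPGroup'.map _
  have hB : IsPGroup r ((B : Subgroup Y).map Y.subtype) := B.isPGroup'.map _
  obtain ⟨P, hP⟩ := hA.exists_le_sylow
  obtain ⟨Q, hQ⟩ := hB.exists_le_sylow
  obtain ⟨c, hcPQ⟩ := MulAction.exists_smul_eq S Q P
  set Y' := Y.map (MulAut.conj c).toMonoidHom with hY'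
  have h' : Pd X Y' := h.conj c
  set A' := (A : Subgroup X).map X.subtype with hA'
  set B' := ((B : Subgroup Y).map Y.subtype).map (MulAut.conj c).toMonoidHom with hB'
  have hB'P : B' ≤ P := by
    rw [← hcPQ]
    rintro _ ⟨b, hb, rfl⟩
    rw [Sylow.smul_def, Sylow.pointwise_smul_def]
    exact Subgroup.smul_mem_pointwise_smul _ _ _ (hQ hb)
  have hB'Y : B' ≤ Y' := map_mono (map_subtype_le _)
  have hA'X : A' ≤ X := map_subtype_le _
  have cA : Nat.card A' = r ^ (Nat.card X).factorization r := by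
    rw [hA', card_map_of_injective X.subtype_injective, A.card_eq_multiplicity]
  have cY : Nat.card Y' = Nat.card Y := card_map_of_injective (MulAut.conj c).injective
  have cB : Nat.card B' = r ^ (Nat.card Y').factorization r := by
    rw [hB', card_map_of_injective (MulAut.conj c).injective, card_map_of_injective Y.subtype_injective,
      B.card_eq_multiplicity, cY]
  have iY : Y'.index = Y.index := by
    have h1 := Y'.card_mul_index
    rw [cY, ← Y.card_mul_index] at h1
    exact Nat.eq_of_mul_eq_mul_left Nat.card_pos h1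
  have hPc : IsCyclic P := hc _ P.isPGroup'
  have hv : ∀ (U V : Subgroup S), Pd U V → ∀ W : Subgroup S, W ≤ U ⊓ V → Nat.card W = r ^ (Nat.card U).factorization r →
      ¬ r ∣ V.index := by
    intro U V hUV W hW hWc hd
    have h1 : r ^ (Nat.card U).factorization r * r ∣ Nat.card ↥(U ⊓ V) * V.index :=
      Nat.mul_dvd_mul (hWc ▸ card_dvd_of_le hW) hd
    rw [hUV.card_left, ← pow_succ] at h1
    exact Nat.pow_succ_factorization_not_dvd Nat.card_pos.ne' hr h1
  rcases le_total ((Nat.card X).factorization r) ((Nat.card Y').factorization r) with hle | hle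
  · right
    rw [← iY]
    refine hv X Y' h' A' (le_inf hA'X (le_trans ?_ hB'Y)) cA
    refine Cfsg.Agent.CharactersDeep.QuatSylow.le_of_card_dvd_of_le_cyclic hPc hP hB'P ?_
    rw [cA, cB]
    exact pow_dvd_pow _ hle
  · left
    refine hv Y' X h'.symm B' (le_inf hB'Y (le_trans ?_ hA'X)) cB
    refine Cfsg.Agent.CharactersDeep.QuatSylow.le_of_card_dvd_of_le_cyclic hPc hB'P hP ?_
    rw [cA, cB]
    exact pow_dvd_pow _ hle

end Pd

theorem NoFac.congr {S S' : Type*} [Group S] [Group S'] (h : NoFac S') (e : S ≃* S') : NoFac S := by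
  intro X Y hX hY hP
  have ht : ∀ Z : Subgroup S, Z.map e.toMonoidHom = ⊤ → Z = ⊤ := by
    intro Z hZ
    rw [eq_top_iff]
    intro z _
    have h1 : e z ∈ Z.map e.toMonoidHom := hZ ▸ mem_top _
    obtain ⟨w, hw, h2⟩ := h1
    rwa [← e.injective h2]
  exact h _ _ (fun h1 => hX (ht _ h1)) (fun h1 => hY (ht _ h1)) (hP.map e.toMonoidHom e.surjective)

end Cfsg.Agent.SM.Ex78
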