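import Cfsg.Agent.SM.Mat.Tool
import Cfsg.Agent.SM.Ex78.Base
import Cfsg.Agent.SM.Ex78.Tab
import Cfsg.Agent.H436.Names
import Cfsg.Agent.H436.Ppd
import Cfsg.Agent.H946.ExcNum

/-!
# SM (S3570), `S = G₂(q)`: the boxes (helper78, plan in `notes/SM/g2.md`)

`ε = true` stands for `+` (`L₃(q)`, primes of order 3 modulo `q`), `ε = false` for `-` (`U₃(q)`, primes of order 6).
-/

set_option autoImplicit false

namespace Cfsg.Agent.SM.Ex78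

open Cfsg Cfsg.Lie Subgroup Cfsg.Agent.OrdDiv Cfsg.Agent.H436 Cfsg.Agent.H946.Num

/-- `q - ε` -/
def qm (ε : Bool) (q : ℕ) : ℕ := cond ε (q - 1) (q + 1)

/-- `q² + ε q + 1` -/
def Nc (ε : Bool) (q : ℕ) : ℕ := cond ε (N3 q) (N6 q)

/-- the primes of the class `ε` -/
def Cp (ε : Bool) (q r : ℕ) : Prop := Prim q (cond ε 3 6) r

/-- the name of `L₃^ε(q)` -/
def LU (ε : Bool) (q : ℕ) : Grp := cond ε (.psl 3 q) (.psu 3 q)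

/-- `(3, q - ε)` -/
def dd (ε : Bool) (q : ℕ) : ℕ := Nat.gcd 3 (qm ε q)

/-- the order of `SL₃^ε(q)` -/
def oL (ε : Bool) (q : ℕ) : ℕ := q ^ 3 * ((q ^ 2 - 1) * (qm ε q * Nc ε q))

/-- the shape `L₃^ε(q).k`, `k ∣ 2 d` (this includes `SL₃^ε(q)` and `SL₃^ε(q).2`) -/
def Sh (ε : Bool) (q : ℕ) {G : Type} [Group G] (Y : Subgroup G) : Prop :=
  (∃ k, k ∣ 2 * dd ε q ∧ dd ε q * Nat.card Y = k * oL ε q) ∧ ∃ x ∈ Y, orderOf x = qm (!ε) q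

/-- a non-abelian simple group -/
def NS (L : Type) [Group L] : Prop := IsSimpleGroup L ∧ ¬ IsMulCommutative L

/-! ### facts on `G₂(q)` -/

/-- box: `p ≥ 5`, two `p`-subgroups of order at least `q³` have conjugates which meet (both contain long root elements) -/
def BoxL1 : Prop := ∀ (F : Type) [Field F] [Fintype F] (p : ℕ) [Fact p.Prime] [CharP F p], 5 ≤ p →
  ∀ P Q : Subgroup ↥(chevG2.group F), IsPGroup p P → IsPGroup p Q → Fintype.card F ^ 3 ≤ Nat.card P →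
    Fintype.card F ^ 3 ≤ Nat.card Q → ∃ x ∈ P, x ≠ 1 ∧ ∃ g, g * x * g⁻¹ ∈ Q

/-- box: the structure of a non-solvable subgroup which contains a class prime and is the normaliser of its characteristic
subgroups -/
def BoxST : Prop := ∀ (p f : ℕ) (G : Type) [Group G] [Finite G], p.Prime → 1 ≤ f → IsNamed (.g2 (p ^ f)) G →
  ∀ (Y : Subgroup G) (ε : Bool) (r : ℕ), Cp ε (p ^ f) r → r ∣ Nat.card Y → ¬ Group.IsSolvable Y →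
    (∀ E : Subgroup Y, E.Characteristic → E ≠ ⊥ → normalizer ((E.map Y.subtype : Subgroup G) : Set G) ≤ Y) →
    (3 ∣ qm ε (p ^ f) ∧ Sh ε (p ^ f) Y) ∨
    (∃ L : Subgroup Y, L.Normal ∧ NS L ∧ L.index ∣ 6 * Nc ε (p ^ f) ∧
      ∀ ε' r', Cp ε' (p ^ f) r' → r' ∣ Nat.card Y → r' ∣ Nat.card L ∧ ¬ r' ∣ L.index) ∨
    (p ≠ 2 ∧ Nat.card Y ∣ 2688)

/-- box: the proper simple subgroups which contain a primitive prime of `p ^ (6 f) - 1` -/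
def BoxS6 : Prop := ∀ (p f : ℕ) (G : Type) [Group G] [Finite G], p.Prime → 1 ≤ f → IsNamed (.g2 (p ^ f)) G →
  ∀ L : Subgroup G, L ≠ ⊤ → NS L → ∀ s, Prim p (f * 6) s → s ∣ Nat.card L →
    IsNamed (.psu 3 (p ^ f)) L ∨ (p = 3 ∧ IsNamed (.ree (p ^ f)) L) ∨ (5 ≤ p ∧ ¬ p ^ 2 ∣ Nat.card L) ∨
    (p ^ f = 3 ∧ (Nat.card L = 168 ∨ Nat.card L = 504 ∨ Nat.card L = 1092)) ∨ (p ^ f = 4 ∧ Nat.card L = 1092)

/-- box: the proper simple subgroups which contain all primes of the class `+` -/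
def BoxS3 : Prop := ∀ (p f : ℕ) (G : Type) [Group G] [Finite G], p.Prime → 1 ≤ f → IsNamed (.g2 (p ^ f)) G →
  ∀ L : Subgroup G, L ≠ ⊤ → NS L → (∀ r, Prim (p ^ f) 3 r → r ∣ Nat.card L) →
    IsNamed (.psl 3 (p ^ f)) L ∨ (∃ h, f = 2 * h ∧ IsNamed (.g2 (p ^ h)) L) ∨ ¬ (p ^ f) ^ 3 ∣ p * Nat.card L ∨
    (p ^ f = 4 ∧ (Spor.IsoJ2 L ∨ Nat.card L = 6048))

/-- box: the exact indices -/
def BoxEX : Prop := ∀ (p f : ℕ) (G : Type) [Group G] [Finite G], p.Prime → 1 ≤ f → IsNamed (.g2 (p ^ f)) G →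
  ∀ (Y : Subgroup G) (L : Subgroup Y), L.Normal →
    (∀ ε, IsNamed (LU ε (p ^ f)) L → Sh ε (p ^ f) Y) ∧ (∀ h, f = 2 * h → IsNamed (.g2 (p ^ h)) L → L.index ∣ 2) ∧
    (IsNamed (.ree (p ^ f)) L → L.index ∣ 2) ∧ (p ^ f = 4 → Spor.IsoJ2 L → L = ⊤)

/-- box: `L₃(4)` is not a subgroup of `G₂(4)` -/
def BoxL34 : Prop := ∀ (G : Type) [Group G] [Finite G], IsNamed (.g2 4) G → ∀ L : Subgroup G, ¬ IsNamed (.psl 3 4) L

/-- box: the pairs `(J₂, U₃(4))` of `G₂(4)` with a common Sylow 5-subgroup are conjugate -/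
def BoxConj : Prop := ∀ (G : Type) [Group G] [Finite G], IsNamed (.g2 4) G → ∀ J₁ J₂ U₁ U₂ : Subgroup G,
  Spor.IsoJ2 J₁ → Spor.IsoJ2 J₂ → IsNamed (.psu 3 4) U₁ → IsNamed (.psu 3 4) U₂ → 25 ∣ Nat.card ↥(J₁ ⊓ U₁) →
    25 ∣ Nat.card ↥(J₂ ⊓ U₂) → ∃ g : G, J₁.map (MulAut.conj g).toMonoidHom = J₂ ∧ U₁.map (MulAut.conj g).toMonoidHom = U₂

/-- box: the normaliser of a Sylow 5-subgroup is a maximal subgroup of `J₂` -/
def BoxJM : Prop := ∀ (J : Type) [Group J] [Finite J], Spor.IsoJ2 J → ∀ P : Sylow 5 J,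
  IsCoatom (normalizer ((P : Subgroup J) : Set J))

/-! ### the level of `T` (`A = T ⊓ B`) -/

/-- the subgroups of odd prime power order are cyclic -/
def Cy {Γ : Type} [Group Γ] (A : Subgroup Γ) : Prop :=
  ∀ r : ℕ, r.Prime → r ≠ 2 → ∀ P ≤ A, IsPGroup r P → IsCyclic P

/-- `A` is the normaliser in `T` of a subgroup of odd prime order `r`, and `r` does not divide the degree -/
def Iv {Γ : Type} [Group Γ] (T B : Subgroup Γ) (r : ℕ) : Prop :=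
  r.Prime ∧ r ≠ 2 ∧ ¬ r ∣ B.relIndex T ∧ ∃ E ≤ T ⊓ B, Nat.card E = r ∧ T ⊓ normalizer (E : Set Γ) = T ⊓ B

/-- the outcome of the structure boxes -/
def Ou {Γ : Type} [Group Γ] (p : ℕ) (T B : Subgroup Γ) : Prop := (∃ r, Iv T B r) ∨ (p = 3 ∧ IsPGroup 2 ↥(T ⊓ B))

/-- box: all Sylow subgroups of `A` are cyclic -/
def BoxT2 : Prop := ∀ (Γ : Type) [Group Γ] [Finite Γ] (M S H T B : Subgroup Γ), Fac M S H T B → Cy (T ⊓ B) →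
  ¬ 4 ∣ Nat.card ↥(T ⊓ B) → ∃ r, Iv T B r

/-- box: `A` is a `3'`-subgroup of `G₂(3 ^ f)` -/
def BoxT3 : Prop := ∀ (Γ : Type) [Group Γ] [Finite Γ] (M S H T B : Subgroup Γ) (f : ℕ), Fac M S H T B → 1 ≤ f →
  IsNamed (.g2 (3 ^ f)) S → Cy (T ⊓ B) → ¬ 3 ∣ Nat.card ↥(T ⊓ B) → (7 ∣ Nat.card ↥(T ⊓ B) → 13 ∣ Nat.card ↥(T ⊓ B)) →
    Ou 3 T B

/-- box: `T = L₃^ε(q)`, `|A| = k (q² - 1) / (d d')` -/
def BoxTI : Prop := ∀ (Γ : Type) [Group Γ] [Finite Γ] (M S H T B : Subgroup Γ) (p f : ℕ) (ε : Bool), Fac M S H T B →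
  (p = 2 ∨ p = 3) → 3 ≤ p ^ f → ¬ (ε = true ∧ p ^ f = 4) → IsNamed (LU ε (p ^ f)) T → Ou p T B →
    ∀ k, k ∣ 2 * dd (!ε) (p ^ f) →
      dd ε (p ^ f) * dd (!ε) (p ^ f) * Nat.card ↥(T ⊓ B) ≠ k * ((p ^ f) ^ 2 - 1)

/-- box: `T = U₃(q)` or `²G₂(q)`, `|A|` divides `2 (q - 1)` -/
def BoxTU : Prop := ∀ (Γ : Type) [Group Γ] [Finite Γ] (M S H T B : Subgroup Γ) (p f : ℕ), Fac M S H T B →
  (p = 2 ∨ p = 3) → 9 ≤ p ^ f → (IsNamed (.psu 3 (p ^ f)) T ∨ (p = 3 ∧ IsNamed (.ree (p ^ f)) T)) → Ou p T B →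
    ¬ Nat.card ↥(T ⊓ B) ∣ 2 * (p ^ f - 1)

/-- the two rows -/
def Row {Γ : Type} [Group Γ] (S T B : Subgroup Γ) : Prop :=
  (Spor.IsoJ2 T ∧ Nat.card ↥(S ⊓ B) = 124800 ∧ ∃ L : Subgroup ↥(S ⊓ B), L.Normal ∧ IsNamed (.psu 3 4) L) ∨
    (IsNamed (.psu 3 4) T ∧ Spor.IsoJ2 ↥(S ⊓ B))

/-- box: only the two rows survive -/
def BoxId : Prop := ∀ (Γ : Type) [Group Γ] [Finite Γ] (M S H T B : Subgroup Γ), Fac M S H T B → IsoChevG2 S →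
  IsNamed (.g2 4) S ∧ Row S T B

end Cfsg.Agent.SM.Ex78
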