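import Cfsg.Agent.SM.Ex78.Defs
import Cfsg.Agent.H983.ElG.KMain
import Cfsg.Agent.H947.El.Ree
import Cfsg.Agent.H127.PSUThreeEx
import Cfsg.Agent.H375.LThree.Spec
import Cfsg.Agent.H161.G2Main
import Cfsg.Agent.H199.HT.JTwo
import Cfsg.Agent.H946.RadNum

/-!
# SM (S3570), `S = G₂(q)`: the exact indices (helper41)
-/

set_option autoImplicit false
set_option linter.unusedSectionVars false
set_option linter.unusedVariables false

namespace Cfsg.Agent.SM.Ex78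

open Cfsg Cfsg.Lie Subgroup Cfsg.Agent.OrdDiv Cfsg.Agent.H436 Cfsg.Agent.H946.Num Cfsg.Agent.H56.Exc

namespace EX

variable {Y : Type*} [Group Y] [Finite Y] {r m e : ℕ}

theorem mem_nz {x g : Y} : g ∈ normalizer (zpowers x : Set Y) ↔ g * x * g⁻¹ ∈ zpowers x := by
  refine ⟨fun h => (mem_normalizer_iff.1 h x).1 (mem_zpowers x), fun h => mem_normalizer_fintype ?_⟩
  rintro _ ⟨k, rfl⟩
  exact conj_zpow (a := g) ▸ zpow_mem h k

theorem mem_of_norm (h : Big Y r m e) {x z : Y} (hx : orderOf x = r) (hz : orderOf z = r)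
    (hn : z ∈ normalizer (zpowers x : Set Y)) : z ∈ zpowers x := by
  have h1 := h.aut x z hx (mem_nz.1 hn)
  obtain ⟨k, hk⟩ := exists_pow_eq_self_of_coprime (x := z) (n := e)
    (hz ▸ ((Nat.Prime.coprime_iff_not_dvd h.prime).2 h.ndvd).symm)
  exact mem_zpowers_of_cyclic (h.cyc x hx) (mem_centralizer_singleton_iff.2 rfl)
    (mem_centralizer_singleton_iff.2 (hk ▸ (h1.pow_left k).eq)) (by rw [hx, hz])

theorem fix_iff (h : Big Y r m e) {x z : Y} (hx : orderOf x = r) (hz : orderOf z = r) (g : Y) :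
    (g : Y ⧸ normalizer (zpowers x : Set Y)) ∈ MulAction.fixedPoints (zpowers z) (Y ⧸ normalizer (zpowers x : Set Y)) ↔
      g⁻¹ * z * g ∈ zpowers x := by
  refine ⟨fun h1 => mem_of_norm h hx ?_ ?_, fun h1 => ?_⟩
  · rw [← hz, ← (MulAut.conj g⁻¹).orderOf_eq z, MulAut.conj_apply, inv_inv]
  · have h2 : ((z * g : Y) : Y ⧸ normalizer (zpowers x : Set Y)) = g := h1 ⟨z, mem_zpowers z⟩
    rw [eq_comm, QuotientGroup.eq, ← mul_assoc] at h2
    exact h2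
  · rintro ⟨_, k, rfl⟩
    show ((z ^ k * g : Y) : Y ⧸ normalizer (zpowers x : Set Y)) = g
    rw [eq_comm, QuotientGroup.eq, ← mul_assoc]
    have h2 := le_normalizer (zpow_mem h1 k)
    rwa [show g⁻¹ * z * g = g⁻¹ * z * g⁻¹⁻¹ by rw [inv_inv], conj_zpow, inv_inv] at h2

theorem isP (h : Big Y r m e) {z : Y} (hz : orderOf z = r) : IsPGroup r (zpowers z) :=
  IsPGroup.of_card (n := 1) (by rw [Nat.card_zpowers, hz, pow_one])

/-- the number of subgroups of order `r` -/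
theorem index_mod (h : Big Y r m e) {x : Y} (hx : orderOf x = r) : (normalizer (zpowers x : Set Y)).index ≡ 1 [MOD r] := by
  have := Fact.mk h.prime
  refine ((isP h hx).card_modEq_card_fixedPoints _).trans (congrArg (· % r) ?_)
  rw [Nat.card_eq_one_iff_exists]
  refine ⟨⟨(1 : Y), (fix_iff h hx hx 1).2 (by simp)⟩, ?_⟩
  rintro ⟨g, hg⟩
  obtain ⟨g, rfl⟩ := QuotientGroup.mk_surjective g
  refine Subtype.ext (QuotientGroup.eq.2 ?_)
  rw [mul_one, mem_nz, inv_inv]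
  exact (fix_iff h hx hx g).1 hg

theorem exists_conj (h : Big Y r m e) {x z : Y} (hx : orderOf x = r) (hz : orderOf z = r) : ∃ g, g⁻¹ * z * g ∈ zpowers x := by
  have := Fact.mk h.prime
  obtain ⟨g, hg⟩ := (isP h hz).nonempty_fixed_point_of_prime_not_dvd_card (Y ⧸ normalizer (zpowers x : Set Y)) fun hd =>
    h.prime.one_lt.ne' (Nat.dvd_one.1 (((index_mod h hx).dvd_iff dvd_rfl).1 hd))
  obtain ⟨g, rfl⟩ := QuotientGroup.mk_surjective g
  exact ⟨g, (fix_iff h hx hz g).1 hg⟩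

/-- **Frattini** -/
theorem core (h : Big Y r m e) (L : Subgroup Y) [hL : L.Normal] {x : L} (hx : orderOf x = r) :
    L.index * Nat.card (normalizer (zpowers x : Set L)) ∣ e * m := by
  have hx' : orderOf (x : Y) = r := by rw [orderOf_coe, hx]
  have h1 : ∀ g : L, g ∈ normalizer (zpowers x : Set L) ↔ (g : Y) ∈ normalizer (zpowers (x : Y) : Set Y) := fun g => by
    rw [mem_nz, mem_nz]
    exact ⟨fun ⟨k, hk⟩ => ⟨k, congrArg Subtype.val hk⟩, fun ⟨k, hk⟩ => ⟨k, Subtype.ext hk⟩⟩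
  have h2 : normalizer (zpowers (x : Y) : Set Y) ⊔ L = ⊤ := eq_top_iff.2 fun g _ => by
    obtain ⟨l, k, hk⟩ := exists_conj (h.subgroup L) hx (z := ⟨g * x * g⁻¹, hL.conj_mem _ x.2 g⟩) (by
      rw [← orderOf_coe, ← hx']; exact (MulAut.conj g).orderOf_eq _)
    have h3 : (l : Y)⁻¹ * g ∈ normalizer (zpowers (x : Y) : Set Y) := mem_nz.2 ⟨k, (congrArg Subtype.val hk).trans (by
      simp [mul_assoc])⟩
    simpa using mul_mem (mem_sup_right l.2) (mem_sup_left h3)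
  refine Dvd.dvd.trans (dvd_of_eq ?_) (h.card_normalizer_dvd hx')
  rw [← relIndex_top_right, ← h2, relIndex_sup_right, ← (L.subgroupOf (normalizer (zpowers (x : Y) : Set Y))).card_mul_index,
    mul_comm]
  congr 1
  exact Nat.card_congr ⟨fun g => ⟨⟨g.1.1, (h1 _).1 g.2⟩, g.1.2⟩, fun g => ⟨⟨g.1.1, g.2⟩, (h1 _).2 g.1.2⟩, fun _ => rfl, fun _ => rfl⟩

theorem main (h : Big Y r m e) (L : Subgroup Y) [L.Normal] {y : L} {w : ℕ} (hr : r ∣ orderOf y)
    (hw : Nat.card L = orderOf y * w) : ∃ (j : ℕ) (x : L), orderOf x = r ∧ j ≡ w [MOD r] ∧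
      Nat.card (normalizer (zpowers x : Set L)) = orderOf y * j ∧ L.index * (orderOf y * j) ∣ e * m := by
  have h0 := orderOf_pos y
  have hx : orderOf (y ^ (orderOf y / r)) = r := orderOf_pow_orderOf_div h0.ne' hr
  obtain ⟨j, hj⟩ := orderOf_dvd_natCard _ (show y ∈ normalizer (zpowers (y ^ (orderOf y / r)) : Set L) from mem_nz.2 (by
    rw [← conj_pow, mul_inv_cancel_right]; exact mem_zpowers _))
  refine ⟨j, _, hx, ?_, hj, hj ▸ core h L hx⟩
  have h1 := (normalizer (zpowers (y ^ (orderOf y / r)) : Set L)).card_mul_index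
  rw [hj, hw, mul_assoc] at h1
  rw [← Nat.eq_of_mul_eq_mul_left h0 h1]
  simpa using ((index_mod (h.subgroup L) hx).mul_left j).symm

/-! ### numbers -/

theorem s2 (a : ℕ) : (a + 1) ^ 2 - 1 = a * (a + 2) := Nat.sub_eq_of_eq_add (by ring)
theorem s3 (a : ℕ) : (a + 1) ^ 3 - 1 = a * (a ^ 2 + 3 * a + 3) := Nat.sub_eq_of_eq_add (by ring)
theorem s6 (a : ℕ) : (a + 1) ^ 6 - 1 = a * (a + 2) * (a ^ 2 + a + 1) * (a ^ 2 + 3 * a + 3) := Nat.sub_eq_of_eq_add (by ring)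
theorem n3 (a : ℕ) : N3 (a + 1) = a ^ 2 + 3 * a + 3 := by rw [N3]; ring
theorem n6 (a : ℕ) : N6 (a + 1) = a ^ 2 + a + 1 := by
  rw [N6, show (a + 1) ^ 2 - (a + 1) = a ^ 2 + a from Nat.sub_eq_of_eq_add (by ring)]

theorem zm {n a : ℕ} (h : n ∣ a) : (a : ZMod n) = 0 := (ZMod.natCast_eq_zero_iff a n).2 h

theorem seven {q r : ℕ} {ε : Bool} (hq : 1 ≤ q) (h : Cp ε q r) : 7 ≤ r ∧ r ∣ Nc ε q := by
  have h1 := h.prime.two_le
  cases ε
  · exact ⟨prim_lt hq (by norm_num) h, prim_N6 hq h⟩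
  · have h2 : 3 ∣ r - 1 := H946.Num.prim_mod hq (by norm_num) h
    have h3 := h.odd (by norm_num)
    exact ⟨by omega, prim_N3 hq h⟩

theorem w_three {q r : ℕ} {ε : Bool} (hq : 1 ≤ q) (h : r ∣ Nc ε q) : q ^ 3 * ((q ^ 2 - 1) * qm ε q) ≡ 3 [MOD r] := by
  obtain ⟨a, rfl⟩ : ∃ a, q = a + 1 := ⟨q - 1, by omega⟩
  rw [← ZMod.natCast_eq_natCast_iff]
  have h1 := zm h
  cases ε <;> simp only [Nc, qm, cond, n3, n6, s2, Nat.add_sub_cancel] at h1 ⊢ <;> push_cast at h1 ⊢ <;> grind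

theorem eq_of_mod {j r c n : ℕ} (hr : 7 ≤ r) (hp : r.Prime) (h : j ≡ c [MOD r]) (hj : j ∣ n) (hn : n = 18 ∧ c = 3 ∨ n = 6 ∧ c = 6) :
    j = c := by
  have h1 : j ≤ 18 := (Nat.le_of_dvd (by omega) hj).trans (by omega)
  rcases le_total j c with h2 | h2
  · have h3 := (Nat.modEq_iff_dvd' h2).1 h
    have h4 := Nat.pos_of_dvd_of_pos hj (by omega)
    have h5 := Nat.eq_zero_of_dvd_of_lt h3 (by omega)
    omega
  · have h3 := (Nat.modEq_iff_dvd' h2).1 h.symm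
    by_contra h4
    have h5 := Nat.le_of_dvd (by omega) h3
    rcases hn with ⟨rfl, rfl⟩ | ⟨rfl, rfl⟩
    · obtain rfl : j = 18 := by interval_cases j <;> omega
      interval_cases r <;> first | omega | norm_num at hp
    · have := Nat.le_of_dvd (by norm_num) hj
      omega

theorem card_g2 {q : ℕ} {L : Type*} [Group L] (h : IsNamed (.g2 q) L) : Nat.card L = q ^ 6 * ((q ^ 2 - 1) * (q ^ 6 - 1)) :=
  (one_mul _).symm.trans h.eq

theorem lu_data {q : ℕ} {ε : Bool} {L : Type} [Group L] [Finite L] (hq : 2 ≤ q) (h : IsNamed (LU ε q) L) :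
    dd ε q * Nat.card L = oL ε q ∧ (∃ y : L, dd ε q * orderOf y = Nc ε q) ∧ ∃ x : L, orderOf x = qm (!ε) q := by
  have h1 := h.eq
  cases ε
  · obtain ⟨F, _, _, hF, ⟨φ⟩⟩ := h.real
    obtain ⟨p, hp⟩ := CharP.exists F
    have := Fact.mk (CharP.char_is_prime F p)
    obtain ⟨y, hy⟩ := H127.PSUThreeEx.ex_four p hF _ dvd_rfl
    obtain ⟨a, rfl⟩ : ∃ a, q = a + 1 := ⟨q - 1, by omega⟩
    obtain ⟨x, hx⟩ := H127.PSUThreeEx.ex_three hF a (Nat.dvd_div_of_mul_dvd (by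
      rw [s2, mul_comm]; exact Nat.mul_dvd_mul_left _ (Nat.gcd_dvd_right _ _)))
    refine ⟨Nat.eq_of_mul_eq_mul_left (show 0 < a + 2 by omega) ?_, ⟨φ.symm y, ?_⟩, φ.symm x, (φ.symm.orderOf_eq x).trans hx⟩
    · have h2 : Nat.gcd 3 (a + 1 + 1) * (a + 1 + 1) * Nat.card L =
          (a + 1) ^ 3 * (((a + 1) ^ 1 + 1) * (((a + 1) ^ 2 - 1) * (((a + 1) ^ 3 + 1) * 1))) := h1
      simp only [oL, dd, qm, Nc, cond, n6]
      linear_combination h2
    · rw [φ.symm.orderOf_eq, hy]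
      refine Nat.mul_div_cancel' ((Nat.dvd_add_iff_left (dvd_mul_of_dvd_left (Nat.gcd_dvd_left 3 (a + 1 + 1)) (a + 1))).2 ?_)
      rw [← N6, n6, show a ^ 2 + a + 1 + 3 * (a + 1) = (a + 1 + 1) * (a + 1 + 1) by ring]
      exact dvd_mul_of_dvd_left (Nat.gcd_dvd_right _ _) _
  · obtain ⟨F, _, _, rfl, ⟨φ⟩⟩ := h.real
    obtain ⟨y, hy⟩ := H375.LThree.exists_order_nn (F := F)
    obtain ⟨x, hx⟩ := H375.LThree.exists_order_xx (F := F)
    obtain ⟨z, hz⟩ := H375.LThree.exists_order_of_dvd (g := x) (n := Fintype.card F + 1) (hx ▸ dvd_mul_right _ _)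
    refine ⟨?_, ⟨φ.symm y, ?_⟩, φ.symm z, (φ.symm.orderOf_eq z).trans hz⟩
    · obtain ⟨a, ha⟩ : ∃ a, Fintype.card F = a + 1 := ⟨Fintype.card F - 1, by omega⟩
      rw [ha] at h1 hq ⊢
      have h2 : Nat.gcd 3 a * a * Nat.card L =
          ((a + 1) ^ 3 - 1) * (((a + 1) ^ 3 - (a + 1) ^ 1) * (((a + 1) ^ 3 - (a + 1) ^ 2) * 1)) := h1
      rw [s3, show (a + 1) ^ 3 - (a + 1) ^ 1 = (a + 1) * a * (a + 2) from Nat.sub_eq_of_eq_add (by ring),
        show (a + 1) ^ 3 - (a + 1) ^ 2 = (a + 1) ^ 2 * a from Nat.sub_eq_of_eq_add (by ring)] at h2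
      refine Nat.eq_of_mul_eq_mul_left (show 0 < a by omega) ?_
      simp only [oL, dd, qm, Nc, cond, n3, s2, Nat.add_sub_cancel]
      linear_combination h2
    · rw [φ.symm.orderOf_eq, hy]
      exact H375.LThree.dd_mul_nn _ (by omega)

variable {p f : ℕ} {G : Type} [Group G] [Finite G]

theorem lu (D : H983.KG2.Dat G p f) (Y : Subgroup G) (L : Subgroup Y) [L.Normal] (ε : Bool)
    (h : IsNamed (LU ε (p ^ f)) L) : Sh ε (p ^ f) Y := by
  have h3 := D.h3q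
  obtain ⟨h1, ⟨y, hy⟩, x, hx⟩ := lu_data (by omega) h
  obtain ⟨r, hr⟩ : ∃ r, Cp ε (p ^ f) r := exists_prim (by omega) (by cases ε <;> simp) (by omega)
  have hb : Big G r (Nc ε (p ^ f)) 6 := by
    cases ε
    exacts [D.b6 r hr, D.b3 r hr]
  obtain ⟨h7, hd⟩ := seven (by omega) hr
  have h4 : dd ε (p ^ f) ∣ 3 := Nat.gcd_dvd_left _ _
  have h5 : 0 < dd ε (p ^ f) := Nat.pos_of_dvd_of_pos h4 (by norm_num)
  obtain ⟨j, -, -, hj, -, h6⟩ := main (hb.subgroup Y) L (y := y) (w := (p ^ f) ^ 3 * (((p ^ f) ^ 2 - 1) * qm ε (p ^ f)))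
    ((hr.prime.dvd_mul.1 (hy ▸ hd)).resolve_left fun k => by have := Nat.le_of_dvd (by norm_num) (k.trans h4); omega)
    (Nat.eq_of_mul_eq_mul_left h5 (by rw [h1, oL, ← hy]; ring))
  have h8 : L.index * j ∣ 6 * dd ε (p ^ f) := Nat.dvd_of_mul_dvd_mul_left (orderOf_pos y) (by
    rw [← hy] at h6
    convert h6 using 1 <;> ring)
  obtain rfl : j = 3 := eq_of_mod h7 hr.prime (hj.trans (w_three (by omega) hd))
    (((dvd_mul_left _ _).trans h8).trans (Nat.mul_dvd_mul_left 6 h4)) (.inl ⟨rfl, rfl⟩)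
  refine ⟨⟨L.index, Nat.dvd_of_mul_dvd_mul_right (show 0 < 3 by norm_num) (by convert h8 using 1; ring), ?_⟩,
    x, x.1.2, by rw [orderOf_coe, orderOf_coe, hx]⟩
  rw [← L.card_mul_index, ← h1]
  ring

theorem index_dvd (Y : Subgroup G) (L : Subgroup Y) {n : ℕ} (h : Nat.card G = Nat.card L * n) : L.index ∣ n :=
  Nat.dvd_of_mul_dvd_mul_left (Nat.card_pos (α := L)) (by rw [L.card_mul_index, ← h]; exact card_subgroup_dvd_card Y)

theorem sub (hp : p.Prime) {h : ℕ} (hG : IsNamed (.g2 (p ^ (2 * h))) G) (hf : 1 ≤ 2 * h) (Y : Subgroup G) (L : Subgroup Y)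
    [L.Normal] (hL : IsNamed (.g2 (p ^ h)) L) : L.index ∣ 2 := by
  have := Fact.mk hp
  have D := H983.KG2.dat_of hG hp hf
  have D' := H983.KG2.dat_of hL hp (by omega)
  have h3 := D'.h3q
  obtain ⟨r, hr⟩ := exists_prim (q := p ^ h) (e := 6) (by omega) (by omega) (by omega)
  have e : p ^ (2 * h) = (p ^ h) ^ 2 := by rw [← pow_mul, mul_comm]
  have hb := D.b3 r (e ▸ H946.Num.prim_pow (e := 3) (a := 2) (by norm_num) hr)
  obtain ⟨h7, hd⟩ := seven (ε := false) (by omega) hr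
  obtain ⟨F, _, _, hF, ⟨φ⟩⟩ := hL.real
  obtain ⟨y, hy⟩ := H161.G2Main.lower (by omega) hF h3 (N := p ^ (2 * h) - p ^ h + 1) (by simp)
  have hy' : orderOf (φ.symm y) = N6 (p ^ h) := by rw [φ.symm.orderOf_eq, hy, e, N6]
  have c1 := card_g2 hG
  have c2 := card_g2 hL
  have hb' := D'.b6 r hr
  rw [e] at hb c1
  obtain ⟨a, ha⟩ : ∃ a, p ^ h = a + 1 := ⟨p ^ h - 1, by omega⟩
  rw [ha] at hb hb' c1 c2 hy' hd
  obtain ⟨j, x, hx, hj, h5, h6⟩ := main (hb.subgroup Y) L (y := φ.symm y)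
    (w := (a + 1) ^ 6 * (a * (a + 2) * (a * (a + 2) * (a ^ 2 + 3 * a + 3)))) (hy' ▸ hd) (by rw [c2, hy', s2, s6, n6]; ring)
  have h8 := hb'.card_normalizer_dvd hx
  rw [h5, hy', mul_comm] at h8
  rw [hy', n6] at h6
  have h9 := zm hd
  rw [Nc, cond, n6] at h9
  obtain rfl : j = 6 := eq_of_mod h7 hr.prime (hj.trans (by
    rw [← ZMod.natCast_eq_natCast_iff]
    push_cast at h9 ⊢
    grind)) (Nat.dvd_of_mul_dvd_mul_right (by rw [n6]; omega) h8) (.inr ⟨rfl, rfl⟩)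
  have h10 : L.index ∣ a ^ 2 + 3 * a + 3 := Nat.dvd_of_mul_dvd_mul_right (show 0 < (a ^ 2 + a + 1) * 6 by omega) (by
    convert h6 using 1
    rw [N3]
    ring)
  have h11 := index_dvd Y L (n := (a + 1) ^ 6 * (((a + 1) ^ 2 + 1) * ((a + 1) ^ 6 + 1))) (by
    rw [c1, c2, show ((a + 1) ^ 2) ^ 2 - 1 = ((a + 1) ^ 2 + 1) * ((a + 1) ^ 2 - 1) from Nat.sq_sub_sq _ 1,
      show ((a + 1) ^ 2) ^ 6 - 1 = ((a + 1) ^ 6 + 1) * ((a + 1) ^ 6 - 1) from
        (by ring_nf : _ = ((a + 1) ^ 6) ^ 2 - 1 ^ 2).trans (Nat.sq_sub_sq _ 1)]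
    ring)
  have h12 := zm h10
  have h13 := zm h11
  rw [← ZMod.natCast_eq_zero_iff]
  push_cast at h12 h13 ⊢
  grind

theorem ree (hp : p.Prime) (hf : 1 ≤ f) (hG : IsNamed (.g2 (p ^ f)) G) (Y : Subgroup G) (L : Subgroup Y)
    [L.Normal] (hL : IsNamed (.ree (p ^ f)) L) : L.index ∣ 2 := by
  have D := H983.KG2.dat_of hG hp hf
  obtain ⟨F, _, _, m, hm, hF, e, ⟨φ⟩⟩ := hL.real
  obtain ⟨r, n⟩ := H947.El.exists_reeN m hm
  have R := H947.El.reeF hm (hF.trans e) n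
  have hr : Prim (p ^ f) 6 r := e ▸ ⟨n.pr, fun j => by
    rw [← pow_mul, n.iff, mul_comm _ j]; exact Nat.mul_dvd_mul_iff_right (by omega), n.nq⟩
  have := Fact.mk n.pr
  obtain ⟨x, hx⟩ := exists_prime_orderOf_dvd_card' (G := L) r (by
    rw [Nat.card_congr φ.toEquiv, R.card, n.cube]; exact (n.dvd.mul_left _).mul_left _)
  have h1 := core ((D.b6 r hr).subgroup Y) L hx
  have h19 := n.q19
  have hx' : Nat.card (zpowers (φ x)) = r := by rw [Nat.card_zpowers, φ.orderOf_eq, hx]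
  obtain ⟨A, -, hA, h2⟩ := R.norm r n.pr (by omega) _ hx'
  have h3 : r ∣ Nat.card A := hx' ▸ card_dvd_of_le hA
  have h4 : Nat.card (normalizer (zpowers x : Set L)) = Nat.card (normalizer (zpowers (φ x) : Set _)) :=
    Nat.card_congr (φ.toEquiv.subtypeEquiv fun g => by
      rw [mem_nz, mem_nz]
      exact ⟨fun ⟨k, hk⟩ => ⟨k, by simpa using congrArg φ hk⟩, fun ⟨k, hk⟩ => ⟨k, φ.injective (by simpa using hk)⟩⟩)
  have h5 : L.index ∣ N6 (p ^ f) := by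
    rcases h2 with ⟨k, -⟩ | ⟨k, -⟩ | ⟨-, k⟩
    · exact absurd (k ▸ h3.mul_left 2) n.nq1
    · exact absurd (k ▸ h3.mul_left 4) n.nqp
    · rw [h4, k, mul_left_comm] at h1
      exact (dvd_mul_right _ _).trans (Nat.dvd_of_mul_dvd_mul_left (by norm_num) h1)
  have c1 := card_g2 hG
  have c2 : Nat.card L = (p ^ f) ^ 3 * ((p ^ f - 1) * ((p ^ f) ^ 3 + 1)) := (one_mul _).symm.trans hL.eq
  obtain ⟨b, hb⟩ := e ▸ n.q3
  obtain ⟨a, ha⟩ : ∃ a, p ^ f = a + 1 := ⟨p ^ f - 1, by have := D.h3q; omega⟩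
  rw [ha] at c1 c2 h5 hb
  have h6 := zm (index_dvd Y L (n := (a + 1) ^ 3 * ((a + 2) * (a * (a ^ 2 + 3 * a + 3)))) (by
    rw [c1, c2, s2, s6, Nat.add_sub_cancel]; ring))
  have h7 := zm h5
  have h8 := congrArg (Nat.cast : ℕ → ZMod L.index) hb
  rw [n6] at h7
  rw [← ZMod.natCast_eq_zero_iff]
  push_cast at h6 h7 h8 ⊢
  grind

theorem jtwo (hp : p.Prime) (hf : 1 ≤ f) (hG : IsNamed (.g2 (p ^ f)) G) (Y : Subgroup G) (L : Subgroup Y)
    [L.Normal] (h4 : p ^ f = 4) (hL : Spor.IsoJ2 L) : L = ⊤ := by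
  have D := H983.KG2.dat_of hG hp hf
  obtain ⟨r, hr⟩ := exists_prim (q := p ^ f) (e := 3) (by omega) le_rfl (by omega)
  have hb := D.b3 r hr
  obtain ⟨h7, hd⟩ := seven (ε := true) (by omega) hr
  have c1 := card_g2 hG
  have c2 := H199.HT.card_J2 hL
  rw [h4] at hb hd c1
  have h1 : r ∣ 21 := hd
  obtain rfl : r = 7 := by
    have := Nat.le_of_dvd (by norm_num) h1
    have := hr.prime
    interval_cases r <;> first | omega | norm_num at this
  have := Fact.mk hr.prime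
  obtain ⟨x, hx⟩ := exists_prime_orderOf_dvd_card' (G := L) 7 (by rw [c2]; norm_num)
  obtain ⟨j, -, -, hj, -, h6⟩ := main (hb.subgroup Y) L (y := x) (w := 86400) (hx ▸ dvd_rfl) (by rw [hx, c2])
  have h8 : L.index * j ∣ 18 := Nat.dvd_of_mul_dvd_mul_left (show 0 < 7 by norm_num) (by
    rw [hx, mul_left_comm] at h6; exact h6)
  obtain rfl : j = 6 := by
    have h9 := (dvd_mul_left _ _).trans h8
    have h10 := Nat.le_of_dvd (by norm_num) h9
    have h11 : j % 7 = 6 := hj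
    interval_cases j <;> omega
  have h9 : L.index ∣ 3 := Nat.dvd_of_mul_dvd_mul_right (show 0 < 6 by norm_num) h8
  have h10 := index_dvd Y L (n := 416) (by rw [c1, c2]; norm_num)
  exact index_eq_one.1 (Nat.dvd_one.1 (Nat.dvd_gcd h9 h10))

end EX

/-- **The exact indices.** -/
theorem boxEX : BoxEX := fun p f G _ _ hp hf hG Y L hL =>
  ⟨EX.lu (H983.KG2.dat_of hG hp hf) Y L, by rintro h rfl; exact EX.sub hp hG hf Y L, EX.ree hp hf hG Y L, EX.jtwo hp hf hG Y L⟩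

end Cfsg.Agent.SM.Ex78
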