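import Cfsg.Agent.SM.Ex78.Defs
import Cfsg.Agent.H650.GU.Root

/-!
# SM (S3570), `S = G₂(q)`: `BoxL1` (helper61)

A `p`-subgroup of order at least `q³` of `G₂(q)`, `p ≥ 5`, contains a long root element.
-/

set_option autoImplicit false
set_option linter.unusedSimpArgs false

namespace Cfsg.Agent.SM.Ex78.L1

open Cfsg Cfsg.Lie Cfsg.Agent.H650.GR Cfsg.Agent.Hexagon.G2Pos
open Cfsg.Agent.ChevalleyStructure.Elts Cfsg.Agent.ChevalleyStructure.NConj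

universe u

variable {K : Type u} [Field K]

/-- the case of a subgroup inside `a = 0` -/
theorem exZ_of_le [Finite K] (h3 : (3 : K) ≠ 0) (P : Subgroup (H779.G2.GU K)) (hc : Nat.card K ^ 3 ≤ Nat.card P)
    (ha : ∀ x ∈ P, x.a = 0) : ∃ z ∈ P, z ≠ 1 ∧ z.a = 0 ∧ z.b = 0 ∧ z.c = 0 ∧ z.d = 0 := by
  by_contra hn
  have hn' : ∀ z ∈ P, z.a = 0 → z.b = 0 → z.c = 0 → z.d = 0 → z = 1 := by
    intro z hz h1 h2 h3 h4
    by_contra h
    exact hn ⟨z, hz, h, h1, h2, h3, h4⟩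
  let φ : P → K × K × K := fun x => (x.1.b, x.1.c, x.1.d)
  have hinj : Function.Injective φ := by
    intro x y hxy
    have e1 : x.1.b = y.1.b := congrArg (fun w => w.1) hxy
    have e2 : x.1.c = y.1.c := congrArg (fun w => w.2.1) hxy
    have e3 : x.1.d = y.1.d := congrArg (fun w => w.2.2) hxy
    have hx := ha x.1 x.2
    have hy := ha y.1 y.2
    have h1 : x.1⁻¹ * y.1 = 1 := by
      refine hn' _ (P.mul_mem (P.inv_mem x.2) y.2) ?_ ?_ ?_ ?_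
      · simp only [H779.G2.GU.mul_a, H779.G2.GU.inv_a, hx, hy]; ring
      · simp only [H779.G2.GU.mul_b, H779.G2.GU.inv_b, e1]; ring
      · simp only [H779.G2.GU.mul_c, H779.G2.GU.inv_c, H779.G2.GU.inv_b, hx, hy, e2]; ring
      · simp only [H779.G2.GU.mul_d, H779.G2.GU.inv_c, H779.G2.GU.inv_b, H779.G2.GU.inv_d, hx, hy, e3]; ring
    exact Subtype.ext (inv_mul_eq_one.1 h1)
  have hbij : Function.Bijective φ := by
    refine hinj.bijective_of_nat_card_le ?_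
    rw [Nat.card_prod, Nat.card_prod]
    calc Nat.card K * (Nat.card K * Nat.card K) = Nat.card K ^ 3 := by ring
      _ ≤ _ := hc
  obtain ⟨x, hx⟩ := hbij.2 (0, 1, 0)
  obtain ⟨y, hy⟩ := hbij.2 (0, 0, 1)
  have x0 := ha x.1 x.2
  have x1 : x.1.b = 0 := congrArg (fun w => w.1) hx
  have x2 : x.1.c = 1 := congrArg (fun w => w.2.1) hx
  have x3 : x.1.d = 0 := congrArg (fun w => w.2.2) hx
  have y0 := ha y.1 y.2
  have y1 : y.1.b = 0 := congrArg (fun w => w.1) hy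
  have y2 : y.1.c = 0 := congrArg (fun w => w.2.1) hy
  have y3 : y.1.d = 1 := congrArg (fun w => w.2.2) hy
  have h1 : (y.1 * x.1) * (x.1 * y.1)⁻¹ = 1 := by
    refine hn' _ (P.mul_mem (P.mul_mem y.2 x.2) (P.inv_mem (P.mul_mem x.2 y.2))) ?_ ?_ ?_ ?_
    · simp only [H779.G2.GU.mul_a, H779.G2.GU.inv_a, x0, y0]; ring
    · simp only [H779.G2.GU.mul_b, H779.G2.GU.inv_b, x1, y1]; ring
    · simp only [H779.G2.GU.mul_a, H779.G2.GU.mul_b, H779.G2.GU.mul_c, H779.G2.GU.inv_a, H779.G2.GU.inv_b, H779.G2.GU.inv_c, x0, y0, x1, y1]; ring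
    · simp only [H779.G2.GU.mul_a, H779.G2.GU.mul_b, H779.G2.GU.mul_c, H779.G2.GU.mul_d, H779.G2.GU.inv_a, H779.G2.GU.inv_b, H779.G2.GU.inv_c, H779.G2.GU.inv_d, x0, y0, x1, y1]; ring
  have h2 : (y.1 * x.1).f = (x.1 * y.1).f := by rw [mul_inv_eq_one.1 h1]
  simp only [H779.G2.GU.mul_f, x0, y0, x1, y1, x2, y2, x3, y3] at h2
  apply h3
  linear_combination h2

/-- the case of a subgroup with an element outside `a = 0` -/
theorem exZ_of_out (h2 : (2 : K) ≠ 0) (h3 : (3 : K) ≠ 0) (P : Subgroup (H779.G2.GU K)) {g : H779.G2.GU K} (hg : g ∈ P)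
    (hs : g.a ≠ 0) {y : H779.G2.GU K} (hy : y ∈ P) (hy1 : y ≠ 1) (hya : y.a = 0) :
    ∃ z ∈ P, z ≠ 1 ∧ z.a = 0 ∧ z.b = 0 ∧ z.c = 0 ∧ z.d = 0 := by
  have mem : ∀ y ∈ P, (y * g) * (g * y)⁻¹ ∈ P := fun y hy =>
    P.mul_mem (P.mul_mem hy hg) (P.inv_mem (P.mul_mem hg hy))
  have s3 : ∀ y ∈ P, y ≠ 1 → y.a = 0 → y.b = 0 → y.c = 0 → ∃ z ∈ P, z ≠ 1 ∧ z.a = 0 ∧ z.b = 0 ∧ z.c = 0 ∧ z.d = 0 := by
    intro y hy hy1 a0 b0 c0
    by_cases d0 : y.d = 0
    · exact ⟨y, hy, hy1, a0, b0, c0, d0⟩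
    refine ⟨_, mem y hy, fun h => ?_, ?_, ?_, ?_, ?_⟩
    · have h4 : (y * g).e = (g * y).e := by rw [mul_inv_eq_one.1 h]
      simp only [H779.G2.GU.mul_e, a0, b0, c0] at h4
      have h5 : 3 * y.d * g.a = 0 := by linear_combination h4
      exact mul_ne_zero (mul_ne_zero h3 d0) hs h5
    · simp only [H779.G2.GU.mul_a, H779.G2.GU.inv_a, a0]; ring
    · simp only [H779.G2.GU.mul_b, H779.G2.GU.inv_b, b0]; ring
    · simp only [H779.G2.GU.mul_a, H779.G2.GU.mul_b, H779.G2.GU.mul_c, H779.G2.GU.inv_a, H779.G2.GU.inv_b, H779.G2.GU.inv_c, a0, b0, c0]; ring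
    · simp only [H779.G2.GU.mul_a, H779.G2.GU.mul_b, H779.G2.GU.mul_c, H779.G2.GU.mul_d, H779.G2.GU.inv_a, H779.G2.GU.inv_b, H779.G2.GU.inv_c, H779.G2.GU.inv_d, a0, b0, c0]; ring
  have s2 : ∀ y ∈ P, y ≠ 1 → y.a = 0 → y.b = 0 → ∃ z ∈ P, z ≠ 1 ∧ z.a = 0 ∧ z.b = 0 ∧ z.c = 0 ∧ z.d = 0 := by
    intro y hy hy1 a0 b0
    by_cases c0 : y.c = 0
    · exact s3 y hy hy1 a0 b0 c0
    refine s3 _ (mem y hy) (fun h => ?_) ?_ ?_ ?_
    · have h4 : (y * g).d = (g * y).d := by rw [mul_inv_eq_one.1 h]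
      simp only [H779.G2.GU.mul_d, a0, b0] at h4
      have h5 : 2 * y.c * g.a = 0 := by linear_combination h4
      exact mul_ne_zero (mul_ne_zero h2 c0) hs h5
    · simp only [H779.G2.GU.mul_a, H779.G2.GU.inv_a, a0]; ring
    · simp only [H779.G2.GU.mul_b, H779.G2.GU.inv_b, b0]; ring
    · simp only [H779.G2.GU.mul_a, H779.G2.GU.mul_b, H779.G2.GU.mul_c, H779.G2.GU.inv_a, H779.G2.GU.inv_b, H779.G2.GU.inv_c, a0, b0]; ring
  by_cases b0 : y.b = 0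
  · exact s2 y hy hy1 hya b0
  refine s2 _ (mem y hy) (fun h => ?_) ?_ ?_
  · have h4 : (y * g).c = (g * y).c := by rw [mul_inv_eq_one.1 h]
    simp only [H779.G2.GU.mul_c, hya] at h4
    have h5 : y.b * g.a = 0 := by linear_combination h4
    exact mul_ne_zero b0 hs h5
  · simp only [H779.G2.GU.mul_a, H779.G2.GU.inv_a, hya]; ring
  · simp only [H779.G2.GU.mul_b, H779.G2.GU.inv_b]; ring

/-- a subgroup of order at least `q³` meets the second centre -/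
theorem exZ [Finite K] (h2 : (2 : K) ≠ 0) (h3 : (3 : K) ≠ 0) (P : Subgroup (H779.G2.GU K)) (hc : Nat.card K ^ 3 ≤ Nat.card P) :
    ∃ z ∈ P, z ≠ 1 ∧ z.a = 0 ∧ z.b = 0 ∧ z.c = 0 ∧ z.d = 0 := by
  by_cases ha : ∀ x ∈ P, x.a = 0
  · exact exZ_of_le h3 P hc ha
  obtain ⟨g, hg, hs⟩ : ∃ g ∈ P, g.a ≠ 0 := by
    by_contra h
    exact ha fun x hx => by_contra fun h' => h ⟨x, hx, h'⟩
  obtain ⟨y, hy, hy1, hya⟩ : ∃ y ∈ P, y ≠ 1 ∧ y.a = 0 := by
    by_contra hn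
    let φ : P → K := fun x => x.1.a
    have hinj : Function.Injective φ := by
      intro x y hxy
      have e1 : x.1.a = y.1.a := hxy
      have h1 : x.1⁻¹ * y.1 = 1 := by
        by_contra h
        refine hn ⟨_, P.mul_mem (P.inv_mem x.2) y.2, h, ?_⟩
        simp only [H779.G2.GU.mul_a, H779.G2.GU.inv_a, e1]; ring
      exact Subtype.ext (inv_mul_eq_one.1 h1)
    have h4 := Nat.card_le_card_of_injective φ hinj
    have h5 : 1 < Nat.card K := Finite.one_lt_card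
    have h6 : Nat.card K ^ 1 < Nat.card K ^ 3 := Nat.pow_lt_pow_right h5 (by norm_num)
    rw [pow_one] at h6
    omega
  exact exZ_of_out h2 h3 P hg hs hy hy1 hya

/-- the elements of the highest root subgroup are conjugate -/
theorem conj_top {u : K} (hu : u ≠ 0) : IsConj (xs 11 u : ↥(chevG2.group K)) (xs 11 1) := by
  have h := isTG_conj (inv_ne_zero hu) hu (coe_hh ((u⁻¹) ^ 2 * u) ((u⁻¹) ^ 3 * u ^ 2)) 11 (by norm_num) u
  have c11 : cm 11 = 3 ∧ cn 11 = 2 := by decide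
  rw [MulAut.conj_apply, c11.1, c11.2, zpow_ofNat, zpow_ofNat, RingEquiv.refl_apply] at h
  have e : (u⁻¹) ^ 3 * u ^ 2 * u = 1 := by field_simp
  rw [e] at h
  exact isConj_iff.2 ⟨_, h⟩

/-- the long root `3a + b` -/
theorem conj_ten {u : K} (hu : u ≠ 0) : IsConj (xs 10 u : ↥(chevG2.group K)) (xs 11 1) := by
  obtain ⟨η, hη, h, -⟩ := conj_x (F := K) hG2 (i := 1) (s := 10) (by decide) (by decide)
  have e : chevG2.reflectRoot 1 10 = 11 := by decide +kernel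
  rw [e] at h
  have h1 : IsConj (xs 10 u : ↥(chevG2.group K)) (xs 11 (η * u)) :=
    isConj_iff.2 ⟨⟨nS hG2 K 1, nG_mem_group hG2 _ _⟩, Subtype.ext (h u)⟩
  exact h1.trans (conj_top (mul_ne_zero (sign_ne_zero hη) hu))

/-- the elements of the second centre are conjugate -/
theorem conj_Z {z : H779.G2.GU K} (hz : z ≠ 1) (a0 : z.a = 0) (b0 : z.b = 0) (c0 : z.c = 0) (d0 : z.d = 0) :
    IsConj (ι K z) (xs 11 1) := by
  by_cases e0 : z.e = 0
  · have f0 : z.f ≠ 0 := fun h => hz (H779.G2.GU.ext a0 b0 c0 d0 e0 h)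
    have h1 : z = e6 z.f := H779.G2.GU.ext a0 b0 c0 d0 e0 rfl
    rw [h1, ι6]
    exact conj_top (neg_ne_zero.2 f0)
  · have h1 : e2 (-(z.f / z.e)) * z * (e2 (-(z.f / z.e)))⁻¹ = e5 z.e := by
      ext
      · simp only [H779.G2.GU.mul_a, H779.G2.GU.inv_a, e2, e5, a0]; ring
      · simp only [H779.G2.GU.mul_b, H779.G2.GU.inv_b, e2, e5, b0]; ring
      · simp only [H779.G2.GU.mul_a, H779.G2.GU.mul_b, H779.G2.GU.mul_c, H779.G2.GU.inv_a, H779.G2.GU.inv_b, H779.G2.GU.inv_c, e2, e5, a0, b0, c0]; ring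
      · simp only [H779.G2.GU.mul_a, H779.G2.GU.mul_b, H779.G2.GU.mul_c, H779.G2.GU.mul_d, H779.G2.GU.inv_a, H779.G2.GU.inv_b, H779.G2.GU.inv_c, H779.G2.GU.inv_d, e2, e5, a0, b0, c0, d0]
        ring
      · simp only [H779.G2.GU.mul_a, H779.G2.GU.mul_b, H779.G2.GU.mul_c, H779.G2.GU.mul_d, H779.G2.GU.mul_e, H779.G2.GU.inv_a, H779.G2.GU.inv_b, H779.G2.GU.inv_c, H779.G2.GU.inv_d, H779.G2.GU.inv_e,
          e2, e5, a0, b0, c0, d0]
        ring
      · simp only [H779.G2.GU.mul_a, H779.G2.GU.mul_b, H779.G2.GU.mul_c, H779.G2.GU.mul_d, H779.G2.GU.mul_e, H779.G2.GU.mul_f, H779.G2.GU.inv_a, H779.G2.GU.inv_b, H779.G2.GU.inv_c, H779.G2.GU.inv_d,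
          H779.G2.GU.inv_e, H779.G2.GU.inv_f, e2, e5, a0, b0, c0, d0]
        field_simp
        ring
    have h2 : IsConj (ι K z) (ι K (e5 z.e)) := by
      refine isConj_iff.2 ⟨ι K (e2 (-(z.f / z.e))), ?_⟩
      rw [← h1, map_mul, map_mul, map_inv]
    refine h2.trans ?_
    rw [ι5]
    exact conj_ten (neg_ne_zero.2 e0)

/-- the image of `GU K` is a Sylow subgroup -/
theorem ex_sylow [Finite K] {p : ℕ} [Fact p.Prime] [CharP K p] :
    ∃ Q : Sylow p ↥(chevG2.group K), (Q : Subgroup ↥(chevG2.group K)) = (ι K).range := by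
  have : Finite ↥(chevG2.group K) := by
    have : Finite (GL chevG2.Idx K) := inferInstance
    infer_instance
  have h1 : Nat.card (ι K).range = Nat.card (H779.G2.GU K) :=
    (Nat.card_congr (MonoidHom.ofInjective (ι_injective (K := K))).toEquiv).symm
  have := Fintype.ofFinite K
  obtain ⟨n, -, hn⟩ := FiniteField.card K p
  have hP : IsPGroup p (ι K).range := by
    refine IsPGroup.of_card (n := (n : ℕ) * 6) ?_
    rw [h1, H779.G2.GU.card_eq, Nat.card_eq_fintype_card, hn, pow_mul]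
  obtain ⟨Q, hQ⟩ := hP.exists_le_sylow
  obtain ⟨e⟩ := Cfsg.Agent.H650.G.exists_equiv_chev (F := K) Q
  refine ⟨Q, (Subgroup.eq_of_le_of_card_ge hQ ?_).symm⟩
  rw [Nat.card_congr e.toEquiv, h1, H779.G2.GU.card_eq, Cfsg.Agent.H650.G.GU.card_eq]

/-- a `p`-subgroup of order at least `q³` contains a long root element -/
theorem ex_long [Finite K] {p : ℕ} [Fact p.Prime] [CharP K p] (hp : 5 ≤ p) (P : Subgroup ↥(chevG2.group K))
    (hP : IsPGroup p P) (hc : Nat.card K ^ 3 ≤ Nat.card P) : ∃ x ∈ P, IsConj x (xs 11 1) := by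
  have : Finite ↥(chevG2.group K) := by
    have : Finite (GL chevG2.Idx K) := inferInstance
    infer_instance
  have h2 : (2 : K) ≠ 0 := fun h => by
    have h' : ((2 : ℕ) : K) = 0 := by exact_mod_cast h
    have := Nat.le_of_dvd (by norm_num) ((CharP.cast_eq_zero_iff K p 2).1 h')
    omega
  have h3 : (3 : K) ≠ 0 := fun h => by
    have h' : ((3 : ℕ) : K) = 0 := by exact_mod_cast h
    have := Nat.le_of_dvd (by norm_num) ((CharP.cast_eq_zero_iff K p 3).1 h')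
    omega
  obtain ⟨Q, hQ⟩ := ex_sylow (K := K) (p := p)
  obtain ⟨R, hR⟩ := hP.exists_le_sylow
  obtain ⟨g, hg⟩ := MulAction.exists_smul_eq (↥(chevG2.group K)) R Q
  have hm : ∀ x ∈ P, g * x * g⁻¹ ∈ (ι K).range := by
    intro x hx
    rw [← hQ, ← hg]
    exact ⟨x, hR hx, rfl⟩
  let P' : Subgroup (H779.G2.GU K) := (P.map (MulAut.conj g).toMonoidHom).comap (ι K)
  have hc' : Nat.card P ≤ Nat.card P' := by
    let ψ : P' → P := fun y => ⟨g⁻¹ * ι K y.1 * g, by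
      obtain ⟨x, hx, e⟩ := y.2
      have e' : g * x * g⁻¹ = ι K y.1 := e
      rw [← e']
      have : g⁻¹ * (g * x * g⁻¹) * g = x := by group
      rw [this]
      exact hx⟩
    refine Nat.card_le_card_of_surjective ψ ?_
    intro x
    obtain ⟨y, hy⟩ := hm x.1 x.2
    refine ⟨⟨y, ⟨x.1, x.2, hy.symm⟩⟩, Subtype.ext ?_⟩
    show g⁻¹ * ι K y * g = x.1
    rw [hy]
    group
  obtain ⟨z, ⟨x, hx, e⟩, hz1, a0, b0, c0, d0⟩ := exZ h2 h3 P' (hc.trans hc')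
  have e' : g * x * g⁻¹ = ι K z := e
  exact ⟨x, hx, (isConj_iff.2 ⟨g, e'⟩).trans (conj_Z hz1 a0 b0 c0 d0)⟩

end Cfsg.Agent.SM.Ex78.L1

namespace Cfsg.Agent.SM.Ex78

open Cfsg Cfsg.Lie Cfsg.Agent.Hexagon.G2Pos

theorem boxL1 : BoxL1 := by
  intro F _ _ p _ _ hp P Q hP hQ hcP hcQ
  rw [← Nat.card_eq_fintype_card] at hcP hcQ
  obtain ⟨x, hx, h1⟩ := L1.ex_long hp P hP hcP
  obtain ⟨y, hy, h2⟩ := L1.ex_long hp Q hQ hcQ
  refine ⟨x, hx, fun h => ?_, ?_⟩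
  · rw [h, isConj_one_right] at h1
    exact one_ne_zero (xs_eq_one (by norm_num) (1 : F) h1)
  · obtain ⟨g, hg⟩ := isConj_iff.1 (h1.trans h2.symm)
    exact ⟨g, hg ▸ hy⟩

end Cfsg.Agent.SM.Ex78
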