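import Cfsg.Agent.SM.Ex78.S6
import Cfsg.Agent.H420.Rg.G2L
import Cfsg.Agent.H244.G2S.FourNames
import Cfsg.Agent.H290.Cov.KPsl

/-!
# SM (S3570), `S = G₂(q)`: simple subgroups which contain all primes of the class `+` (helper84)

`boxS3 : BoxS3`.
-/

set_option autoImplicit false

namespace Cfsg.Agent.SM.Ex78

open Cfsg Cfsg.Lie Subgroup Cfsg.Agent.OrdDiv Cfsg.Agent.H436 Cfsg.Agent.H915.GN Cfsg.Agent.H264.GN Cfsg.Agent.H264.FKS
  Cfsg.Agent.H325.Same
open Cfsg.Agent.H244.G2S (aux1 aux2 charp_four)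
open Cfsg.Agent.H420.Rg (L3a L3b L6)

namespace S3

variable {p f c : ℕ} {g : Grp}

theorem aux3 {Q D : ℕ} (hQ : 2 ≤ Q) (hD : D ∣ 2) (h : Q ^ 2 - 1 ∣ D * 2) : False := by
  refine aux2 hQ ?_ (hD.trans (by norm_num)) h
  rintro rfl
  exact absurd (h.trans (Nat.mul_dvd_mul_right hD 2)) (by norm_num)

/-- **`G_2(q)`, `q ≠ 2, 4`, one primitive prime** (`H420.Rg.charp_one` without the bound on `q`). -/
theorem charp (hp : p.Prime) (hf : 1 ≤ f) (hf3 : p = 2 → 3 ≤ f) (hg : Cond g) (hch : HasChar p g)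
    (hc : den g * c = num g) (hdvd : c ∣ num (.g2 (p ^ f))) {s₀ : ℕ} (hs₀ : Prim p (f * 3) s₀ ∨ Prim p (f * 6) s₀)
    (hsc : s₀ ∣ c) :
    ((∀ s, Prim p (f * 3) s → s ∣ c) ∧ (L3a p f g ∨ L3b p f g)) ∨ ((∀ s, Prim p (f * 6) s → s ∣ c) ∧ L6 p f g) := by
  obtain ⟨f₁, hf₁, hfl, hK, hY⟩ := kd_all hp hg hch hc
  have hT := td_g2 hp hf hdvd
  have hM2 := two_le_Mg hg hch
  have hXT : ∀ i, Xg (.g2 (p ^ f)) i → f * i ∣ 6 * f := by
    intro i hi
    have hi' : i ∈ [2, 6] := hi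
    simp only [List.mem_cons, List.not_mem_nil, or_false] at hi'
    rcases hi' with rfl | rfl
    · exact ⟨3, by ring⟩
    · exact ⟨1, by ring⟩
  have hYd : ∀ e, Yg g e → 3 ≤ f₁ * e → ¬ (p = 2 ∧ f₁ * e = 6) → f₁ * e ∣ 6 * f := by
    intro e he h3 h6
    obtain ⟨t, ht⟩ := exists_prim hp.two_le h3 h6
    obtain ⟨i, hi, hi2⟩ := hT.exp ht (hK.has he h3 ht)
    exact hi2.trans (hXT i hi)
  have hle : f * 3 ≤ f₁ * Mg g := by
    rcases hs₀ with hs | hs
    · obtain ⟨x, hx, hx2⟩ := hK.exp hs hsc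
      have hx3 := hK.le hx
      exact (Nat.le_of_dvd (Nat.mul_pos (by omega) (by omega)) hx2).trans (Nat.mul_le_mul_left _ hx3.2)
    · obtain ⟨x, hx, hx2⟩ := hK.exp hs hsc
      have hx3 := hK.le hx
      have := (Nat.le_of_dvd (Nat.mul_pos (by omega) (by omega)) hx2).trans (Nat.mul_le_mul_left _ hx3.2)
      omega
  have hMd := hYd _ hY (by omega) (by
    rintro ⟨h2, h6⟩
    have := hf3 h2
    omega)
  have hcases : f₁ * Mg g = f * 3 ∨ f₁ * Mg g = f * 6 := by
    obtain ⟨k, hk⟩ := hMd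
    have hk0 : k ≠ 0 := by
      rintro rfl
      omega
    have hk2 : k ≤ 2 := by
      by_contra hcon
      have : f * 3 * 3 ≤ f₁ * Mg g * k := Nat.mul_le_mul hle (by omega)
      omega
    have : k = 1 ∨ k = 2 := by omega
    rcases this with rfl | rfl
    · right; omega
    · left; omega
  have hpp : f₁ * ag g ≤ f * 6 := hT.pp hK.pp
  have hq : 2 ≤ p ^ f := hp.two_le.trans (Nat.le_self_pow (by omega) _)
  rcases hcases with hfM | hfM
  · -- the exponent `3 f`
    left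
    refine ⟨fun s hs => by
      rw [← hfM] at hs
      exact hK.has hY (by omega) hs, ?_⟩
    have hO : H244.G2S.OutB g := by
      apply H244.G2S.elimB hg hch
      have h1 : f₁ * (2 * ag g) ≤ f₁ * (4 * Mg g) := by
        calc f₁ * (2 * ag g) = 2 * (f₁ * ag g) := by ring
          _ ≤ 2 * (f * 6) := by omega
          _ = 4 * (f * 3) := by ring
          _ = 4 * (f₁ * Mg g) := by rw [hfM]
          _ = f₁ * (4 * Mg g) := by ring
      exact Nat.le_of_mul_le_mul_left h1 (by omega)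
    have hd : c ∣ (p ^ f) ^ 6 * (((p ^ f) ^ 2 - 1) * ((p ^ f) ^ 6 - 1)) := hdvd
    have b2 := sub_pos' (d := 2) hq (by norm_num)
    have b6 := sub_pos' (d := 6) hq (by norm_num)
    have hc0 : 0 < c := pos_of_dvd (by positivity) hd
    cases g
    case psl m q =>
      have hO' : m = 2 ∨ m = 3 ∨ m = 4 ∨ m = 5 := hO
      obtain rfl : q = p ^ f₁ := hfl
      rcases hO' with rfl | rfl | rfl | rfl
      · have h6 : f₁ * 2 = f * 3 := hfM
        obtain ⟨h, rfl⟩ : ∃ h, f = 2 * h := ⟨f / 2, by omega⟩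
        obtain rfl : f₁ = 3 * h := by omega
        exact Or.inl (Or.inl ⟨h, rfl, Or.inl rfl⟩)
      · have h6 : f₁ * 3 = f * 3 := hfM
        rw [same_fld (M := 3) (by norm_num) h6]
        exact Or.inr (Or.inl rfl)
      · exfalso
        have h6 : f₁ * 4 = f * 3 := hfM
        obtain ⟨k, rfl⟩ : ∃ k, f = 4 * k := ⟨f / 4, by omega⟩
        obtain rfl : f₁ = 3 * k := by omega
        have h7 := hYd 3 (show 2 ≤ 3 ∧ 3 ≤ 4 by norm_num) (by omega) (by omega)
        obtain ⟨j, hj⟩ := h7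
        have : k * 24 = k * (9 * j) := by linarith
        have := Nat.eq_of_mul_eq_mul_left (by omega) this
        omega
      · exfalso
        have h6 : f₁ * 5 = f * 3 := hfM
        obtain ⟨k, rfl⟩ : ∃ k, f = 5 * k := ⟨f / 5, by omega⟩
        obtain rfl : f₁ = 3 * k := by omega
        obtain ⟨j, hj⟩ := hYd 4 (show 2 ≤ 4 ∧ 4 ≤ 5 by norm_num) (by omega) (by omega)
        have : k * 30 = k * (12 * j) := by linarith
        have := Nat.eq_of_mul_eq_mul_left (by omega) this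
        omega
    case psp m q =>
      exfalso
      have hO' : m = 2 ∨ m = 3 ∨ m = 4 := hO
      obtain rfl : q = p ^ f₁ := hfl
      rcases hO' with rfl | rfl | rfl
      · have h6 : f₁ * (2 * 2) = f * 3 := hfM
        obtain ⟨k, rfl⟩ : ∃ k, f = 4 * k := ⟨f / 4, by omega⟩
        obtain rfl : f₁ = 3 * k := by omega
        have hR : 2 ≤ p ^ k := hp.two_le.trans (Nat.le_self_pow (by omega) _)
        obtain ⟨t, ht⟩ := exists_prim (q := p ^ k) (e := 3) hR (by norm_num) (by omega)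
        have h7 : Nat.gcd 2 (p ^ (3 * k) - 1) * c = (p ^ (3 * k)) ^ (2 ^ 2) * prB (p ^ (3 * k)) 2 := hc
        have e1 : p ^ (3 * k) = (p ^ k) ^ 3 := by rw [← pow_mul]; congr 1; ring
        have e2 : p ^ (4 * k) = (p ^ k) ^ 4 := by rw [← pow_mul]; congr 1; ring
        rw [H244.G2S.prB_two, e1] at h7
        rw [e2] at hd
        generalize p ^ k = R at *
        have b12 := sub_pos' (d := 12) hR (by norm_num)
        refine cancel_prime ht.prime (Z := R ^ 12 - 1) b12 hc0 (D := Nat.gcd 2 (R ^ 3 - 1))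
          (A := (R ^ 3) ^ (2 ^ 2)) (x := R ^ 6 - 1) (B := (R ^ 4) ^ 6) (y := (R ^ 8 - 1) * (R ^ 12 + 1)) ?_ ?_ ?_
          (fun h => ?_) (fun h => ?_) (fun h => ?_)
        · rw [h7, ← pow_mul R 3 2, ← pow_mul R 3 4]
        · refine hd.trans (dvd_of_eq ?_)
          have h8 := H244.G2S.sq_sub (R ^ 12)
          rw [← pow_mul] at h8
          rw [← pow_mul R 4 2, ← pow_mul R 4 6, h8]
          ring
        · exact ht.dvd (by norm_num)
        · exact ht.not_dvd_two le_rfl (h.trans (Nat.gcd_dvd_left _ _))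
        · rw [← pow_mul] at h
          exact ht.not_dvd_pow _ h
        · rcases ht.prime.dvd_mul.1 h with h | h
          · exact ht.not_dvd_sub (by norm_num) h
          · exact not_dvd_add_odd ht rfl (by norm_num) 12 h
      · have h6 : f₁ * (2 * 3) = f * 3 := hfM
        obtain rfl : f = f₁ * 2 := by omega
        have hR : 2 ≤ p ^ f₁ := hp.two_le.trans (Nat.le_self_pow (by omega) _)
        have h7 : Nat.gcd 2 (p ^ f₁ - 1) * c = (p ^ f₁) ^ (3 ^ 2) * prB (p ^ f₁) 3 := hc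
        rw [H244.G2S.prB_three] at h7
        rw [pow_mul p f₁ 2] at hd
        generalize p ^ f₁ = R at *
        have b4 := sub_pos' (d := 4) hR (by norm_num)
        have b6' := sub_pos' (d := 6) hR (by norm_num)
        have h8 := H244.G2S.sq_sub (R ^ 6)
        rw [← pow_mul] at h8
        have h9 := cancel_dvd (Z := (R ^ 4 - 1) * (R ^ 6 - 1)) (by positivity) hc0 h7 (B := R ^ 12) (y := R ^ 6 + 1)
          (hd.trans (dvd_of_eq (by rw [show (R ^ 2) ^ 6 = R ^ 12 by ring, show (R ^ 2) ^ 2 = R ^ 4 by ring,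
            show R ^ 12 - 1 = R ^ (6 * 2) - 1 by norm_num, h8]; ring)))
        exact aux3 hR (Nat.gcd_dvd_left _ _) (aux1 (k := 3) hR h9)
      · have h6 : f₁ * (2 * 4) = f * 3 := hfM
        obtain ⟨k, rfl⟩ : ∃ k, f = 8 * k := ⟨f / 8, by omega⟩
        obtain rfl : f₁ = 3 * k := by omega
        obtain ⟨j, hj⟩ := hYd 6 (show 1 ≤ 6 ∧ 6 ≤ 2 * 4 ∧ 2 ∣ 6 by norm_num) (by omega) (by omega)
        have : k * 48 = k * (18 * j) := by linarith
        have := Nat.eq_of_mul_eq_mul_left (by omega) this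
        omega
    case psu m q =>
      have hO' : 3 ≤ m ∧ m ≤ 9 := hO
      obtain rfl : q = p ^ f₁ := hfl
      have hY6 : 5 ≤ m → 3 ≤ f₁ * 6 → ¬ (p = 2 ∧ f₁ * 6 = 6) → f₁ * 6 ∣ 6 * f := fun h5 => hYd 6
        (show 3 ≤ 6 ∧ ((6 ≤ m ∧ 6 % 2 = 0) ∨ ∃ j, 6 = 2 * j ∧ j ≤ m ∧ j % 2 = 1) from
          ⟨by norm_num, Or.inr ⟨3, rfl, by omega, rfl⟩⟩)
      obtain ⟨h3, h9⟩ := hO'
      have h6 : f₁ * (2 * (if m % 2 = 0 then m - 1 else m)) = f * 3 := hfM
      have hm : m = 3 ∨ m = 4 ∨ m = 5 ∨ m = 6 ∨ m = 7 ∨ m = 8 ∨ m = 9 := by omega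
      rcases hm with rfl | rfl | rfl | rfl | rfl | rfl | rfl
      · simp only [Nat.reduceMod, if_false, one_ne_zero] at h6
        exact Or.inl (Or.inl ⟨f₁, by omega, Or.inr (Or.inl rfl)⟩)
      · simp only [Nat.reduceMod, if_true, Nat.reduceSub] at h6
        exact Or.inr (Or.inr (Or.inl ⟨f₁, by omega, Or.inl rfl⟩))
      · exfalso
        simp only [Nat.reduceMod, if_false, one_ne_zero] at h6
        obtain ⟨k, rfl⟩ : ∃ k, f = 10 * k := ⟨f / 10, by omega⟩
        obtain rfl : f₁ = 3 * k := by omega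
        obtain ⟨j, hj⟩ := hY6 (by norm_num) (by omega) (by omega)
        have : k * 60 = k * (18 * j) := by linarith
        have := Nat.eq_of_mul_eq_mul_left (by omega) this
        omega
      · exfalso
        simp only [Nat.reduceMod, if_true, Nat.reduceSub] at h6
        obtain ⟨k, rfl⟩ : ∃ k, f = 10 * k := ⟨f / 10, by omega⟩
        obtain rfl : f₁ = 3 * k := by omega
        obtain ⟨j, hj⟩ := hY6 (by norm_num) (by omega) (by omega)
        have : k * 60 = k * (18 * j) := by linarith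
        have := Nat.eq_of_mul_eq_mul_left (by omega) this
        omega
      · exfalso
        simp only [Nat.reduceMod, if_false, one_ne_zero] at h6
        obtain ⟨k, rfl⟩ : ∃ k, f = 14 * k := ⟨f / 14, by omega⟩
        obtain rfl : f₁ = 3 * k := by omega
        obtain ⟨j, hj⟩ := hY6 (by norm_num) (by omega) (by omega)
        have : k * 84 = k * (18 * j) := by linarith
        have := Nat.eq_of_mul_eq_mul_left (by omega) this
        omega
      · exfalso
        simp only [Nat.reduceMod, if_true, Nat.reduceSub] at h6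
        obtain ⟨k, rfl⟩ : ∃ k, f = 14 * k := ⟨f / 14, by omega⟩
        obtain rfl : f₁ = 3 * k := by omega
        obtain ⟨j, hj⟩ := hY6 (by norm_num) (by omega) (by omega)
        have : k * 84 = k * (18 * j) := by linarith
        have := Nat.eq_of_mul_eq_mul_left (by omega) this
        omega
      · exfalso
        simp only [Nat.reduceMod, if_false, one_ne_zero] at h6
        obtain rfl : f = f₁ * 6 := by omega
        obtain ⟨j, hj⟩ := hYd 14 (show 3 ≤ 14 ∧ ((14 ≤ 9 ∧ 14 % 2 = 0) ∨ ∃ j, 14 = 2 * j ∧ j ≤ 9 ∧ j % 2 = 1) from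
          ⟨by norm_num, Or.inr ⟨7, rfl, by omega, rfl⟩⟩) (by omega) (by omega)
        have : f₁ * 36 = f₁ * (14 * j) := by linarith
        have := Nat.eq_of_mul_eq_mul_left (by omega) this
        omega
    case oodd m q =>
      exfalso
      have hO' : m = 3 ∨ m = 4 := hO
      obtain rfl : q = p ^ f₁ := hfl
      rcases hO' with rfl | rfl
      · have h6 : f₁ * (2 * 3) = f * 3 := hfM
        obtain rfl : f = f₁ * 2 := by omega
        have hR : 2 ≤ p ^ f₁ := hp.two_le.trans (Nat.le_self_pow (by omega) _)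
        have h7 : 2 * c = (p ^ f₁) ^ (3 ^ 2) * prB (p ^ f₁) 3 := hc
        rw [H244.G2S.prB_three] at h7
        rw [pow_mul p f₁ 2] at hd
        generalize p ^ f₁ = R at *
        have b4 := sub_pos' (d := 4) hR (by norm_num)
        have b6' := sub_pos' (d := 6) hR (by norm_num)
        have h8 := H244.G2S.sq_sub (R ^ 6)
        rw [← pow_mul] at h8
        have h9 := cancel_dvd (Z := (R ^ 4 - 1) * (R ^ 6 - 1)) (by positivity) hc0 h7 (B := R ^ 12) (y := R ^ 6 + 1)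
          (hd.trans (dvd_of_eq (by rw [show (R ^ 2) ^ 6 = R ^ 12 by ring, show (R ^ 2) ^ 2 = R ^ 4 by ring,
            show R ^ 12 - 1 = R ^ (6 * 2) - 1 by norm_num, h8]; ring)))
        exact aux3 hR dvd_rfl (aux1 (k := 3) hR h9)
      · have h6 : f₁ * (2 * 4) = f * 3 := hfM
        obtain ⟨k, rfl⟩ : ∃ k, f = 8 * k := ⟨f / 8, by omega⟩
        obtain rfl : f₁ = 3 * k := by omega
        obtain ⟨j, hj⟩ := hYd 6 (show 1 ≤ 6 ∧ 6 ≤ 2 * 4 ∧ 2 ∣ 6 by norm_num) (by omega) (by omega)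
        have : k * 48 = k * (18 * j) := by linarith
        have := Nat.eq_of_mul_eq_mul_left (by omega) this
        omega
    case oplus m q =>
      exfalso
      obtain rfl : m = 4 := hO
      obtain rfl : q = p ^ f₁ := hfl
      have h6 : f₁ * (2 * (4 - 1)) = f * 3 := hfM
      obtain rfl : f = f₁ * 2 := by omega
      have hR : 2 ≤ p ^ f₁ := hp.two_le.trans (Nat.le_self_pow (by omega) _)
      have h7 : Nat.gcd 4 ((p ^ f₁) ^ 4 - 1) * c = (p ^ f₁) ^ (4 * (4 - 1)) * (((p ^ f₁) ^ 4 - 1) * prB (p ^ f₁) 3) := hc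
      rw [H244.G2S.prB_three] at h7
      rw [pow_mul p f₁ 2] at hd
      generalize p ^ f₁ = R at *
      have b4 := sub_pos' (d := 4) hR (by norm_num)
      have b6' := sub_pos' (d := 6) hR (by norm_num)
      have h8 := H244.G2S.sq_sub (R ^ 6)
      rw [← pow_mul] at h8
      have h9 := cancel_dvd (Z := (R ^ 4 - 1) * (R ^ 6 - 1)) (by positivity) hc0 (D := Nat.gcd 4 (R ^ 4 - 1))
        (A := R ^ (4 * (4 - 1)) * (R ^ 4 - 1)) (x := R ^ 2 - 1) (by rw [h7, mul_assoc]) (B := R ^ 12) (y := R ^ 6 + 1)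
        (hd.trans (dvd_of_eq (by rw [show (R ^ 2) ^ 6 = R ^ 12 by ring, show (R ^ 2) ^ 2 = R ^ 4 by ring,
          show R ^ 12 - 1 = R ^ (6 * 2) - 1 by norm_num, h8]; ring)))
      refine aux2 hR ?_ (Nat.gcd_dvd_left _ _) (aux1 (k := 3) hR h9)
      rintro rfl
      obtain rfl : c = 4952179814400 := by
        norm_num at h7
        omega
      exact absurd hd (by norm_num)
    case ominus m q =>
      exfalso
      have hO' : m = 4 ∨ m = 5 := hO
      obtain rfl : q = p ^ f₁ := hfl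
      rcases hO' with rfl | rfl
      · have h6 : f₁ * (2 * 4) = f * 3 := hfM
        obtain ⟨k, rfl⟩ : ∃ k, f = 8 * k := ⟨f / 8, by omega⟩
        obtain rfl : f₁ = 3 * k := by omega
        obtain ⟨j, hj⟩ := hYd 6 (show 4 ≤ 6 ∧ 6 ≤ 2 * 4 ∧ 2 ∣ 6 by norm_num) (by omega) (by omega)
        have : k * 48 = k * (18 * j) := by linarith
        have := Nat.eq_of_mul_eq_mul_left (by omega) this
        omega
      · have h6 : f₁ * (2 * 5) = f * 3 := hfM
        obtain ⟨k, rfl⟩ : ∃ k, f = 10 * k := ⟨f / 10, by omega⟩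
        obtain rfl : f₁ = 3 * k := by omega
        obtain ⟨j, hj⟩ := hYd 8 (show 4 ≤ 8 ∧ 8 ≤ 2 * 5 ∧ 2 ∣ 8 by norm_num) (by omega) (by omega)
        have : k * 60 = k * (24 * j) := by linarith
        have := Nat.eq_of_mul_eq_mul_left (by omega) this
        omega
    case g2 q =>
      obtain rfl : q = p ^ f₁ := hfl
      have h6 : f₁ * 6 = f * 3 := hfM
      exact Or.inr (Or.inr (Or.inl ⟨f₁, by omega, Or.inr rfl⟩))
    case f4 q =>
      exfalso
      obtain rfl : q = p ^ f₁ := hfl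
      have h6 : f₁ * 12 = f * 3 := hfM
      obtain rfl : f = f₁ * 4 := by omega
      have hR : 2 ≤ p ^ f₁ := hp.two_le.trans (Nat.le_self_pow (by omega) _)
      have h7 : 1 * c = (p ^ f₁) ^ 24 * (((p ^ f₁) ^ 2 - 1) * ((p ^ f₁) ^ 6 - 1) * ((p ^ f₁) ^ 8 - 1) *
        ((p ^ f₁) ^ 12 - 1)) := hc
      rw [pow_mul p f₁ 4] at hd
      generalize p ^ f₁ = R at *
      have b8 := sub_pos' (d := 8) hR (by norm_num)
      have b12 := sub_pos' (d := 12) hR (by norm_num)
      have h8 := H244.G2S.sq_sub (R ^ 12)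
      rw [← pow_mul] at h8
      have h9 := cancel_dvd (Z := (R ^ 8 - 1) * (R ^ 12 - 1)) (by positivity) hc0 (D := 1)
        (A := R ^ 24 * (R ^ 6 - 1)) (x := R ^ 2 - 1) (by rw [h7]; ring) (B := R ^ 24) (y := R ^ 12 + 1)
        (hd.trans (dvd_of_eq (by rw [← pow_mul R 4 6, ← pow_mul R 4 2, h8]; ring)))
      exact aux3 hR (one_dvd _) (aux1 (k := 6) hR h9)
    case te6 q =>
      exfalso
      obtain rfl : q = p ^ f₁ := hfl
      have h6 : f₁ * 18 = f * 3 := hfM
      obtain rfl : f = f₁ * 6 := by omega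
      obtain ⟨j, hj⟩ := hYd 10 (show 10 ∈ [2, 3, 4, 6, 8, 10, 12, 18] by norm_num) (by omega) (by omega)
      have : f₁ * 36 = f₁ * (10 * j) := by linarith
      have := Nat.eq_of_mul_eq_mul_left (by omega) this
      omega
    case td4 q =>
      exfalso
      obtain rfl : q = p ^ f₁ := hfl
      have h6 : f₁ * 12 = f * 3 := hfM
      obtain rfl : f = f₁ * 4 := by omega
      have hR : 2 ≤ p ^ f₁ := hp.two_le.trans (Nat.le_self_pow (by omega) _)
      have h7 : 1 * c = (p ^ f₁) ^ 12 * (((p ^ f₁) ^ 2 - 1) * ((p ^ f₁) ^ 6 - 1) * ((p ^ f₁) ^ 8 + (p ^ f₁) ^ 4 + 1)) := hc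
      obtain ⟨t, ht⟩ := exists_prim (q := p ^ f₁) (e := 3) hR (by norm_num) (by omega)
      rw [pow_mul p f₁ 4] at hd
      generalize p ^ f₁ = R at *
      have h8 := H244.G2S.sq_sub (R ^ 12)
      rw [← pow_mul] at h8
      have h9 : R ^ 12 - 1 = (R ^ 8 + R ^ 4 + 1) * (R ^ 4 - 1) := by
        obtain ⟨a, ha⟩ : ∃ a, R ^ 4 = a + 1 := ⟨R ^ 4 - 1, by
          have : 1 ≤ R ^ 4 := Nat.one_le_pow _ _ (by omega)
          omega⟩
        have h10 : R ^ 12 = (a + 1) ^ 3 := by rw [← ha]; ring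
        have h11 : R ^ 8 = (a + 1) ^ 2 := by rw [← ha]; ring
        rw [h10, h11, ha, Nat.add_sub_cancel]
        apply Nat.sub_eq_of_eq_add
        ring
      refine cancel_prime ht.prime (Z := R ^ 8 + R ^ 4 + 1) (by positivity) hc0 (D := 1)
        (A := R ^ 12 * (R ^ 2 - 1)) (x := R ^ 6 - 1) (B := (R ^ 4) ^ 6) (y := (R ^ 8 - 1) * ((R ^ 4 - 1) * (R ^ 12 + 1)))
        ?_ ?_ ?_ (fun h => ?_) (fun h => ?_) (fun h => ?_)
      · rw [h7]; ring
      · refine hd.trans (dvd_of_eq ?_)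
        rw [← pow_mul R 4 2, ← pow_mul R 4 6, show 4 * 6 = 12 * 2 by norm_num, h8, h9]
        ring
      · exact ht.dvd (by norm_num)
      · exact ht.prime.one_lt.ne' (Nat.dvd_one.1 h)
      · rw [← pow_mul] at h
        exact ht.not_dvd_pow _ h
      · rcases ht.prime.dvd_mul.1 h with h | h
        · exact ht.not_dvd_sub (by norm_num) h
        · rcases ht.prime.dvd_mul.1 h with h | h
          · exact ht.not_dvd_sub (by norm_num) h
          · exact not_dvd_add_odd ht rfl (by norm_num) 12 h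
    case tf4 q =>
      obtain rfl : q = p ^ f₁ := hfl
      have h6 : f₁ * 12 = f * 3 := hfM
      exact Or.inr (Or.inr (Or.inr ⟨f₁, by omega, rfl⟩))
    case sz q =>
      obtain rfl : q = p ^ f₁ := hfl
      have h6 : f₁ * 4 = f * 3 := hfM
      obtain ⟨k, rfl⟩ : ∃ k, f = 4 * k := ⟨f / 4, by omega⟩
      obtain rfl : f₁ = 3 * k := by omega
      exact Or.inl (Or.inr ⟨k, rfl, rfl⟩)
    case ree q =>
      obtain rfl : q = p ^ f₁ := hfl
      have h6 : f₁ * 6 = f * 3 := hfM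
      exact Or.inl (Or.inl ⟨f₁, by omega, Or.inr (Or.inr rfl)⟩)
    all_goals exact absurd hO not_false
  · -- the exponent `6 f`
    have h6 : ∀ s, Prim p (f * 6) s → s ∣ c := by
      intro s hs
      rw [← hfM] at hs
      exact hK.has hY (by omega) hs
    exact Or.inr ⟨h6, Cfsg.Agent.H394.Wei.charp_g2_6 hp hf (fun h => by
      have := hf3 h.1
      omega) hg hch hc hdvd h6⟩

/-- the `p`-part is too small -/
theorem small (hp : p.Prime) {D a A : ℕ} (h : D * c = p ^ a * A) (hA : ¬ p ∣ A) (ha : a + 1 < f * 3) : ¬ (p ^ f) ^ 3 ∣ p * c := by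
  intro h1
  have h2 : p ^ (a + 1) * p ∣ p ^ (a + 1) * A := by
    rw [← pow_succ, pow_succ' p a, mul_assoc, ← h, mul_left_comm]
    exact ((pow_dvd_pow p ha).trans (by rw [pow_mul]; exact h1)).mul_left _
  exact hA (Nat.dvd_of_mul_dvd_mul_left (Nat.pow_pos hp.pos) h2)

theorem nd_sub (hp : p.Prime) {k : ℕ} (hk : k ≠ 0) : ¬ p ∣ p ^ k - 1 := fun h => by
  have h1 := Nat.dvd_sub (dvd_pow_self p hk) h
  rw [Nat.sub_sub_self (Nat.pow_pos hp.pos)] at h1
  exact hp.one_lt.ne' (Nat.dvd_one.1 h1)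

theorem nd_add (hp : p.Prime) {k : ℕ} (hk : k ≠ 0) : ¬ p ∣ p ^ k + 1 := fun h =>
  hp.one_lt.ne' (Nat.dvd_one.1 ((Nat.dvd_add_right (dvd_pow_self p hk)).1 h))

theorem l3a (hp : p.Prime) (hf : 1 ≤ f) (h : L3a p f g) (hc : den g * c = num g) : ¬ (p ^ f) ^ 3 ∣ p * c := by
  rcases h with ⟨h, rfl, rfl | rfl | rfl⟩ | ⟨h, rfl, rfl⟩
  · have h1 : den _ * c = ((p ^ (3 * h)) ^ 2 - (p ^ (3 * h)) ^ 0) * (((p ^ (3 * h)) ^ 2 - (p ^ (3 * h)) ^ 1) * 1) := hc
    refine small hp (a := 3 * h) (A := (p ^ (3 * h * 2) - 1) * (p ^ (3 * h) - 1)) (h1.trans ?_) ?_ (by omega)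
    · rw [pow_zero, pow_one, mul_one, pow_mul p (3 * h) 2, mul_left_comm, Nat.mul_sub_one, ← pow_two]
    · exact hp.not_dvd_mul (nd_sub hp (by omega)) (nd_sub hp (by omega))
  · have h1 : den _ * c = (p ^ h) ^ 3 * (((p ^ h) ^ 1 + 1) * (((p ^ h) ^ 2 - 1) * (((p ^ h) ^ 3 + 1) * 1))) := hc
    simp only [← pow_mul, mul_one] at h1
    exact small hp h1 (hp.not_dvd_mul (nd_add hp (by omega)) (hp.not_dvd_mul (nd_sub hp (by omega)) (nd_add hp (by omega))))
      (by omega)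
  · have h1 : 1 * c = (p ^ h) ^ 3 * ((p ^ h - 1) * ((p ^ h) ^ 3 + 1)) := hc
    simp only [← pow_mul] at h1
    exact small hp h1 (hp.not_dvd_mul (nd_sub hp (by omega)) (nd_add hp (by omega))) (by omega)
  · have h1 : 1 * c = (p ^ (3 * h)) ^ 2 * ((p ^ (3 * h) - 1) * ((p ^ (3 * h)) ^ 2 + 1)) := hc
    simp only [← pow_mul] at h1
    exact small hp h1 (hp.not_dvd_mul (nd_sub hp (by omega)) (nd_add hp (by omega))) (by omega)

theorem miss_tf4 {q r : ℕ} (hr : Prim q 3 r) (hc : den (.tf4 q) * c = num (.tf4 q)) : ¬ r ∣ c := fun h => by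
  have h1 : 1 * c = q ^ 12 * ((q - 1) * (q ^ 3 + 1) * (q ^ 4 - 1) * (q ^ 6 + 1)) := hc
  have h2 := hr.prime
  refine h2.not_dvd_mul (hr.not_dvd_pow 12) (h2.not_dvd_mul (h2.not_dvd_mul (h2.not_dvd_mul ?_
    (not_dvd_add_odd hr rfl (by norm_num) 3)) (hr.not_dvd_sub (m := 4) (by norm_num))) (not_dvd_add_odd hr rfl (by norm_num) 6))
    (h1 ▸ h.mul_left 1)
  have h3 := hr.not_dvd_sub (m := 1) (by norm_num)
  rwa [pow_one] at h3

theorem miss_ree {q r : ℕ} (hr : Prim q 3 r) (hc : den (.ree q) * c = num (.ree q)) : ¬ r ∣ c := fun h => by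
  have h1 : 1 * c = q ^ 3 * ((q - 1) * (q ^ 3 + 1)) := hc
  have h2 := hr.prime
  refine h2.not_dvd_mul (hr.not_dvd_pow 3) (h2.not_dvd_mul ?_ (not_dvd_add_odd hr rfl (by norm_num) 3)) (h1 ▸ h.mul_left 1)
  have h3 := hr.not_dvd_sub (m := 1) (by norm_num)
  rwa [pow_one] at h3

theorem miss_u {q r n : ℕ} (hr : Prim q 3 r) (hn : n < 6) (hc : den (.psu n q) * c = num (.psu n q)) : ¬ r ∣ c := fun h =>
  not_dvd_u (e := 3) hr rfl (by norm_num) hn _ (show r ∣ num (.psu n q) from hc ▸ h.mul_left _)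

end S3

open S6 S3 in
/-- **[S3]** -/
theorem boxS3 : BoxS3 := by
  intro p f G _ _ hp hf hG L hL hS hr
  have h3 : 3 ≤ p ^ f := hG.cond.1
  have h21 : ¬ (p = 2 ∧ f = 1) := by
    rintro ⟨rfl, rfl⟩
    omega
  rcases split hp hG hS with ⟨g, hg, hch⟩ | h
  · by_cases h4 : p = 2 ∧ f = 2
    · obtain ⟨rfl, rfl⟩ := h4
      have h7 : Prim (2 ^ 2) 3 7 := H394.Wei.prim3_pow (Or.inl rfl)
        (H983.KG2.prim_c3 (by norm_num) (by norm_num) (by decide))
      have hP := (piso hp hG (Or.inl rfl) h7).sub L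
      have h5 : ∀ n, Nat.card L = n → ¬ 64 ∣ 2 * n → ¬ (2 ^ 2) ^ 3 ∣ 2 * Nat.card L := fun n h1 h2 => h1 ▸ h2
      rcases charp_four hg.cond hch hg.eq ((dvd_num hG L).trans (dvd_of_eq (by decide +kernel))) (hr 7 h7) with
        rfl | rfl | rfl | rfl | rfl | rfl | rfl
      · exact Or.inl hg
      · exact absurd hg (not_g2 hG hL)
      · exact Or.inr (Or.inr (Or.inl (h5 168 (hg.ord.trans (by decide +kernel)) (by norm_num))))
      · obtain ⟨K, _, _, hK, ⟨e⟩⟩ := hg.real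
        have := H420.GG.charP_of_card (k := 1) hp hK
        refine absurd (hP.congr e) (H290.Cov30.not_piso_psl (by norm_num) h7.prime (Nat.card_congr e.toEquiv ▸ hr 7 h7) ?_)
        rw [Nat.card_eq_fintype_card, hK]
        norm_num
      · exact Or.inr (Or.inr (Or.inl (h5 504 (hg.ord.trans (by decide +kernel)) (by norm_num))))
      · exact absurd hg (not_psl hp hG L)
      · exact (kill_sz8 hg hP).elim
    obtain ⟨s, hs⟩ := exists_prim (q := p) (e := f * 3) hp.two_le (by omega) (by omega)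
    obtain ⟨r, hr3⟩ := exists_prim (q := p ^ f) (e := 3) (by omega) le_rfl (by omega)
    have h5 : ∀ h k, f = k * h → k = 2 ∨ k = 4 → ∃ r, Prim (p ^ h) 3 r ∧ r ∣ Nat.card L := by
      rintro h k rfl hk
      obtain ⟨r, h1⟩ := exists_prim (q := p ^ h) (e := 3) (hp.two_le.trans (Nat.le_self_pow (by
        rintro rfl
        omega) _)) le_rfl (by omega)
      exact ⟨r, h1, hr r (by rw [mul_comm, pow_mul]; exact H394.Wei.prim3_pow hk h1)⟩
    rcases charp hp hf (by omega) hg.cond hch hg.eq (dvd_num hG L) (Or.inl hs) (hr s (prim_pow hf hs)) with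
      ⟨-, h | rfl | ⟨h, h1, rfl | rfl⟩ | ⟨h, h1, rfl⟩⟩ | ⟨-, rfl | rfl | rfl | ⟨-, rfl⟩ | ⟨rfl, h, rfl, rfl | rfl⟩⟩
    · exact Or.inr (Or.inr (Or.inl (l3a hp hf h hg.eq)))
    · exact Or.inl hg
    · obtain ⟨r, h2, h6⟩ := h5 h 2 h1 (Or.inl rfl)
      exact absurd h6 (miss_u h2 (by norm_num) hg.eq)
    · exact Or.inr (Or.inl ⟨h, h1, hg⟩)
    · obtain ⟨r, h2, h6⟩ := h5 h 4 h1 (Or.inr rfl)
      exact absurd h6 (miss_tf4 h2 hg.eq)
    · exact absurd hg (not_g2 hG hL)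
    · exact absurd hg (not_psl hp hG L)
    · exact absurd (hr r hr3) (miss_u hr3 (by norm_num) hg.eq)
    · exact absurd (hr r hr3) (miss_ree hr3 hg.eq)
    · obtain ⟨r, h2, h6⟩ := h5 h 2 rfl (Or.inl rfl)
      exact absurd h6 (miss_tf4 h2 hg.eq)
    · exact absurd hg (not_sz (by omega) hG L)
  refine Or.inr (Or.inr (or_iff_not_imp_left.2 fun h1 => ?_))
  have h2 : ∀ k, k < f * 3 → p ^ k ∣ Nat.card L := fun k hk => Nat.dvd_of_mul_dvd_mul_left hp.pos (by
    rw [← pow_succ']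
    exact (pow_dvd_pow p hk).trans (by rw [pow_mul]; exact not_not.1 h1))
  by_cases h5 : 5 ≤ p
  · exact absurd (h2 2 (by omega)) (h.sq hp h5)
  simp only [Cross, List.mem_cons, List.not_mem_nil, or_false, h5, false_and, false_or] at h
  have h7 : p = 2 ∨ p = 3 := by
    have := hp.two_le
    have h8 : p ≠ 4 := by
      rintro rfl
      exact absurd hp (by norm_num)
    omega
  rcases h7 with rfl | rfl
  · have h4 := h2 5 (by omega)
    obtain rfl : f = 2 := by
      by_contra h6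
      have h8 := h2 8 (by omega)
      generalize Nat.card L = n at *
      rcases h with h | ⟨-, h⟩ | ⟨h, -⟩ | ⟨h, -⟩ | ⟨-, -, h⟩ <;> omega
    refine ⟨rfl, ?_⟩
    rcases h with h | ⟨-, h⟩ | ⟨h, -⟩ | ⟨h, -⟩ | ⟨-, h, -⟩
    · omega
    · omega
    · omega
    · omega
    · exact Or.inl h
  · exfalso
    by_cases h6 : f = 1
    · subst h6
      have h4 := h2 2 (by omega)
      have h8 := hr 13 (H983.KG2.prim_c3 (by norm_num) (by norm_num) (by decide))
      generalize Nat.card L = n at *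
      rcases h with h | ⟨h, -⟩ | ⟨-, h⟩ | ⟨-, h⟩ | ⟨h, -⟩ <;> omega
    · have h4 := h2 5 (by omega)
      generalize Nat.card L = n at *
      rcases h with h | ⟨h, -⟩ | ⟨-, h⟩ | ⟨-, h⟩ | ⟨h, -⟩ <;> omega

end Cfsg.Agent.SM.Ex78
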