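import Cfsg.Agent.SM.Ex78.Defs
import Cfsg.Agent.TH.ExG.Grp
import Cfsg.Agent.H983.ElG.KMain
import Cfsg.Agent.H946.RadNum
import Cfsg.Agent.H582.Act
import Cfsg.Agent.S4167
import Cfsg.Agent.S0279
import Cfsg.Agent.H929.UThreeGeo
import Cfsg.Agent.H803.OC.RowPSL
import Cfsg.Agent.H93.PslCharpoly
import Cfsg.Agent.H375.LThree.Spec
import Cfsg.Agent.H127.PSUThreeEx
import Cfsg.Agent.H414.Adj

/-!
# SM (S3570), `S = G₂(q)`: the box `BoxST` (helper10)
-/

set_option autoImplicit false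
set_option linter.unusedSectionVars false

namespace Cfsg.Agent.SM.Ex78

open Cfsg Cfsg.Lie Subgroup Cfsg.Agent.OrdDiv Cfsg.Agent.H436 Cfsg.Agent.H946.Num Cfsg.Agent.H56.Exc Cfsg.Agent.SB.Low
  Cfsg.Agent.TH.ExG
open Cfsg.Agent.H325.Loc (PIso)

namespace ST

/-! ### numbers -/

section num

variable {ε ε' : Bool} {q r : ℕ}

theorem N6_succ (k : ℕ) : N6 (k + 1) = N3 k := by
  unfold N6 N3
  rw [show (k + 1) ^ 2 = k ^ 2 + k + (k + 1) by ring, Nat.add_sub_cancel]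

theorem sq_sub (k : ℕ) : (k + 1) ^ 2 - 1 = k * (k + 2) := Nat.sub_eq_of_eq_add (by ring)

theorem N3_odd (k : ℕ) : N3 k % 2 = 1 := by
  unfold N3
  rcases Nat.mod_two_eq_zero_or_one k with h | h <;> simp [Nat.add_mod, Nat.pow_mod, h]

theorem N3_three {k : ℕ} (h : 3 ∣ N3 k) : k % 3 = 1 := by
  have h1 := Nat.mod_eq_zero_of_dvd h
  unfold N3 at h1
  have h2 : k % 3 = 0 ∨ k % 3 = 1 ∨ k % 3 = 2 := by omega
  rcases h2 with h2 | h2 | h2
  · simp [Nat.add_mod, Nat.pow_mod, h2] at h1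
  · exact h2
  · simp [Nat.add_mod, Nat.pow_mod, h2] at h1

theorem not_four (hq : 1 ≤ q) : ¬ 4 ∣ 6 * Nc ε q := by
  obtain ⟨k, rfl⟩ : ∃ k, q = k + 1 := ⟨q - 1, by omega⟩
  cases ε
  · have h := N3_odd k
    rw [show Nc false (k + 1) = N3 k from N6_succ k]
    omega
  · have h := N3_odd (k + 1)
    rw [show Nc true (k + 1) = N3 (k + 1) from rfl]
    omega

theorem three_dvd (hq : 1 ≤ q) (h : 3 ∣ Nc ε q) : 3 ∣ qm ε q := by
  obtain ⟨k, rfl⟩ : ∃ k, q = k + 1 := ⟨q - 1, by omega⟩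
  cases ε
  · have h1 := N3_three (N6_succ k ▸ h : 3 ∣ N3 k)
    show 3 ∣ k + 1 + 1
    omega
  · have h1 := N3_three (k := k + 1) h
    show 3 ∣ k + 1 - 1
    omega

theorem seven_le (hq : 1 ≤ q) (h : Cp ε q r) : 7 ≤ r := by
  have h1 := h.prime.two_le
  cases ε
  · have h2 := H946.Num.prim_mod hq (by decide) h
    change 6 ∣ r - 1 at h2
    omega
  · have h2 := H946.Num.prim_mod hq (by decide) h
    have h3 := Prim.odd h (by decide)
    change 3 ∣ r - 1 at h2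
    omega

theorem not_dvd_sq (h : Cp ε q r) : ¬ r ∣ q ^ 2 - 1 := Prim.not_dvd_sub h (by cases ε <;> decide)

theorem cp_of (hq : 1 ≤ q) (hr : r.Prime) (h3 : r ≠ 3) (h : r ∣ Nc ε q) : Cp ε q r := by
  cases ε
  · exact prim_of_order hr hq (by decide) (od_N6 hr h h3)
  · exact prim_of_order hr hq (by decide) (od_N3 hr h h3)

theorem qm_dvd (hq : 1 ≤ q) : qm ε q ∣ q ^ 2 - 1 := by
  obtain ⟨k, rfl⟩ : ∃ k, q = k + 1 := ⟨q - 1, by omega⟩
  rw [sq_sub]
  cases ε
  · exact Dvd.intro_left k rfl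
  · exact Dvd.intro (k + 2) rfl

theorem eq_of_dvd (hq : 1 ≤ q) (h : Cp ε q r) (h1 : r ∣ oL ε' q) : ε' = ε := by
  have hr := h.prime
  have h7 := seven_le hq h
  have h2 : r ∣ Nc ε' q := (hr.dvd_mul.1 ((hr.dvd_mul.1 ((hr.dvd_mul.1 h1).resolve_left (Prim.not_dvd_pow h 3))).resolve_left
    (not_dvd_sq h))).resolve_left fun h2 => not_dvd_sq h (h2.trans (qm_dvd hq))
  have h3 := Prim.unique h (cp_of hq hr (by omega) h2)
  revert h3
  cases ε <;> cases ε' <;> decide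

theorem c3_lt (hq : 4 ≤ q) : c3 q < 2 * oL ε q := by
  obtain ⟨k, rfl⟩ : ∃ k, q = k + 3 + 1 := ⟨q - 4, by omega⟩
  rw [c3, oL, sq_sub]
  cases ε
  · rw [show Nc false (k + 3 + 1) = N3 (k + 3) from N6_succ _, show qm false (k + 3 + 1) = k + 5 from rfl, N3]
    have h1 : (k + 4) ^ 3 < 2 * ((k + 3) * ((k + 3) ^ 2 + (k + 3) + 1)) := by
      ring_nf
      omega
    calc (k + 3 + 1) ^ 6 * (k + 3 + 1 + 1) ^ 2 = (k + 4) ^ 3 * (k + 5) ^ 2 * (k + 4) ^ 3 := by ring
      _ < (k + 4) ^ 3 * (k + 5) ^ 2 * (2 * ((k + 3) * ((k + 3) ^ 2 + (k + 3) + 1))) :=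
        Nat.mul_lt_mul_of_pos_left h1 (by positivity)
      _ = _ := by ring
  · rw [show Nc true (k + 3 + 1) = N3 (k + 4) from rfl, show qm true (k + 3 + 1) = k + 3 from rfl, N3]
    have h1 : (k + 4) ^ 3 * (k + 5) < 2 * ((k + 3) ^ 2 * ((k + 4) ^ 2 + (k + 4) + 1)) := by
      ring_nf
      omega
    calc (k + 3 + 1) ^ 6 * (k + 3 + 1 + 1) ^ 2 = (k + 4) ^ 3 * (k + 5) * ((k + 4) ^ 3 * (k + 5)) := by ring
      _ < (k + 4) ^ 3 * (k + 5) * (2 * ((k + 3) ^ 2 * ((k + 4) ^ 2 + (k + 4) + 1))) :=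
        Nat.mul_lt_mul_of_pos_left h1 (by positivity)
      _ = _ := by ring

end num

/-! ### `SL₃(q)` and `SU₃(q)` -/

/-- the data of `SL₃^ε(q)` -/
structure LD (ε : Bool) (q : ℕ) (X : Type) [Group X] : Prop where
  card : Nat.card X = oL ε q
  cen : Nat.card (center X) = dd ε q
  ord : ∃ x : X, orderOf x = qm (!ε) q

theorem LD.congr {ε : Bool} {q : ℕ} {X Y : Type} [Group X] [Group Y] (e : X ≃* Y) (h : LD ε q X) : LD ε q Y := by
  obtain ⟨x, hx⟩ := h.ord
  exact ⟨(Nat.card_congr e.toEquiv).symm.trans h.card, (Nat.card_congr (centerCongr e).toEquiv).symm.trans h.cen,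
    e x, (e.orderOf_eq x).trans hx⟩

theorem ld_sl (F : Type) [Field F] [Fintype F] : LD true (Fintype.card F) (Matrix.SpecialLinearGroup (Fin 3) F) := by
  refine ⟨?_, ?_, ?_⟩
  · rw [H803.OC.RowPSL.card_SL3, oL, mul_assoc]
    obtain ⟨k, hk⟩ : ∃ k, Fintype.card F = k + 1 := ⟨Fintype.card F - 1, by have := Fintype.card_pos (α := F); omega⟩
    rw [hk, show (k + 1) ^ 3 - 1 = k * N3 (k + 1) from Nat.sub_eq_of_eq_add (by unfold N3; ring)]
    rfl
  · rw [H93.PslCharpoly.card_center 3 (by omega), Nat.card_eq_fintype_card]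
    rfl
  · obtain ⟨g, hg⟩ := H375.LThree.exists_order_xx (F := F)
    exact H414.Adj.exists_order_quot (center _) (Nat.succ_ne_zero _)
      (H375.LThree.exists_order_of_dvd (g := g) (hg ▸ Dvd.intro _ rfl))

theorem ld_su {L : Type} [Field L] [Fintype L] {q : ℕ} (hL : Fintype.card L = q ^ 2) (hq : 2 ≤ q) : LD false q (SU 3 L q) := by
  refine ⟨?_, S0279.result hL 3 le_rfl, ?_⟩
  · rw [H929.U3.card_SU3 hL, oL, mul_comm (q ^ 3 + 1)]
    obtain ⟨k, rfl⟩ : ∃ k, q = k + 1 := ⟨q - 1, by omega⟩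
    rw [show Nc false (k + 1) = N3 k from N6_succ k, show (k + 1) ^ 3 + 1 = (k + 1 + 1) * N3 k by unfold N3; ring]
    rfl
  · refine H414.Adj.exists_order_quot (center _) (show q - 1 ≠ 0 by omega) (H127.PSUThreeEx.ex_three hL (q - 1) ?_)
    obtain ⟨k, rfl⟩ : ∃ k, q = k + 1 := ⟨q - 1, by omega⟩
    rw [sq_sub, Nat.mul_div_assoc _ (Nat.gcd_dvd_right 3 (k + 1 + 1))]
    exact Dvd.intro _ rfl

open Cfsg.Agent.H161.Oct Cfsg.Agent.H566.G2 Cfsg.Agent.H876.G2U in
theorem ld_mk {F : Type} [Field F] [Fintype F] (hq : 3 ≤ Fintype.card F) {e : V F} (he : dsc e ≠ 0) :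
    ∃ ε, LD ε (Fintype.card F) (MK e) := by
  have hq' : 3 ≤ Nat.card F := by rwa [Nat.card_eq_fintype_card]
  by_cases hl : ∀ l : F, l ^ 2 - tr e * l + nm e ≠ 0
  · obtain ⟨Q⟩ := exists_quad hl
    obtain ⟨g, gm, ge, gc⟩ := exists_frame Q fun B hB hd => H393.G2.exists_PPt Q.card (by omega) Q.s Q.s_eq B hB hd
    obtain ⟨Φ⟩ := exists_iso Q gm ge gc (H393.G2.mem_SU_iff Q.s Q.s_eq Q.ss)
    have := Fintype.ofFinite Q.L
    have h1 : Fintype.card Q.L = Nat.card F ^ 2 := by rw [← Nat.card_eq_fintype_card, Q.card]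
    exact ⟨false, Nat.card_eq_fintype_card (α := F) ▸ (ld_su h1 (by omega)).congr Φ.symm⟩
  push Not at hl
  obtain ⟨l, hl⟩ := hl
  obtain ⟨m, hm⟩ : ∃ m : F, tr e = l + m := ⟨tr e - l, by ring⟩
  have hnm : nm e = l * m := by
    rw [hm] at hl
    linear_combination hl
  have hml : m - l ≠ 0 := fun h0 => he (by
    rw [dsc, hnm, hm, sub_eq_zero.1 h0]
    ring)
  obtain ⟨e', he'⟩ : ∃ e' : V F, e' = (m - l)⁻¹ • (e + (-l) • o) := ⟨_, rfl⟩
  have ht : tr e' = 1 := by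
    rw [he', tr_smul, tr_add, tr_smul, tr_o, hm]
    field_simp
    ring
  have hn : nm e' = 0 := by
    rw [he', nm_smul, nm_add, nm_smul, bl_smul, bl_o, nm_o, hm, hnm]
    ring
  obtain ⟨h, hh, he1⟩ := exists_idem ht hn
  have h6 : e = l • o + (m - l) • e' := by
    rw [he', smul_smul, mul_inv_cancel₀ hml, one_smul, neg_smul]
    abel
  have h7 : (MK e').map (MulAut.conj (⟨h, hh⟩ : AutO F)).toMonoidHom = MK e1 := by
    ext g
    rw [mem_map_equiv, mem_MK, mem_MK, ← he1]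
    show h.symm ((g : V F ≃ₗ[F] V F) (h e')) = e' ↔ _
    rw [LinearEquiv.symm_apply_eq]
  rw [h6, H244.S3509G2.mk_affine _ hml]
  exact ⟨true, (ld_sl F).congr (((H256.G2.eA F).trans (MulEquiv.subgroupCongr h7.symm)).trans
    ((MulAut.conj (⟨h, hh⟩ : AutO F)).subgroupMap _).symm)⟩

/-! ### the facts on `G₂(q)` -/

/-- the facts used -/
structure Fa (p q : ℕ) (G : Type) [Group G] : Prop where
  one : 1 ≤ q
  four : p ≠ 3 → 4 ≤ q
  big : ∀ ε r, Cp ε q r → Big G r (Nc ε q) 6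
  iso : ∀ ε r, Cp ε q r → PIso p r G
  nd : ∀ ε r, Cp ε q r → ¬ p ∣ r
  gr : Gr p q (⊤ : Subgroup G)
  tor : ∀ l (E : Subgroup G), EA l E → l ≠ 2 → l ≠ p → Group.IsSolvable (Cz E) → (Cz E).relIndex (Nz E) ≤ 12
  ovr : ∀ (y : G) (r : ℕ), ¬ p ∣ r → y ^ r = 1 → ∃ (M : Subgroup G) (ε : Bool), y ∈ M ∧ LD ε q M

theorem fa_of {p f : ℕ} {G : Type} [Group G] [Finite G] (hp : p.Prime) (hf : 1 ≤ f) (hG : IsNamed (.g2 (p ^ f)) G) :
    Fa p (p ^ f) G := by
  have d := H983.KG2.dat_of hG hp hf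
  obtain ⟨F, _, _, hF, ⟨e⟩⟩ := hG.real
  have := Fact.mk hp
  have : CharP F p := H290.ElReg.charP_of_pow hp hF
  have h3 := d.h3q
  have hq : 3 ≤ Fintype.card F := hF ▸ h3
  have : Finite (chevG2.group F) := Finite.of_equiv _ e.toEquiv
  refine ⟨by omega, fun h => ?_, fun ε r h => ?_, fun ε r h => ?_, fun ε r h h1 => ?_,
    hF ▸ gr_of hq (topEquiv.trans e), fun l E hE h2 hl hs => ?_, fun y r hr hy => ?_⟩
  · refine lt_of_le_of_ne h3 fun h1 => h ?_
    exact (Nat.prime_dvd_prime_iff_eq hp Nat.prime_three).1 (h1 ▸ dvd_pow_self p (by omega))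
  · cases ε
    · exact d.b6 r h
    · exact d.b3 r h
  · exact H325.Same.piso_g2_named hG hp (by cases ε <;> decide) h
  · exact h.not_dvd ((Nat.prime_dvd_prime_iff_eq hp h.prime).1 h1 ▸ dvd_pow_self p (by omega))
  · have hj : Function.Injective e.symm.toMonoidHom := e.symm.injective
    have hr : e.symm.toMonoidHom.range = ⊤ := MonoidHom.range_eq_top.2 e.symm.surjective
    obtain ⟨E, rfl⟩ := exists_map (j := e.symm.toMonoidHom) (E := E) (hr ▸ le_top)
    have h4 := cz_map hj E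
    have h5 := nz_map hj E
    rw [hr, inf_top_eq] at h4 h5
    rw [h4] at hs
    rw [h4, h5, relIndex_map_map_of_injective _ _ hj]
    exact ((oddG boxNS boxTabG p F hq).tor l E (ea_of_map hj hE) h2 hl (Group.isSolvable_of_isSolvable_injective
      (f := ((Cz E).equivMapOfInjective _ hj).toMonoidHom) (MulEquiv.injective _))).1.idx
  · obtain ⟨e'⟩ := exists_equiv (F := F)
    let φ := e'.trans e.symm
    obtain ⟨x, rfl⟩ := φ.surjective y
    obtain ⟨v, hv, hd⟩ := exists_mk hq hr (φ.injective (by rw [map_pow, hy, map_one]) : x ^ r = 1)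
    obtain ⟨ε, h⟩ := ld_mk hq hd
    exact ⟨_, ε, mem_map_of_mem φ.toMonoidHom hv, hF ▸ h.congr (φ.subgroupMap _)⟩

/-! ### the abstract argument -/

theorem solv_of_dvd {X : Type} [Group X] [Finite X] {ε : Bool} {q : ℕ} (hq : 1 ≤ q) (h : Nat.card X ∣ 6 * Nc ε q) :
    Group.IsSolvable X :=
  S4167.result fun _ h1 => not_four hq ((h1.trans (index_dvd_card _)).trans h)

/-- normal subgroups of order prime to a big prime are solvable -/
theorem solv_of_big {X : Type} [Group X] [Finite X] {r m e : ℕ} (hb : Big X r m e) (hr : r ∣ Nat.card X) (S : Subgroup X)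
    [S.Normal] (hS : ¬ r ∣ Nat.card S) : Group.IsSolvable S := by
  have : Fact r.Prime := ⟨hb.prime⟩
  obtain ⟨x, hx⟩ := exists_prime_orderOf_dvd_card' r hr
  apply H563.KG.cycFixSolv S (MulAut.conjNormal (H := S) x) r hb.prime _ hS
  · refine ⟨(centralizer {x}).comap S.subtype, ?_, fun a ha => ?_⟩
    · have := hb.cyc x hx
      let g : ↥((centralizer {x}).comap S.subtype) →* ↥(centralizer {x}) :=
        (S.subtype.comp ((centralizer {x}).comap S.subtype).subtype).codRestrict _ fun y => y.2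
      exact isCyclic_of_injective g fun a b hab => by
        have h3 : ((a : S) : X) = ((b : S) : X) := congrArg (fun z : ↥(centralizer {x}) => (z : X)) hab
        exact Subtype.ext (Subtype.ext h3)
    · rw [mem_comap, mem_centralizer_singleton_iff]
      have h2 := congrArg Subtype.val ha
      rw [MulAut.conjNormal_apply, mul_inv_eq_iff_eq_mul] at h2
      exact h2.symm
  · rw [← map_pow, ← hx, pow_orderOf_eq_one, map_one]

variable {p q r : ℕ} {G : Type} [Group G] [Finite G] {ε : Bool}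

theorem exists_ord {l : ℕ} (hl : l.Prime) {K : Subgroup G} (h : l ∣ Nat.card K) : ∃ x ∈ K, orderOf x = l := by
  have := Fact.mk hl
  obtain ⟨x, hx⟩ := exists_prime_orderOf_dvd_card' l h
  exact ⟨x, x.2, (orderOf_coe x).trans hx⟩

/-- **the local case** -/
theorem loc (a : Fa p q G) (hr : Cp ε q r) {l : ℕ} {E : Subgroup G} (hE : EA l E) (hN : r ∣ Nat.card (Nz E))
    (hs : ¬ Group.IsSolvable (Nz E)) : (3 ∣ qm ε q ∧ Sh ε q (Nz E)) ∨ (p ≠ 2 ∧ Nat.card (Nz E) ∣ 2688) := by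
  have hq := a.one
  have h7 := seven_le hq hr
  have hrp := hr.prime
  by_cases hl : l = p
  · exact (a.iso ε r hr E (hl ▸ hE.isPGroup) hE.ne_bot hN).elim
  have hc := card_nz E
  have hi : (Cz E).relIndex (Nz E) ∣ Nat.card (MulAut E) := twoA_relIndex E ▸ card_subgroup_dvd_card _
  obtain ⟨z, hz, -, zo⟩ := hE.exists_ne
  have hz1 : Cz E ≤ centralizer {z} := centralizer_le (Set.singleton_subset_iff.2 hz)
  by_cases h2 : l = 2
  · subst h2
    have hp2 : p ≠ 2 := fun h => hl h.symm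
    have h4 : ¬ Nat.card E ≤ 4 := fun h4 => by
      rcases hrp.dvd_mul.1 (hc ▸ hN) with h | h
      · have h5 := (a.gr.inv hp2 z trivial zo).1
        rw [inf_top_eq, c2] at h5
        rcases hrp.dvd_mul.1 (h5 ▸ h.trans (card_dvd_of_le hz1)) with h6 | h6
        · exact Prim.not_dvd_pow hr 2 h6
        · exact not_dvd_sq hr (hrp.dvd_of_dvd_pow h6)
      · have h5 := (h.trans hi).trans (card_dvd_of_injective (MulAut.toPerm E) fun _ _ h => MulEquiv.toEquiv_injective h)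
        rw [Nat.card_perm, hrp.dvd_factorial] at h5
        omega
    rcases a.gr.rk hp2 E le_top hE with h | h | h
    · omega
    · omega
    · rw [inf_top_eq] at h
      exact .inr ⟨hp2, h.2⟩
  have hCN : Cz E ≤ Nz E := Cz_le_Nz
  by_cases h1 : r ∣ Nat.card (Cz E)
  swap
  · exfalso
    have h3 : Group.IsSolvable ((Cz E).subgroupOf (Nz E)) := solv_of_big ((a.big ε r hr).subgroup _) hN _ (by
      rwa [Nat.card_congr (subgroupOfEquivOfLe hCN).toEquiv])
    have h4 := a.tor l E hE h2 hl (Group.isSolvable_of_isSolvable_injective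
      (f := (subgroupOfEquivOfLe hCN).symm.toMonoidHom) (MulEquiv.injective _))
    obtain ⟨k, hk⟩ := (hrp.dvd_mul.1 (hc ▸ hN)).resolve_left h1
    have h5 : (Cz E).relIndex (Nz E) ≠ 0 := index_ne_zero_of_finite
    have h6 : k = 1 := by
      rcases k with _ | _ | k
      · omega
      · rfl
      · nlinarith
    have := Fact.mk hrp
    have h8 : IsCyclic (Nz E ⧸ (Cz E).subgroupOf (Nz E)) := isCyclic_of_prime_card (p := r) (by
      rw [h6, mul_one] at hk
      exact hk)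
    have h9 : Group.IsSolvable (Nz E ⧸ (Cz E).subgroupOf (Nz E)) := Group.isSolvable_of_comm fun a b => mul_comm' a b
    exact hs (Group.isSolvable_of_ker_le_range ((Cz E).subgroupOf (Nz E)).subtype (QuotientGroup.mk' ((Cz E).subgroupOf (Nz E)))
      (by rw [QuotientGroup.ker_mk', range_subtype]))
  obtain ⟨y, hy, yo⟩ := exists_ord hrp h1
  have hb := a.big ε r hr
  have hEy : E ≤ centralizer {y} := fun x hx => mem_centralizer_singleton_iff.2 (mem_centralizer_iff.1 hy x hx)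
  have hEz : E = zpowers z := le_antisymm (fun x hx => mem_zpowers_of_cyclic (hb.cyc y yo) (hEy hz) (hEy hx)
    (zo ▸ orderOf_dvd_of_pow_eq_one (hE.pow x hx))) (zpowers_le_of_mem hz)
  have hlN : l ∣ Nc ε q := (zo ▸ orderOf_dvd_natCard _ (hEy hz) : l ∣ _).trans (hb.card y yo)
  by_cases h3 : l = 3
  swap
  · refine (hs (solv_of_dvd (ε := ε) hq ?_)).elim
    rw [hEz]
    exact (a.big ε l (cp_of hq hE.prime h3 hlN)).card_normalizer_dvd zo
  subst h3
  have h4 := three_dvd hq hlN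
  obtain ⟨M, ε', hM, d⟩ := a.ovr y r (a.nd ε r hr) (yo ▸ pow_orderOf_eq_one y)
  obtain rfl := eq_of_dvd hq hr (d.card ▸ yo ▸ orderOf_dvd_natCard _ hM)
  have hd : dd ε' q = 3 := Nat.gcd_eq_left h4
  obtain ⟨w, hw, wo⟩ := exists_ord Nat.prime_three (K := center M) (by rw [d.cen, hd])
  have h5 : z ∈ zpowers (w : G) := mem_zpowers_of_cyclic (hb.cyc y yo)
    (mem_centralizer_singleton_iff.2 (congrArg Subtype.val (mem_center_iff.1 hw ⟨y, hM⟩)).symm) (hEy hz)
    (by rw [zo, orderOf_coe, wo])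
  have hC : Cz E = centralizer {z} := by rw [hEz, cz_zpowers]
  have h6 : M ≤ Cz E := by
    rw [hC]
    intro g hg
    obtain ⟨i, rfl⟩ := h5
    have h7 : Commute g (w : G) := congrArg Subtype.val (mem_center_iff.1 hw ⟨g, hg⟩)
    exact mem_centralizer_singleton_iff.2 (h7.zpow_right i)
  have h8 := a.gr.cb z trivial (zo ▸ Nat.prime_three)
  rw [inf_top_eq, ← hC, zo, cb, if_neg hl, if_neg h2, if_pos rfl] at h8
  have h9 : Nat.card (Cz E) = oL ε' q := by
    obtain ⟨k, hk⟩ := card_dvd_of_le h6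
    have h10 := c3_lt (ε := ε') (a.four fun h => hl h.symm)
    have h11 : 0 < Nat.card (Cz E) := Nat.card_pos
    rw [d.card] at hk
    rcases k with _ | _ | k
    · omega
    · omega
    · nlinarith
  have h10 : (Cz E).relIndex (Nz E) ∣ 2 := by
    have : IsCyclic E := hEz ▸ isCyclic_zpowers z
    rwa [IsCyclic.card_mulAut, show Nat.card E = 3 by rw [hEz, Nat.card_zpowers, zo]] at hi
  obtain ⟨x, hx⟩ := d.ord
  refine .inl ⟨h4, ⟨3 * (Cz E).relIndex (Nz E), ?_, ?_⟩, x, hCN (h6 x.2), (orderOf_coe x).trans hx⟩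
  · rw [hd, mul_comm 2]
    exact Nat.mul_dvd_mul_left 3 h10
  · rw [hd, hc, h9]
    ring

/-- a characteristic elementary abelian subgroup -/
theorem exists_ea {Y : Type} [Group Y] [Finite Y] {N : Subgroup Y} (hN : N.Normal) (h0 : N ≠ ⊥) (hs : Group.IsSolvable N) :
    ∃ (l : ℕ) (E : Subgroup Y), E.Characteristic ∧ EA l E := by
  have := (nontrivial_iff_ne_bot N).2 h0
  obtain ⟨l, hl, -, V, hV, h1, -, h3⟩ := H582.exists_char_elemAb N hs
  have := Fact.mk hl
  have h4 : V.map N.subtype ≤ pCore l Y := Lib.Cores.le_pCore inferInstance (by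
    rintro ⟨_, x, hx, rfl⟩
    exact ⟨1, Subtype.ext (by rw [pow_one]; exact congrArg (Subtype.val : N → Y) (h3 x hx))⟩)
  have h5 : pCore l Y ≠ ⊥ := fun h => h1 ((map_eq_bot_iff_of_injective V N.subtype_injective).1 (le_bot_iff.1 (h ▸ h4)))
  have := (nontrivial_iff_ne_bot _).2 h5
  have := Lib.Cores.pCore_characteristic (G := Y) l
  have := (Lib.Cores.pCore_isPGroup (G := Y) l).isNilpotent
  obtain ⟨s, hs, -, U, hU, h6, h7, h8⟩ := H582.exists_char_elemAb (pCore l Y) inferInstance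
  refine ⟨s, U.map (pCore l Y).subtype, inferInstance, hs,
    fun h => h6 ((map_eq_bot_iff_of_injective U (subtype_injective _)).1 h), ?_, ?_⟩
  · rintro _ ⟨x, hx, rfl⟩
    exact congrArg Subtype.val (h8 x hx)
  · rintro _ ⟨x, hx, rfl⟩ _ ⟨y, hy, rfl⟩
    exact congrArg Subtype.val (h7 x hx y hy)

end ST

open ST in
/-- **the structure of a factor with a class prime** -/
theorem boxST : BoxST := by
  intro p f G _ _ hp hf hG Y ε r hr hY hs hN
  have a := fa_of hp hf hG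
  generalize p ^ f = q at *
  by_cases h : ∃ N : Subgroup Y, N.Normal ∧ N ≠ ⊥ ∧ Group.IsSolvable N
  · obtain ⟨N, h1, h2, h3⟩ := h
    obtain ⟨l, E, hc, hE⟩ := exists_ea h1 h2 h3
    have h4 : Nz (E.map Y.subtype) = Y := le_antisymm (hN E hc hE.ne_bot) (by
      have h5 := le_normalizer_map (H := E) Y.subtype
      rwa [normalizer_eq_top, ← MonoidHom.range_eq_map, range_subtype] at h5)
    have h5 : EA l (E.map Y.subtype) := by
      refine ⟨hE.prime, fun h => hE.ne_bot ((map_eq_bot_iff_of_injective E Y.subtype_injective).1 h), ?_, ?_⟩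
      · rintro _ ⟨x, hx, rfl⟩
        exact congrArg Subtype.val (hE.pow x hx)
      · rintro _ ⟨x, hx, rfl⟩ _ ⟨y, hy, rfl⟩
        exact congrArg Subtype.val (hE.comm x hx y hy)
    have h6 := loc a hr h5 (h4.symm ▸ hY) (h4.symm ▸ hs)
    rw [h4] at h6
    exact h6.imp_right .inr
  · let B : ℕ → ℕ → ℕ → Prop := fun s m e => ∃ ε', Cp ε' q s ∧ s ∣ Nat.card Y ∧ m = Nc ε' q ∧ e = 6
    have hB : RFam Y B := by
      refine ⟨?_, ?_, ?_⟩
      · rintro s _ _ ⟨ε', h1, -, rfl, rfl⟩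
        exact (a.big ε' s h1).subgroup Y
      · rintro s _ _ ⟨ε', -, h1, -, -⟩
        exact h1
      · rintro s _ _ ⟨ε', -, -, rfl, rfl⟩ h1
        exact hs (solv_of_dvd a.one h1)
    have h0 : B r (Nc ε q) 6 := ⟨ε, hr, hY, rfl, rfl⟩
    obtain ⟨L, h1, h2, h3, h4⟩ := hB.exists_full H563.KG.cycFixSolv (fun N hN h1 => by
      by_contra h2
      exact h ⟨N, hN, h2, solv_of_big (hB.big _ _ _ h0) hY N (h1 r ⟨_, _, h0⟩)⟩) h0
    exact .inr (.inl ⟨L, h1, ⟨h2, h3⟩, (h4 _ _ _ h0).2.2.2, fun ε' s h5 h6 =>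
      ⟨(h4 _ _ _ ⟨ε', h5, h6, rfl, rfl⟩).2.1, (h4 _ _ _ ⟨ε', h5, h6, rfl, rfl⟩).2.2.1⟩⟩)

end Cfsg.Agent.SM.Ex78
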