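import Cfsg.Agent.SM.Ex78.TL
import Cfsg.Agent.SM.Ex78.ST
import Cfsg.Agent.SM.Ex78.S3
import Cfsg.Agent.SM.Ex78.L1
import Cfsg.Agent.H983.ElG.KOut
import Cfsg.Agent.H394.Wei.Congr
import Cfsg.Agent.H325.G2Small
import Cfsg.Agent.S5933
import Cfsg.Agent.TAB.M5.Loc

/-!
# SM (S3570), `G₂(q)`: the lists for the second factor, factorisations of `G₂(q)` (helper78)
-/

set_option autoImplicit false

namespace Cfsg.Agent.SM.Ex78.Id

open Cfsg Cfsg.Lie Subgroup Cfsg.Agent.OrdDiv Cfsg.Agent.H436 Cfsg.Agent.H946.Num Cfsg.Agent.H56.Exc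

/-- the order of `G₂(q)` -/
def oG (q : ℕ) : ℕ := q ^ 6 * ((q ^ 2 - 1) * (q ^ 6 - 1))

/-- the orders of `G₂(√q)` and of `²G₂(q)` -/
def oS (ε : Bool) (q : ℕ) : ℕ := q ^ 3 * ((q - 1) * (qm ε q * Nc ε q))

section num

variable {p f q n r : ℕ} {ε : Bool}

theorem sq_eq (hq : 1 ≤ q) : q ^ 2 - 1 = (q - 1) * (q + 1) := (qm_mul hq true).symm

theorem oL_eq (hq : 1 ≤ q) (ε : Bool) : oL ε q = oS ε q * (q + 1) := by
  rw [oL, oS, sq_eq hq]
  ring

theorem oS_mul (hq : 1 ≤ q) (ε : Bool) : oS ε q * oS (!ε) q * (q + 1) = oG q * (q - 1) := by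
  rw [oS, oS, oG, ← six_eq hq ε, sq_eq hq]
  ring

theorem oG_pos (hq : 2 ≤ q) : 0 < oG q := by
  have h1 : 1 < q ^ 2 := Nat.one_lt_pow (by omega) hq
  have h2 : 1 < q ^ 6 := Nat.one_lt_pow (by omega) hq
  exact Nat.mul_pos (by omega) (Nat.mul_pos (by omega) (by omega))

theorem cube_eq (hq : 1 ≤ q) : qm true q * Nc true q = q ^ 3 - 1 ∧ qm false q * Nc false q = q ^ 3 + 1 := by
  rw [Nc_eq hq, Nc_eq hq]
  obtain ⟨k, rfl⟩ := Nat.exists_eq_add_of_le' hq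
  simp only [qm, cond, Bool.not_true, Bool.not_false, Nat.add_sub_cancel]
  exact ⟨(Nat.sub_eq_of_eq_add (by ring)).symm, by ring⟩

theorem not_dvd_sub (hp : p.Prime) (hf : 1 ≤ f) {j : ℕ} (hj : 1 ≤ j) : ¬ p ∣ (p ^ f) ^ j - 1 := fun h => by
  rw [← pow_mul] at h
  exact hp.one_lt.ne' (eq_one_of_qm (ε := true) (Nat.one_le_pow _ _ hp.pos) h (dvd_pow_self p (Nat.mul_pos hf hj).ne'))

theorem not_dvd_Nc (hp : p.Prime) (hf : 1 ≤ f) : ¬ p ∣ Nc ε (p ^ f) := fun h =>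
  hp.one_lt.ne' (eq_one_of_Nc' (Nat.one_le_pow _ _ hp.pos) (dvd_pow_self p (by omega)) h)

theorem v_oG (hp : p.Prime) (hf : 1 ≤ f) : (oG (p ^ f)).factorization p = 6 * f := by
  have h1 : ¬ p ∣ ((p ^ f) ^ 2 - 1) * ((p ^ f) ^ 6 - 1) :=
    hp.not_dvd_mul (not_dvd_sub hp hf (by omega)) (not_dvd_sub hp hf (by omega))
  rw [oG, Nat.factorization_mul (pow_pos (pow_pos hp.pos _) _).ne' (fun h => h1 (by rw [h]; exact dvd_zero _)), Finsupp.add_apply,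
    Nat.factorization_eq_zero_of_not_dvd h1, ← pow_mul, hp.factorization_pow, Finsupp.single_eq_same]
  omega

theorem v_oL (hp : p.Prime) (hf : 1 ≤ f) : (oL ε (p ^ f)).factorization p = 3 * f := by
  have h1 : ¬ p ∣ ((p ^ f) ^ 2 - 1) * (qm ε (p ^ f) * Nc ε (p ^ f)) :=
    hp.not_dvd_mul (not_dvd_sub hp hf (by omega)) (hp.not_dvd_mul (fun h => hp.one_lt.ne'
      (eq_one_of_qm (Nat.one_le_pow _ _ hp.pos) h (dvd_pow_self p (by omega)))) (not_dvd_Nc hp hf))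
  rw [oL, Nat.factorization_mul (pow_pos (pow_pos hp.pos _) _).ne' (fun h => h1 (by rw [h]; exact dvd_zero _)), Finsupp.add_apply,
    Nat.factorization_eq_zero_of_not_dvd h1, ← pow_mul, hp.factorization_pow, Finsupp.single_eq_same]
  omega

theorem two_le (hp : p.Prime) (hf : 1 ≤ f) : 2 ≤ p ^ f := hp.two_le.trans (Nat.le_self_pow (by omega) p)

theorem v_le {m : ℕ} (h : n ∣ m) (hm : m ≠ 0) (p : ℕ) : n.factorization p ≤ m.factorization p :=
  (Nat.factorization_le_iff_dvd (fun h0 => hm (Nat.eq_zero_of_zero_dvd (h0 ▸ h))) hm).2 h p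

theorem v_one (hp : p.Prime) (hf : 1 ≤ f) (h : n ∣ oL ε (p ^ f)) : n.factorization p ≤ 3 * f :=
  v_oL hp hf ▸ v_le h (oL_pos (two_le hp hf) ε).ne' p

/-- the `p`-part is at most `(2, p) q³` -/
def V (p f n : ℕ) : Prop := n.factorization p ≤ 3 * f + 1 ∧ (p ≠ 2 → n.factorization p ≤ 3 * f)

theorem v_two (hp : p.Prime) (hf : 1 ≤ f) (h : n ∣ 2 * oL ε (p ^ f)) : V p f n := by
  have h0 := (oL_pos (two_le hp hf) ε).ne'
  have h1 := v_le h (Nat.mul_ne_zero two_ne_zero h0) p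
  rw [Nat.factorization_mul two_ne_zero h0, Finsupp.add_apply, v_oL hp hf, Nat.prime_two.factorization,
    Finsupp.single_apply] at h1
  constructor <;> split_ifs at h1 <;> omega

theorem v_lt (hp : p.Prime) (h0 : n ≠ 0) {k : ℕ} (h : ¬ p ^ k ∣ n) : n.factorization p < k :=
  not_le.1 fun h1 => h ((hp.pow_dvd_iff_le_factorization h0).2 h1)

theorem v_of (hp : p.Prime) (h0 : n ≠ 0) (h : ¬ (p ^ f) ^ 3 ∣ n) : V p f n := by
  rw [← pow_mul] at h
  have := v_lt hp h0 h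
  exact ⟨by omega, fun _ => by omega⟩

theorem eq_three (h : p ^ f = 3) : p = 3 ∧ f = 1 := (Nat.Prime.pow_eq_iff Nat.prime_three).1 h

theorem eq_four (hp : p.Prime) (hf : 1 ≤ f) (h : p ^ f = 4) : p = 2 ∧ f = 2 := by
  obtain rfl : p = 2 := (Nat.prime_dvd_prime_iff_eq hp Nat.prime_two).1
    (hp.dvd_of_dvd_pow (n := 2) (show p ∣ 4 from h ▸ dvd_pow_self p (by omega)))
  exact ⟨rfl, Nat.pow_right_injective le_rfl h⟩

theorem not_cube (hp : p.Prime) (hf : 1 ≤ f) (h2 : p ≠ 2) (h : n ∣ 2688) : ¬ (p ^ f) ^ 3 ∣ n := fun h1 => by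
  have h3 : p ^ 3 ∣ 2 ^ 7 * 21 := ((pow_dvd_pow_of_dvd (dvd_pow_self p (by omega)) 3).trans h1).trans h
  have h4 := Nat.le_of_dvd (by norm_num) ((((Nat.coprime_primes hp Nat.prime_two).2 h2).pow 3 7).dvd_of_dvd_mul_left h3)
  have h5 : 3 ^ 3 ≤ p ^ 3 := Nat.pow_le_pow_left (by have := hp.two_le; omega) 3
  omega

theorem cp37 : Cp false 3 7 := ST.cp_of (by norm_num) (by norm_num) (by norm_num) (by decide)
theorem cp313 : Cp true 3 13 := ST.cp_of (by norm_num) (by norm_num) (by norm_num) (by decide)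
theorem cp413 : Cp false 4 13 := ST.cp_of (by norm_num) (by norm_num) (by norm_num) (by decide)
theorem cp47 : Cp true 4 7 := ST.cp_of (by norm_num) (by norm_num) (by norm_num) (by decide)

theorem cp_dvd (h : Cp ε q r) : r ∣ oG q :=
  ((Prim.dvd h (by cases ε <;> decide)).mul_left _).mul_left _

/-- a class prime divides a given number of the shape `c * (6 - smooth)` -/
theorem cp_eq (hq : 1 ≤ q) (h : Cp ε q r) {s : ℕ} (hs : s.Prime) (he : Nc ε q ∣ 3 * s) : r = s := by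
  have h7 := ST.seven_le hq h
  have hr := h.prime
  have h1 : r ∣ qm ε q * Nc ε q := by
    have h2 := cp_dvd h
    rw [oG, ← six_eq hq ε] at h2
    rcases hr.dvd_mul.1 ((hr.dvd_mul.1 ((hr.dvd_mul.1 h2).resolve_left (Prim.not_dvd_pow h 6))).resolve_left
      (ST.not_dvd_sq h)) with h3 | h3
    · exact h3
    · have h4 := ST.eq_of_dvd hq h (ε' := !ε) ((h3.mul_left _).mul_left _)
      cases ε <;> simp at h4
  have h2 := ((hr.dvd_mul.1 h1).resolve_left fun k => ST.not_dvd_sq h (k.trans (ST.qm_dvd hq))).trans he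
  exact (Nat.prime_dvd_prime_iff_eq hr hs).1 ((hr.dvd_mul.1 h2).resolve_left fun k => by
    have := Nat.le_of_dvd (by norm_num) k
    omega)

end num

section grp

variable {p f q r : ℕ} {ε : Bool} {G : Type} [Group G]

theorem g2_card (h : IsNamed (.g2 q) G) : Nat.card G = oG q := (one_mul _).symm.trans h.eq

theorem ree_card (h : IsNamed (.ree q) G) : Nat.card G = oS false q := by
  obtain ⟨m, -, hq⟩ := h.cond
  rw [oS, (cube_eq (hq ▸ Nat.one_le_pow _ _ (by norm_num))).2]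
  exact (one_mul _).symm.trans h.eq

theorem half_card {h : ℕ} (hp : p.Prime) (hL : IsNamed (.g2 (p ^ h)) G) : Nat.card G = oS true (p ^ (2 * h)) := by
  rw [oS, (cube_eq (Nat.one_le_pow _ _ hp.pos)).1, g2_card hL, oG, mul_comm 2 h, pow_mul, ← pow_mul (p ^ h) 2 3]

theorem Sh.dvd {Y : Subgroup G} (h : Sh ε q Y) : Nat.card Y ∣ 2 * oL ε q := by
  obtain ⟨⟨k, ⟨j, hj⟩, h1⟩, -⟩ := h
  refine ⟨j, Nat.eq_of_mul_eq_mul_left (dd_pos ε q) ?_⟩
  calc dd ε q * (2 * oL ε q) = 2 * dd ε q * oL ε q := by ring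
    _ = k * oL ε q * j := by rw [hj]; ring
    _ = _ := by rw [← h1]; ring

/-- the Sylow `r`-subgroups are cyclic -/
def CS (r : ℕ) (G : Type) [Group G] : Prop := ∀ E : Subgroup G, IsPGroup r E → IsCyclic E

theorem CS.cyc (h : CS r G) {P : Type} [Group P] (hP : IsPGroup r P) (φ : P →* G) (hφ : Function.Injective φ) : IsCyclic P :=
  haveI := h φ.range (hP.of_surjective _ φ.rangeRestrict_surjective)
  isCyclic_of_injective φ.rangeRestrict fun _ _ k => hφ (congrArg Subtype.val k)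

theorem CS.idx [Finite G] {L : Subgroup G} [L.Normal] (h : CS r L) (hr : r.Prime) (h2 : r ≠ 2) (hi : L.index ∣ 2) : CS r G :=
  fun E hE => by
  have h1 : E ≤ L := fun x hx => by
    obtain ⟨j, hj⟩ := hE ⟨x, hx⟩
    have h3 : x ^ r ^ j = 1 := congrArg Subtype.val hj
    obtain ⟨m, hm⟩ := (hr.odd_of_ne_two h2).pow (n := j)
    obtain ⟨i, hi⟩ := hi
    rw [hm, pow_succ, hi, mul_assoc, pow_mul] at h3
    rw [eq_inv_of_mul_eq_one_right h3]
    exact inv_mem (pow_mem (L.pow_index_mem x) _)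
  exact h.cyc hE (inclusion h1) (inclusion_injective h1)

theorem cs_ree (h : IsNamed (.ree q) G) (hr : r.Prime) (h2 : r ≠ 2) (hd : r ∣ q - 1) : CS r G := fun E hE => by
  obtain ⟨K, _, _, m, hm, hK, rfl, ⟨e⟩⟩ := h.real
  obtain ⟨ρ, N⟩ := H947.El.exists_reeN m hm
  have h3 : r ≠ 3 := by
    rintro rfl
    have := eq_one_of_qm (ε := true) (by have := N.q27; omega) hd N.q3
    omega
  exact CS.cyc ((H947.El.reeF hm hK N).cyc r hr (by have := hr.two_le; omega)) hE (e.toMonoidHom.comp E.subtype)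
    (e.injective.comp E.subtype_injective)

variable [Finite G]

theorem cs_of {x : G} (hq : 2 ≤ q) (hr : r.Prime) (h2 : r ≠ 2) (hd : r ∣ qm (!ε) q) (hx : qm (!ε) q ∣ orderOf x)
    (hc : Nat.card G ∣ 2 * oL ε q) : CS r G := fun E hE => by
  refine cyc_of_elt hr (mem_top x) (((pow_dvd_pow r ?_).trans (Nat.ordProj_dvd _ _)).trans hx) le_top hE
  have h0 := (oL_pos hq ε).ne'
  have h1 := v_le hc (Nat.mul_ne_zero two_ne_zero h0) r
  rw [Nat.factorization_mul two_ne_zero h0, Finsupp.add_apply, fact_oL hq hr h2 hd, Nat.prime_two.factorization,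
    Finsupp.single_eq_of_ne h2, zero_add] at h1
  rwa [card_top]

theorem cs_LU (h : IsNamed (LU ε q) G) (hr : r.Prime) (h2 : r ≠ 2) (hd : r ∣ qm (!ε) q) : CS r G := by
  obtain ⟨x, hx⟩ := LU_xx h
  have hq := LU_two h
  obtain ⟨e, he⟩ := dd_dvd ε q
  refine cs_of (x := x) hq hr h2 hd ⟨e, Nat.eq_of_mul_eq_mul_left (dd_pos ε q) ?_⟩
    (LU_card h ▸ (dvd_mul_left _ _).mul_left _)
  rw [hx, ← qm_mul (by omega) ε, he]
  ring

theorem cs_Sh {Y : Subgroup G} (h : Sh ε q Y) (hq : 2 ≤ q) (hr : r.Prime) (h2 : r ≠ 2) (hd : r ∣ qm (!ε) q) : CS r Y := by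
  obtain ⟨x, hx, h1⟩ := h.2
  exact cs_of (x := (⟨x, hx⟩ : Y)) hq hr h2 hd (by rw [orderOf_mk, h1]) (Sh.dvd h)

/-- the hypothesis of `BoxST` -/
def Mx (Y : Subgroup G) : Prop := Y ≠ ⊤ ∧ ¬ Group.IsSolvable Y ∧
  ∀ E : Subgroup Y, E.Characteristic → E ≠ ⊥ → normalizer ((E.map Y.subtype : Subgroup G) : Set G) ≤ Y

/-- the list for a primitive prime of `p ^ (6 f) - 1` -/
def Y6 (p q : ℕ) (Y : Subgroup G) : Prop :=
  (Sh false q Y ∧ (3 ∣ q + 1 ∨ ∃ L : Subgroup Y, L.Normal ∧ IsNamed (.psu 3 q) L)) ∨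
    (p = 3 ∧ ∃ L : Subgroup Y, L.Normal ∧ IsNamed (.ree q) L ∧ L.index ∣ 2) ∨ (5 ≤ p ∧ ¬ p ^ 2 ∣ Nat.card Y) ∨
    (q = 3 ∧ ∃ k, k ∣ 6 ∧ (Nat.card Y = 168 * k ∨ Nat.card Y = 504 * k ∨ Nat.card Y = 1092 * k)) ∨
    (q = 4 ∧ Nat.card Y ∣ 6552) ∨ (p ≠ 2 ∧ Nat.card Y ∣ 2688)

/-- the list for the class `+` -/
def Y3 (p f : ℕ) (Y : Subgroup G) : Prop :=
  Sh true (p ^ f) Y ∨ (9 ≤ p ^ f ∧ ∃ k, k ∣ 2 ∧ Nat.card Y = k * oS true (p ^ f)) ∨ ¬ (p ^ f) ^ 3 ∣ Nat.card Y ∨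
    (p ^ f = 4 ∧ (Spor.IsoJ2 Y ∨ ∃ k, k ∣ 18 ∧ Nat.card Y = 6048 * k))

omit [Finite G] in
theorem lift {Y : Subgroup G} (hY : Y ≠ ⊤) {L : Subgroup Y} (hL : NS L) :
    L.map Y.subtype ≠ ⊤ ∧ NS (L.map Y.subtype) ∧ Nonempty (L ≃* L.map Y.subtype) := by
  have e := equivMapOfInjective L Y.subtype Y.subtype_injective
  have := hL.1
  exact ⟨fun h => hY (top_le_iff.1 (h ▸ map_subtype_le L)), ⟨e.symm.isSimpleGroup, fun hc => hL.2 ⟨⟨fun a b =>
    e.injective (by rw [map_mul, map_mul]; exact hc.is_comm.comm _ _)⟩⟩⟩, ⟨e⟩⟩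

theorem y6 (hE : BoxEX) (hp : p.Prime) (hf : 1 ≤ f) (hG : IsNamed (.g2 (p ^ f)) G) {Y : Subgroup G} (hY : Mx Y) {s : ℕ}
    (hs : Prim p (f * 6) s) (hd : s ∣ Nat.card Y) : Y6 p (p ^ f) Y := by
  have hs' : Cp false (p ^ f) s := H264.GN.prim_pow hf hs
  rcases boxST p f G hp hf hG Y false s hs' hd hY.2.1 hY.2.2 with h | ⟨L, hn, hL, hi, hr⟩ | h
  · exact Or.inl ⟨h.2, Or.inl h.1⟩
  swap
  · exact Or.inr (Or.inr (Or.inr (Or.inr (Or.inr h))))
  obtain ⟨h1, h2, ⟨e⟩⟩ := lift hY.1 hL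
  have hc := Nat.card_congr e.toEquiv
  have hm := L.card_mul_index
  obtain ⟨e1, -, e3, -⟩ := hE p f G hp hf hG Y L hn
  rcases boxS6 p f G hp hf hG _ h1 h2 s hs (hc ▸ (hr _ _ hs' hd).1) with h | ⟨h3, h⟩ | ⟨h5, h⟩ | ⟨h3, h⟩ | ⟨h4, h⟩
  · exact Or.inl ⟨e1 false (H394.Wei.named_congr h e), Or.inr ⟨L, hn, H394.Wei.named_congr h e⟩⟩
  · exact Or.inr (Or.inl ⟨h3, L, hn, H394.Wei.named_congr h e, e3 (H394.Wei.named_congr h e)⟩)
  · refine Or.inr (Or.inr (Or.inl ⟨h5, fun k => h ?_⟩))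
    rw [← hc]
    refine Nat.Coprime.dvd_of_dvd_mul_right (Nat.Coprime.pow_left 2 (hp.coprime_iff_not_dvd.2 fun k => ?_)) (hm ▸ k)
    rcases hp.dvd_mul.1 (k.trans hi) with h6 | h6
    · have h7 := Nat.le_of_dvd (by norm_num) h6
      interval_cases p
      · omega
      · exact absurd hp (by norm_num)
    · exact not_dvd_Nc hp hf h6
  · refine Or.inr (Or.inr (Or.inr (Or.inl ⟨h3, L.index, ?_, by rw [← hm, hc]; rcases h with h | h | h <;> rw [h] <;> omega⟩)))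
    rw [h3] at hi hr
    refine Nat.Coprime.dvd_of_dvd_mul_right (Nat.Coprime.symm ((by norm_num : Nat.Prime 7).coprime_iff_not_dvd.2 fun k => ?_)) hi
    exact (hr _ _ cp37 (k.trans L.index_dvd_card)).2 k
  · refine Or.inr (Or.inr (Or.inr (Or.inr (Or.inl ⟨h4, ?_⟩))))
    rw [h4] at hi hr
    rw [← hm, hc, h]
    refine mul_dvd_mul_left 1092 (Nat.Coprime.dvd_of_dvd_mul_right
      (Nat.Coprime.symm ((by norm_num : Nat.Prime 13).coprime_iff_not_dvd.2 fun k => ?_)) (show L.index ∣ 6 * 13 from hi))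
    exact (hr _ _ cp413 (k.trans L.index_dvd_card)).2 k

theorem y3 (hE : BoxEX) (hp : p.Prime) (hf : 1 ≤ f) (hG : IsNamed (.g2 (p ^ f)) G) {Y : Subgroup G} (hY : Mx Y)
    (hd : ∀ r, Cp true (p ^ f) r → r ∣ Nat.card Y) : Y3 p f Y := by
  obtain ⟨r, hr0⟩ := exists_prim (q := p ^ f) (e := 3) (two_le hp hf) le_rfl (by omega)
  rcases boxST p f G hp hf hG Y true r hr0 (hd r hr0) hY.2.1 hY.2.2 with h | ⟨L, hn, hL, hi, hr⟩ | h
  · exact Or.inl h.2
  swap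
  · exact Or.inr (Or.inr (Or.inl (not_cube hp hf h.1 h.2)))
  obtain ⟨h1, h2, ⟨e⟩⟩ := lift hY.1 hL
  have hc := Nat.card_congr e.toEquiv
  have hm := L.card_mul_index
  obtain ⟨e1, e2, -, e4⟩ := hE p f G hp hf hG Y L hn
  rcases boxS3 p f G hp hf hG _ h1 h2 (fun r hr' => hc ▸ (hr true r hr' (hd r hr')).1) with h | ⟨j, rfl, h⟩ | h | ⟨h4, h | h⟩
  · exact Or.inl (e1 true (H394.Wei.named_congr h e))
  · refine Or.inr (Or.inl ⟨?_, L.index, e2 j rfl (H394.Wei.named_congr h e), by rw [← hm, hc, half_card hp h, mul_comm]⟩)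
    rw [mul_comm, pow_mul]
    exact Nat.pow_le_pow_left (show 3 ≤ p ^ j from h.cond.1) 2
  · refine Or.inr (Or.inr (Or.inl fun k => h ?_))
    have h0 : Nat.card L ≠ 0 := Nat.card_pos.ne'
    have h3 : L.index ≠ 0 := index_ne_zero_of_finite
    have h4 : ¬ p ^ 2 ∣ L.index := fun k => by
      have h5 := Nat.le_of_dvd (by norm_num) (Nat.Coprime.dvd_of_dvd_mul_right
        (Nat.Coprime.pow_left 2 (hp.coprime_iff_not_dvd.2 (not_dvd_Nc hp hf))) (k.trans hi))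
      have h6 : p < 3 := lt_of_pow_lt_pow_left₀ 2 (by norm_num) (by omega)
      obtain rfl : p = 2 := by have := hp.two_le; omega
      exact ST.not_four (Nat.one_le_pow _ _ hp.pos) (k.trans hi)
    have h5 := v_lt hp h3 h4
    rw [← pow_mul, ← hm, hp.pow_dvd_iff_le_factorization (Nat.mul_ne_zero h0 h3), Nat.factorization_mul h0 h3,
      Finsupp.add_apply] at k
    rw [← pow_mul, ← hc, hp.pow_dvd_iff_le_factorization (Nat.mul_ne_zero hp.ne_zero h0),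
      Nat.factorization_mul hp.ne_zero h0, Finsupp.add_apply, hp.factorization_self]
    omega
  · obtain ⟨e5⟩ := h
    obtain rfl := e4 h4 ⟨e.trans e5⟩
    exact Or.inr (Or.inr (Or.inr ⟨h4, Or.inl ⟨(topEquiv.symm.trans e).trans e5⟩⟩))
  · refine Or.inr (Or.inr (Or.inr ⟨h4, Or.inr ⟨L.index, ?_, by rw [← hm, hc, h]⟩⟩))
    rw [h4] at hi hr
    refine Nat.Coprime.dvd_of_dvd_mul_right
      (Nat.Coprime.symm ((by norm_num : Nat.Prime 7).coprime_iff_not_dvd.2 fun k => ?_)) (show L.index ∣ 18 * 7 from hi)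
    exact (hr _ _ cp47 (k.trans L.index_dvd_card)).2 k

theorem oS_dvd (hq : 1 ≤ q) : oS ε q ∣ oL ε q := Dvd.intro _ (oL_eq hq ε).symm

theorem Y6.v {Y : Subgroup G} (h : Y6 p (p ^ f) Y) (hp : p.Prime) (hf : 1 ≤ f) : V p f (Nat.card Y) := by
  have h0 : Nat.card Y ≠ 0 := Nat.card_pos.ne'
  rcases h with ⟨h, -⟩ | ⟨-, L, -, h, hi⟩ | ⟨-, h⟩ | ⟨h, k, hk, h1⟩ | ⟨h, h1⟩ | h
  · exact v_two hp hf (Sh.dvd h)
  · refine v_two (ε := false) hp hf ?_
    rw [← L.card_mul_index, mul_comm, ree_card h]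
    exact mul_dvd_mul hi (oS_dvd (Nat.one_le_pow _ _ hp.pos))
  · have := v_lt hp h0 h
    exact ⟨by omega, fun _ => by omega⟩
  · obtain ⟨rfl, rfl⟩ := eq_three h
    have := Nat.le_of_dvd (by norm_num) hk
    have := v_lt hp h0 (k := 4) (by interval_cases k <;> omega)
    exact ⟨by omega, fun _ => by omega⟩
  · obtain ⟨rfl, rfl⟩ := eq_four hp hf h
    exact v_of hp h0 fun k => absurd (k.trans h1) (by norm_num)
  · exact v_of hp h0 (not_cube hp hf h.1 h.2)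

theorem Y3.v {Y : Subgroup G} (h : Y3 p f Y) (hp : p.Prime) (hf : 1 ≤ f) : V p f (Nat.card Y) := by
  have h0 : Nat.card Y ≠ 0 := Nat.card_pos.ne'
  rcases h with h | ⟨-, k, hk, h⟩ | h | ⟨h, h1⟩
  · exact v_two hp hf (Sh.dvd h)
  · exact v_two hp hf (h ▸ mul_dvd_mul hk (oS_dvd (Nat.one_le_pow _ _ hp.pos)))
  · exact v_of hp h0 h
  · obtain ⟨rfl, rfl⟩ := eq_four hp hf h
    refine ⟨Nat.lt_succ_iff.1 (v_lt hp h0 (k := 8) ?_), fun k => absurd rfl k⟩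
    rcases h1 with h1 | ⟨k, hk, h1⟩
    · rw [TAB.M5.j2_card h1]
      norm_num
    · exact fun h2 => absurd (h2.trans (h1 ▸ mul_dvd_mul_left 6048 hk)) (by norm_num)

variable {X Y : Subgroup G}

theorem Pd.val (h : Pd X Y) (hp : p.Prime) (hf : 1 ≤ f) (hG : IsNamed (.g2 (p ^ f)) G) :
    (Nat.card X).factorization p + (Nat.card Y).factorization p = 6 * f + (Nat.card ↥(X ⊓ Y)).factorization p := by
  rw [← Finsupp.add_apply, ← Nat.factorization_mul Nat.card_pos.ne' Nat.card_pos.ne', ← h.card,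
    Nat.factorization_mul Nat.card_pos.ne' Nat.card_pos.ne', Finsupp.add_apply, g2_card hG, v_oG hp hf]

omit [Finite G] in
theorem not_solv (h : Pd X Y) (hX : X ≠ ⊤) (hG : IsNamed (.g2 q) G) : ¬ Group.IsSolvable Y := fun hs => by
  obtain ⟨F, _, _, hF, ⟨e⟩⟩ := hG.real
  have h1 : X.map e.toMonoidHom ≠ ⊤ := fun k => hX (index_eq_one.1 ((index_map_equiv X e).symm.trans (index_eq_one.2 k)))
  obtain ⟨g, hg⟩ := S5933.result (F := F) chevG2 (by simp) (fun _ => hF ▸ hG.cond.1) (Y.map e.toMonoidHom) _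
    (Group.isSolvable_of_surjective (e.toMonoidHom.subgroupMap_surjective Y)) h1
  obtain ⟨y, hy, x, hx, k⟩ := (h.symm.map e.toMonoidHom e.surjective) g
  exact hg y hy x hx k

theorem parP (hp : p.Prime) (hG : IsNamed (.g2 (p ^ f)) G) (h4 : 4 ≤ p ^ f) : ParP p G := by
  obtain ⟨F, _, _, hF, ⟨e⟩⟩ := hG.real
  have := Fact.mk hp
  have := H420.GG.charP_of_card hp hF
  exact ((H396.CommTab.hasCG_G2 F p (H325.G2Small.exists_two_elts (by omega))).of_equiv e.symm).par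

theorem par (h : Pd X Y) (hX : X ≠ ⊤) (hY : Y ≠ ⊤) (hp : p.Prime) (hf : 1 ≤ f) (hG : IsNamed (.g2 (p ^ f)) G) (h5 : 5 ≤ p) :
    p ^ 2 ∣ Nat.card X := by
  by_contra h1
  have h2 : 5 ≤ p ^ f := h5.trans (Nat.le_self_pow (by omega) p)
  have h3 := H983.KG2.full_g2 (fun S _ _ _ hna => exists_named OrdDiv.table S0000.result fun k => hna ⟨⟨k⟩⟩) hp hf hG
    (M := X) fun r hr _ k => (parP hp hG (by omega)).elim (r := r)
      (hr.elim (S6.piso hp hG (Or.inl rfl)) (S6.piso hp hG (Or.inr rfl))) Y hY (fun k => h1 (k.trans h.index_dvd))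
      (k.trans h.symm.index_dvd)
  rcases h3 with h3 | ⟨h3, -⟩
  · exact hX h3
  · omega

theorem l1 (h : Pd X Y) (hp : p.Prime) (hG : IsNamed (.g2 (p ^ f)) G) (h5 : 5 ≤ p)
    (hX : 3 * f ≤ (Nat.card X).factorization p) (hY : 3 * f ≤ (Nat.card Y).factorization p) : p ∣ Nat.card ↥(X ⊓ Y) := by
  obtain ⟨F, _, _, hF, ⟨e⟩⟩ := hG.real
  have := Fact.mk hp
  have := H420.GG.charP_of_card hp hF
  have k : ∀ Z : Subgroup G, 3 * f ≤ (Nat.card Z).factorization p → ∃ P : Subgroup ↥(chevG2.group F),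
      IsPGroup p P ∧ Fintype.card F ^ 3 ≤ Nat.card P ∧ ∀ x ∈ P, e.symm x ∈ Z := fun Z hZ => by
    obtain ⟨P⟩ : Nonempty (Sylow p Z) := inferInstance
    refine ⟨((P : Subgroup Z).map Z.subtype).map e.toMonoidHom, (P.isPGroup'.map _).map _, ?_, ?_⟩
    · rw [card_map_of_injective e.injective, card_map_of_injective Z.subtype_injective, P.card_eq_multiplicity, hF, ← pow_mul]
      exact Nat.pow_le_pow_right hp.pos (by omega)
    · rintro _ ⟨_, ⟨z, -, rfl⟩, rfl⟩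
      exact (e.symm_apply_apply z).symm ▸ z.2
  obtain ⟨P, p1, p2, p3⟩ := k X hX
  obtain ⟨Q, q1, q2, q3⟩ := k Y hY
  obtain ⟨x, hx, x1, g, hg⟩ := boxL1 F p h5 P Q p1 q1 p2 q2
  have h1 := h.conj (e.symm g)⁻¹
  have h2 : Nat.card ↥(X ⊓ Y.map (MulAut.conj (e.symm g)⁻¹).toMonoidHom) = Nat.card ↥(X ⊓ Y) :=
    Nat.eq_of_mul_eq_mul_left Nat.card_pos (by
      rw [h1.card, h.card, card_map_of_injective (MulAut.conj (e.symm g)⁻¹).injective])
  have h3 : e.symm x ∈ X ⊓ Y.map (MulAut.conj (e.symm g)⁻¹).toMonoidHom :=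
    ⟨p3 x hx, _, q3 _ hg, by simp [mul_assoc]⟩
  obtain ⟨j, hj⟩ := p1 ⟨x, hx⟩
  obtain ⟨i, -, hi⟩ := (Nat.dvd_prime_pow hp).1 (orderOf_dvd_of_pow_eq_one (congrArg Subtype.val hj : x ^ p ^ j = 1))
  rw [← h2]
  refine (dvd_pow_self p fun h0 => x1 (orderOf_eq_one_iff.1 (by rw [hi, h0, pow_zero]))).trans
    (hi ▸ e.symm.orderOf_eq x ▸ Subgroup.orderOf_dvd_natCard _ h3)

end grp

end Cfsg.Agent.SM.Ex78.Id
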