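import Cfsg.Agent.SM.Ex78.Defs
import Cfsg.Agent.H921.Cov.JFacts

/-!
# SM (S3570), `S = G₂(4)`: the normaliser of a Sylow 5-subgroup is maximal in `J₂` (helper95)

`St P` : a self-centralising Sylow 5-subgroup of order 25. An element of order 3 of `N(P)` fixes no subgroup of order 5, so
the orbits of `N(P)` outside the fixed points of `P` have lengths divisible by 15 or by 25.
-/

set_option autoImplicit false
set_option linter.unusedSectionVars false

namespace Cfsg.Agent.SM.Ex78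

open Subgroup MulAction Cfsg.Agent.H921.Cov

namespace JM

variable {G : Type*} [Group G]

theorem f5 : Fact (Nat.Prime 5) := ⟨by norm_num⟩

/-- a self-centralising Sylow 5-subgroup of order 25 -/
structure St (P : Sylow 5 G) : Prop where
  card : Nat.card P = 25
  cen : centralizer ((P : Subgroup G) : Set G) ≤ P

/-- the normaliser -/
def Nm (P : Sylow 5 G) : Subgroup G := normalizer ((P : Subgroup G) : Set G)

theorem le_Nm (P : Sylow 5 G) : (P : Subgroup G) ≤ Nm P := le_normalizer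

theorem cj {P : Sylow 5 G} {w y : G} (hw : w ∈ Nm P) (hy : y ∈ (P : Subgroup G)) : w * y * w⁻¹ ∈ (P : Subgroup G) :=
  (mem_normalizer_iff.1 hw y).1 hy

theorem le_of_pg {P : Sylow 5 G} {Y : Subgroup G} (hY : Y ≤ Nm P) (h5 : IsPGroup 5 Y) : Y ≤ P := by
  have h := h5.inf_normalizer_sylow P
  intro y hy
  have h1 : y ∈ Y ⊓ (P : Subgroup G) := h ▸ (⟨hy, hY hy⟩ : y ∈ Y ⊓ normalizer (P : Set G))
  exact h1.2

theorem card_inf (K H : Subgroup G) : Nat.card ↥(K ⊓ H) * H.relIndex K = Nat.card K := by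
  have h := (H.subgroupOf K).card_mul_index
  rw [← Nat.card_congr (subgroupOfEquivOfLe (inf_le_left : K ⊓ H ≤ K)).toEquiv, inf_subgroupOf_left]
  exact h

theorem exists_ord [Finite G] {p : ℕ} (hp : p.Prime) {K : Subgroup G} (h : p ∣ Nat.card K) : ∃ x ∈ K, orderOf x = p := by
  have := Fact.mk hp
  obtain ⟨x, hx⟩ := exists_prime_orderOf_dvd_card' p h
  exact ⟨x, x.2, by rw [← hx, Subgroup.orderOf_coe]⟩

theorem exists_25 [Finite G] {K : Subgroup G} (h : 25 ∣ Nat.card K) : ∃ Y ≤ K, Nat.card Y = 25 := by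
  have := f5
  obtain ⟨Y, hY⟩ := Sylow.exists_subgroup_card_pow_prime 5 (n := 2) (G := K) h
  exact ⟨Y.map K.subtype, map_subtype_le Y, by rw [card_map_of_injective Subtype.val_injective, hY]; norm_num⟩

theorem Nm_sub {P : Sylow 5 G} {K : Subgroup G} (hK : (P : Subgroup G) ≤ K) : Nm (P.subtype hK) = (Nm P).subgroupOf K :=
  (subgroupOf_normalizer_eq hK).symm

/-- Sylow's count in an overgroup -/
theorem rel_mod [Finite G] {P : Sylow 5 G} {K : Subgroup G} (hK : (P : Subgroup G) ≤ K) : (Nm P).relIndex K % 5 = 1 := by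
  have := f5
  have h1 := card_sylow_modEq_one 5 K
  rw [(P.subtype hK).card_eq_index_normalizer] at h1
  have h2 : (Nm (P.subtype hK)).index % 5 = 1 := h1
  rwa [Nm_sub] at h2

/-- Sylow's conjugacy in an overgroup -/
theorem exists_smul [Finite G] {P Q : Sylow 5 G} {K : Subgroup G} (hP : (P : Subgroup G) ≤ K) (hQ : (Q : Subgroup G) ≤ K) :
    ∃ k ∈ K, k • P = Q := by
  have := f5
  obtain ⟨k, hk⟩ := exists_smul_eq K (P.subtype hP) (Q.subtype hQ)
  rw [Sylow.smul_subtype] at hk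
  exact ⟨k, k.2, Sylow.subtype_injective hk⟩

theorem mem_smul {P : Sylow 5 G} {g x : G} : x ∈ ((g • P : Sylow 5 G) : Subgroup G) ↔ g⁻¹ * x * g ∈ (P : Subgroup G) := by
  rw [Sylow.coe_subgroup_smul, mem_pointwise_smul_iff_inv_smul_mem]
  simp

namespace St

variable [Finite G] {P : Sylow 5 G} (h : St P)
include h

theorem comm {x y : G} (hx : x ∈ (P : Subgroup G)) (hy : y ∈ (P : Subgroup G)) : x * y = y * x := by
  have := f5
  have h1 := IsPGroup.isMulCommutative_of_card_eq_prime_sq (p := 5) (G := (P : Subgroup G)) h.card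
  exact congrArg Subtype.val (h1.is_comm.comm (⟨x, hx⟩ : (P : Subgroup G)) ⟨y, hy⟩)

theorem sub {K : Subgroup G} (hK : (P : Subgroup G) ≤ K) : St (P.subtype hK) where
  card := (Nat.card_congr (subgroupOfEquivOfLe hK).toEquiv).trans h.card
  cen := fun _ hx => h.cen (mem_centralizer_iff.2 fun y hy =>
    congrArg Subtype.val (mem_centralizer_iff.1 hx ⟨y, hK hy⟩ hy))

theorem other (Q : Sylow 5 G) : St Q := by
  have := f5
  obtain ⟨g, rfl⟩ := exists_smul_eq G P Q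
  refine ⟨(Nat.card_congr (P.equivSMul g).toEquiv).symm.trans h.card, fun x hx => mem_smul.2 (h.cen ?_)⟩
  refine mem_centralizer_iff.2 fun y hy => ?_
  have h1 := mem_centralizer_iff.1 hx (g * y * g⁻¹) (mem_smul.2 (by
    rw [show g⁻¹ * (g * y * g⁻¹) * g = y by group]
    exact hy))
  calc y * (g⁻¹ * x * g) = g⁻¹ * (g * y * g⁻¹ * x) * g := by group
    _ = g⁻¹ * x * g * y := by rw [h1]; group

theorem cases {Y : Subgroup G} (hY : Y ≤ P) : Y = ⊥ ∨ Nat.card Y = 5 ∨ Y = P := by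
  have h1 := card_dvd_of_le hY
  have h2 : Nat.card (P : Subgroup G) = 5 ^ 2 := h.card
  rw [h2] at h1
  obtain ⟨k, hk, h3⟩ := (Nat.dvd_prime_pow (by norm_num : Nat.Prime 5)).1 h1
  interval_cases k
  · exact Or.inl (card_eq_one.1 h3)
  · exact Or.inr (Or.inl h3)
  · exact Or.inr (Or.inr (eq_of_le_of_card_ge hY (by rw [h2, h3])))

theorem modw {w : G} (h3 : orderOf w = 3) {Y : Subgroup G} (hw : ∀ x ∈ Y, w * x * w⁻¹ ∈ Y) :
    Nat.card Y % 3 = Nat.card ↥(Y ⊓ centralizer {w}) % 3 := by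
  rw [← JA.centralizer_zpowers]
  refine JA.card_fix_mod (zpowers w) Y (IsPGroup.of_card (n := 1) (by rw [Nat.card_zpowers, h3, pow_one])) ?_
  have h1 : w ∈ normalizer (Y : Set G) := mem_normalizer_fintype hw
  intro a ha x hx
  exact (mem_normalizer_iff.1 (zpowers_le.2 h1 ha) x).1 hx

/-- an element of order 3 of the normaliser has no fixed points -/
theorem fix {w : G} (hw : w ∈ Nm P) (h3 : orderOf w = 3) : (P : Subgroup G) ⊓ centralizer {w} = ⊥ := by
  have h1 := h.modw h3 (Y := P) fun x hx => cj hw hx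
  have h2 : Nat.card (P : Subgroup G) = 25 := h.card
  rcases h.cases (inf_le_left : (P : Subgroup G) ⊓ centralizer {w} ≤ P) with h4 | h4 | h4
  · exact h4
  · rw [h2, h4] at h1
    omega
  · exfalso
    have h5 : w ∈ (P : Subgroup G) := h.cen (mem_centralizer_iff.2 fun y hy =>
      mem_centralizer_singleton_iff.1 (inf_eq_left.1 h4 hy))
    have h6 := JA.dvd_of_mem h5
    rw [h3, h2] at h6
    omega

theorem eq_one {w y : G} (hw : w ∈ Nm P) (h3 : orderOf w = 3) (hy : y ∈ (P : Subgroup G)) (hc : y * w = w * y) : y = 1 :=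
  mem_bot.1 (h.fix hw h3 ▸ (⟨hy, mem_centralizer_singleton_iff.2 hc⟩ : y ∈ (P : Subgroup G) ⊓ centralizer {w}))

/-- an element of order 3 of the normaliser fixes no subgroup of order 5 -/
theorem irr {w : G} (hw : w ∈ Nm P) (h3 : orderOf w = 3) {Y : Subgroup G} (hY : Y ≤ P) (hw' : ∀ x ∈ Y, w * x * w⁻¹ ∈ Y) :
    Y = ⊥ ∨ Y = P := by
  have h1 := h.modw h3 hw'
  have h2 : Y ⊓ centralizer {w} = ⊥ := le_bot_iff.1 (h.fix hw h3 ▸ inf_le_inf_right _ hY)
  rcases h.cases hY with h4 | h4 | h4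
  · exact Or.inl h4
  · rw [h2, h4, card_bot] at h1
    omega
  · exact Or.inr h4

/-- the lengths of the orbits -/
theorem orb (h3 : 3 ∣ Nat.card (Nm P)) {S : Subgroup G} (hS : ¬ (P : Subgroup G) ≤ S) :
    25 ∣ S.relIndex (Nm P) ∨ (15 ∣ S.relIndex (Nm P) ∧ (P : Subgroup G) ⊓ S ≠ ⊥) := by
  have := f5
  have h1 := card_inf (Nm P) S
  have h2 : 25 ∣ Nat.card (Nm P) := h.card ▸ card_dvd_of_le (le_Nm P)
  rw [← h1] at h2 h3
  by_cases hY : (P : Subgroup G) ⊓ S = ⊥
  · left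
    refine Nat.Coprime.dvd_of_dvd_mul_left ?_ h2
    refine Nat.Coprime.pow_left 2 ((Nat.Prime.coprime_iff_not_dvd (by norm_num : Nat.Prime 5)).2 fun h5 => ?_)
    obtain ⟨x, hx, hx5⟩ := exists_ord (by norm_num) h5
    have h4 : zpowers x ≤ P := le_of_pg (zpowers_le.2 hx.1)
      (IsPGroup.of_card (n := 1) (by rw [Nat.card_zpowers, hx5, pow_one]))
    have h6 : x = 1 := mem_bot.1 (hY ▸ (⟨h4 (mem_zpowers x), hx.2⟩ : x ∈ (P : Subgroup G) ⊓ S))
    rw [h6, orderOf_one] at hx5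
    omega
  · refine Or.inr ⟨Nat.Coprime.mul_dvd_of_dvd_of_dvd (by norm_num : Nat.Coprime 3 5) ?_ ?_, hY⟩
    · refine ((Nat.Prime.dvd_mul (by norm_num)).1 h3).resolve_left fun h4 => ?_
      obtain ⟨w, hw, hw3⟩ := exists_ord (by norm_num) h4
      rcases h.irr hw.1 hw3 (inf_le_left : (P : Subgroup G) ⊓ S ≤ P)
        (fun x hx => ⟨cj hw.1 hx.1, S.mul_mem (S.mul_mem hw.2 hx.2) (S.inv_mem hw.2)⟩) with h5 | h5
      · exact hY h5
      · exact hS (inf_eq_left.1 h5)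
    · by_contra h4
      have h5 : 25 ∣ Nat.card ↥(Nm P ⊓ S) := Nat.Coprime.dvd_of_dvd_mul_right
        (Nat.Coprime.pow_left 2 ((Nat.Prime.coprime_iff_not_dvd (by norm_num : Nat.Prime 5)).2 h4)) h2
      obtain ⟨Y, hY1, hY2⟩ := exists_25 h5
      have h6 : Y ≤ P := le_of_pg (hY1.trans inf_le_left) (IsPGroup.of_card (n := 2) hY2)
      have h7 : Y = P := eq_of_le_of_card_ge h6 (by rw [hY2]; exact h.card.le)
      exact hS (h7 ▸ hY1.trans inf_le_right)

omit h [Finite G] in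
theorem rel_eq {X : Type*} [MulAction G X] (N : Subgroup G) (x : X) :
    (stabilizer G x).relIndex N = Nat.card (orbit N x) := by
  rw [Nat.card_coe_set_eq, ← index_stabilizer]
  rfl

omit h in
theorem rel_le {X : Type*} [Finite X] [MulAction G X] (N : Subgroup G) (x : X) :
    0 < (stabilizer G x).relIndex N ∧ (stabilizer G x).relIndex N ≤ Nat.card X := by
  refine ⟨Nat.pos_of_ne_zero index_ne_zero_of_finite, ?_⟩
  rw [rel_eq]
  exact Nat.card_le_card_of_injective _ Subtype.val_injective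

/-- the degree of an action with one fixed point of `P` -/
theorem cnt (h3 : 3 ∣ Nat.card (Nm P)) {X : Type*} [Finite X] [MulAction G X] (x0 : X) (h0 : Nm P ≤ stabilizer G x0)
    (hx : ∀ x, (P : Subgroup G) ≤ stabilizer G x → x = x0) : ∃ a b, Nat.card X = 1 + (15 * a + 25 * b) := by
  classical
  have := Fintype.ofFinite (orbitRel.Quotient (Nm P) X)
  rw [Nat.card_congr (selfEquivSigmaOrbits (Nm P) X), Nat.card_sigma,
    ← Finset.add_sum_erase _ _ (Finset.mem_univ (Quotient.mk'' x0 : orbitRel.Quotient (Nm P) X))]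
  have h1 : (Quotient.mk'' x0 : orbitRel.Quotient (Nm P) X).out = x0 := by
    obtain ⟨n, hn⟩ := orbitRel_apply.1 (Quotient.mk_out' (s₁ := orbitRel (Nm P) X) x0)
    exact hn.symm.trans (h0 n.2)
  have h2 : ∃ a b, ∑ ω ∈ Finset.univ.erase (Quotient.mk'' x0 : orbitRel.Quotient (Nm P) X),
      Nat.card (orbit (Nm P) ω.out) = 15 * a + 25 * b := by
    refine Finset.sum_induction _ (fun n => ∃ a b, n = 15 * a + 25 * b) ?_ ⟨0, 0, rfl⟩ ?_
    · rintro _ _ ⟨a, b, rfl⟩ ⟨c, d, rfl⟩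
      exact ⟨a + c, b + d, by ring⟩
    · intro ω hω
      rw [← rel_eq]
      rcases h.orb h3 (S := stabilizer G ω.out) (fun h4 => Finset.ne_of_mem_erase hω (by
        rw [← hx _ h4, Quotient.out_eq'])) with ⟨b, hb⟩ | ⟨⟨a, ha⟩, -⟩
      · exact ⟨0, b, by omega⟩
      · exact ⟨a, 0, by omega⟩
  obtain ⟨a, b, h4⟩ := h2
  exact ⟨a, b, by rw [h4, h1, ← rel_eq, relIndex_eq_one.2 h0]⟩

omit h [Finite G] in
theorem stab_eq (Q : Sylow 5 G) : stabilizer G Q = Nm Q := Q.stabilizer_eq_normalizer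

theorem eq_of_le {Q : Sylow 5 G} (hQ : (P : Subgroup G) ≤ Nm Q) : Q = P :=
  Sylow.ext (eq_of_le_of_card_ge (le_of_pg hQ P.2) (((h.other Q).card.trans h.card.symm).le)).symm

theorem cnt_syl (h3 : 3 ∣ Nat.card (Nm P)) : ∃ a b, (Nm P).index = 1 + (15 * a + 25 * b) := by
  have := f5
  have h1 := h.cnt h3 P (stab_eq P).ge fun Q hQ => h.eq_of_le (stab_eq Q ▸ hQ)
  rwa [P.card_eq_index_normalizer] at h1

theorem cnt_quot (h3 : 3 ∣ Nat.card (Nm P)) {K : Subgroup G} (hK : Nm P ≤ K) : ∃ a b, K.index = 1 + (15 * a + 25 * b) := by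
  refine h.cnt h3 ((1 : G) : G ⧸ K) (by rw [stabilizer_quotient]; exact hK) fun x hx => ?_
  obtain ⟨g, rfl⟩ := QuotientGroup.mk_surjective x
  have h1 : ((g⁻¹ • P : Sylow 5 G) : Subgroup G) ≤ K := fun y hy => by
    have h2 := QuotientGroup.eq.1 (mem_stabilizer_iff.1 (hx (mem_smul.1 hy))).symm
    simpa [mul_assoc] using h2
  obtain ⟨k, hk, h2⟩ := exists_smul ((le_Nm P).trans hK) h1
  have h4 : g * k ∈ Nm P := Sylow.smul_eq_iff_mem_normalizer.1 (by rw [mul_smul, h2, smul_inv_smul])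
  refine (QuotientGroup.eq.2 ?_).symm
  simpa using K.mul_mem (hK h4) (K.inv_mem hk)

/-- there are not 16 Sylow subgroups -/
theorem not16 (hN : Nat.card (Nm P) = 300) (h16 : (Nm P).index = 16) : False := by
  have := f5
  have h3 : 3 ∣ Nat.card (Nm P) := by rw [hN]; norm_num
  have hX : Nat.card (Sylow 5 G) = 16 := P.card_eq_index_normalizer.trans h16
  have hG : Nat.card G = 4800 := by rw [← (Nm P).card_mul_index, hN, h16]
  have : Nontrivial (Sylow 5 G) := Finite.one_lt_card_iff_nontrivial.1 (by omega)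
  obtain ⟨Q, hQ⟩ := exists_ne P
  have h1 := rel_le (Nm P) Q
  rw [stab_eq, hX] at h1
  obtain ⟨h15, hY⟩ := (h.orb h3 fun h2 => hQ (h.eq_of_le h2)).resolve_left (by omega)
  have hD : Nat.card ↥(Nm P ⊓ Nm Q) = 20 := by
    have h2 := card_inf (Nm P) (Nm Q)
    have h4 : (Nm Q).relIndex (Nm P) = 15 := by omega
    rw [h4, hN] at h2
    omega
  obtain ⟨Y, hYd⟩ : ∃ Y, Y = (P : Subgroup G) ⊓ Nm Q := ⟨_, rfl⟩
  rw [← hYd] at hY
  have hYP : Y ≤ P := hYd ▸ inf_le_left
  have hYQ : Y ≤ Q := le_of_pg (hYd ▸ inf_le_right) (P.2.to_le hYP)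
  obtain ⟨M, hM⟩ : ∃ M, M = normalizer (Y : Set G) := ⟨_, rfl⟩
  have hc : ∀ R : Sylow 5 G, Y ≤ R → (R : Subgroup G) ≤ M := fun R hR x hx =>
    hM ▸ mem_normalizer_fintype fun y hy => by
      rw [(h.other R).comm hx (hR hy), mul_inv_cancel_right]
      exact hy
  have hDM : Nm P ⊓ Nm Q ≤ M ⊓ Nm P := fun x hx => ⟨hM ▸ mem_normalizer_fintype fun y hy => by
      rw [hYd] at hy ⊢
      exact ⟨cj hx.1 hy.1, (Nm Q).mul_mem ((Nm Q).mul_mem hx.2 hy.2) ((Nm Q).inv_mem hx.2)⟩, hx.1⟩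
  have h4 : 20 ∣ Nat.card ↥(M ⊓ Nm P) := hD ▸ card_dvd_of_le hDM
  have h5 : 25 ∣ Nat.card ↥(M ⊓ Nm P) := h.card ▸ card_dvd_of_le (le_inf (hc P hYP) (le_Nm P))
  have h6 : 100 ≤ Nat.card ↥(M ⊓ Nm P) := by
    have : 0 < Nat.card ↥(M ⊓ Nm P) := Nat.card_pos
    omega
  have h7 : 6 ≤ (Nm P).relIndex M := by
    have h8 := rel_mod (hc P hYP)
    have h9 : (Nm P).relIndex M ≠ 1 := fun h9 =>
      hQ ((h.other Q).eq_of_le ((hc Q hYQ).trans (relIndex_eq_one.1 h9))).symm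
    omega
  have h8 : M.index ≤ 8 := by
    have h9 := M.card_mul_index
    have h10 := Nat.mul_le_mul h6 h7
    rw [card_inf] at h10
    have h11 := Nat.mul_le_mul_right M.index h10
    omega
  have hPL : (P : Subgroup G) ≤ M.normalCore := fun x hx b => by
    have h9 : (P : Subgroup G) ≤ stabilizer G ((b⁻¹ : G) : G ⧸ M) := by
      by_contra h9
      have h10 := rel_le (Nm P) ((b⁻¹ : G) : G ⧸ M)
      have h11 : Nat.card (G ⧸ M) = M.index := rfl
      rcases h.orb h3 h9 with h12 | ⟨h12, -⟩ <;> omega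
    have h10 := QuotientGroup.eq.1 (mem_stabilizer_iff.1 (h9 hx)).symm
    simpa [mul_assoc] using h10
  have hQL : (Q : Subgroup G) ≤ M.normalCore := by
    obtain ⟨g, rfl⟩ := exists_smul_eq G P Q
    intro x hx
    have h9 := M.normalCore_normal.conj_mem _ (hPL (mem_smul.1 hx)) g
    simpa [mul_assoc] using h9
  let W : Subgroup G := {
    carrier := {x | ∀ l ∈ M.normalCore, l * x * l⁻¹ ∈ (P : Subgroup G)}
    mul_mem' := fun {a b} ha hb l hl => by
      have h9 := (P : Subgroup G).mul_mem (ha l hl) (hb l hl)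
      rwa [conj_mul] at h9
    one_mem' := fun l _ => by simp
    inv_mem' := fun {a} ha l hl => by
      have h9 := (P : Subgroup G).inv_mem (ha l hl)
      rwa [conj_inv] at h9 }
  obtain ⟨w, hw, hw3⟩ := exists_ord (by norm_num) h3
  have hYW : Y ≤ W := fun y hy l hl => hYP ((mem_normalizer_iff.1 (hM ▸ M.normalCore_le hl) y).1 hy)
  rcases h.irr hw hw3 (Y := W) (fun x hx => by simpa using hx 1 (one_mem _)) (fun x hx l hl => by
    have h9 := cj hw (hx (w⁻¹ * l * w⁻¹⁻¹) (M.normalCore_normal.conj_mem l hl _))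
    have h10 : l * (w * x * w⁻¹) * l⁻¹ = w * (w⁻¹ * l * w⁻¹⁻¹ * x * (w⁻¹ * l * w⁻¹⁻¹)⁻¹) * w⁻¹ := by group
    rw [h10]
    exact h9) with h9 | h9
  · exact hY (le_bot_iff.1 (h9 ▸ hYW))
  · refine hQ ((h.other Q).eq_of_le fun x hx => mem_normalizer_fintype fun y hy => ?_).symm
    exact (h9.ge hy : y ∈ W) x (hQL hx)

theorem coatom (hN : Nat.card (Nm P) = 300) (hG : Nat.card G = 604800) (lb : ∀ M : Subgroup G, M ≠ ⊤ → 32 ≤ M.index) :
    IsCoatom (Nm P) := by
  refine ⟨fun h1 => ?_, fun K hK => ?_⟩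
  · rw [h1, card_top, hG] at hN
    omega
  by_contra hK'
  have h1 := lb K hK'
  obtain ⟨a, b, h2⟩ := h.cnt_quot (by rw [hN]; norm_num) hK.le
  have hP : (P : Subgroup G) ≤ K := (le_Nm P).trans hK.le
  have h3 : Nat.card (Nm (P.subtype hP)) = 300 := by
    rw [Nm_sub]
    exact (Nat.card_congr (subgroupOfEquivOfLe hK.le).toEquiv).trans hN
  have h4 : (Nm (P.subtype hP)).index = (Nm P).relIndex K := by
    rw [Nm_sub]
    rfl
  obtain ⟨c, d, h5⟩ := (h.sub hP).cnt_syl (by rw [h3]; norm_num)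
  have h6 : (Nm P).relIndex K ≠ 16 := fun h6 => (h.sub hP).not16 h3 (h4.trans h6)
  have h7 : (Nm P).relIndex K ≠ 1 := fun h7 => hK.not_ge (relIndex_eq_one.1 h7)
  have h8 := relIndex_mul_index hK.le
  have h9 := (Nm P).card_mul_index
  rw [hN, hG] at h9
  rw [h4] at h5
  generalize (Nm P).relIndex K = k at *
  have h10 : k ≤ 63 := by
    have := Nat.mul_le_mul_left k h1
    omega
  interval_cases k <;> omega

end St

theorem st_J [Finite G] (hJ : Spor.IsoJ2 G) (P : Sylow 5 G) : St P ∧ Nat.card (Nm P) = 300 ∧ Nat.card G = 604800 := by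
  obtain ⟨z, u, f, d, U, V, H0, D⟩ := JA.exists_dt hJ
  obtain ⟨h1, h2, h3⟩ := JA.P_facts D P
  exact ⟨⟨h2, h1.le⟩, h3, JA.card_T D⟩

end JM

/-- **The normaliser of a Sylow 5-subgroup is a maximal subgroup of `J₂`.** -/
theorem boxJM : BoxJM := fun _ _ _ hJ P =>
  (JM.st_J hJ P).1.coatom (JM.st_J hJ P).2.1 (JM.st_J hJ P).2.2 (JA.lb hJ)

end Cfsg.Agent.SM.Ex78
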