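import Cfsg.Agent.SM.Ex78.Defs
import Cfsg.Agent.H957.EPX.G2List
import Cfsg.Agent.H444.G2S.Cases
import Cfsg.Agent.H659.O8.Named
import Cfsg.Agent.H420.Rg.GG
import Cfsg.Agent.H74.PisoG2
import Cfsg.Agent.H396.CommTab2
import Cfsg.Agent.H325.Same.ExcRow2
import Cfsg.Agent.H394.Wei.CharG3
import Cfsg.Agent.OrdDiv.Table
import Cfsg.Agent.S0000

/-!
# SM (S3570), `S = G₂(q)`: simple subgroups which contain a primitive prime of `p ^ (6 f) - 1` (helper84)

`S6.split` (a name of characteristic `p`, or the list `Cross`), `boxS6 : BoxS6`.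
-/

set_option autoImplicit false

namespace Cfsg.Agent.SM.Ex78

open Cfsg Cfsg.Lie Subgroup Cfsg.Agent.OrdDiv Cfsg.Agent.H436 Cfsg.Agent.H915.GN Cfsg.Agent.H264.GN Cfsg.Agent.H264.FKS
  Cfsg.Agent.H325.Same
open Cfsg.Agent.H325.Loc (PIso)

namespace S6

/-- the orders of the simple subgroups which are not of Lie type in characteristic `p` -/
def Cross (p : ℕ) (L : Type) [Group L] : Prop :=
  Nat.card L ∈ [60, 660, 1092] ∨ (p ≠ 3 ∧ Nat.card L ∈ [360, 6048]) ∨ (p ≠ 2 ∧ Nat.card L ∈ [168, 504, 1451520]) ∨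
    (5 ≤ p ∧ Nat.card L ∈ [2520, 25920, 175560]) ∨ (p = 3 ∧ Nat.card L ∈ [7920, 95040]) ∨
    (p = 2 ∧ Spor.IsoJ2 L ∧ Nat.card L = 604800)

variable {p f : ℕ} {G : Type} [Group G] [Finite G]

theorem card_L {q n : ℕ} {L : Type} [Group L] (h : H912.Bd.IsL 2 q L) (h1 : fPSL.num 2 q = fPSL.den 2 q * n)
    (h0 : 0 < fPSL.den 2 q) : Nat.card L = n := by
  obtain ⟨K, _, _, rfl, ⟨e⟩⟩ := h
  rw [Nat.card_congr e.toEquiv]
  exact Nat.eq_of_mul_eq_mul_left h0 ((psl_eq le_rfl).trans h1)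

theorem card_U {m q n : ℕ} {L : Type} [Group L] (h : H912.Bd.IsU m q L) (hm : 3 ≤ m) (h1 : fPSU.num m q = fPSU.den m q * n)
    (h0 : 0 < fPSU.den m q) : Nat.card L = n := by
  obtain ⟨K, _, _, hK, ⟨e⟩⟩ := h
  rw [Nat.card_congr e.toEquiv]
  exact Nat.eq_of_mul_eq_mul_left h0 ((psu_eq hK hm).trans h1)

theorem split (hp : p.Prime) (hG : IsNamed (.g2 (p ^ f)) G) {L : Subgroup G} (hL : NS L) :
    (∃ g, IsNamed g L ∧ HasChar p g) ∨ Cross p L := by
  by_cases h : IsLieTypeChar p L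
  · exact Or.inl (H659.O8.named_of_lie hp h)
  right
  obtain ⟨F, _, _, hF, ⟨e⟩⟩ := hG.real
  have := Fact.mk hp
  have := H420.GG.charP_of_card hp hF
  have := hL.1
  have hna : ∃ a b : L, a * b ≠ b * a := by
    by_contra hc
    push Not at hc
    exact hL.2 ⟨⟨hc⟩⟩
  have hf : Function.Injective (e.toMonoidHom.comp L.subtype) := e.injective.comp L.subtype_injective
  unfold Cross
  by_cases hs : IsSporadicGroup L
  · rcases H444.G2S.spor_cases (p := p) hna (e.toMonoidHom.comp L.subtype) (fun h2 => by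
      obtain ⟨a, b, hab⟩ := hna
      exact hab (hf (by rw [h2]; rfl))) hs with ⟨rfl, h1 | h1⟩ | ⟨rfl, h1⟩ | ⟨rfl, h1⟩
    · simp [table_spor L (.m11, 7920) (by decide) h1]
    · simp [table_spor L (.m12, 95040) (by decide) h1]
    · simp [table_spor L (.j1, 175560) (by decide) h1]
    · simp [table_spor L (.j2, 604800) (by decide) h1, h1]
  · have h2 : ∀ c, 5 ≤ c → Nonempty (L ≃* alternatingGroup (Fin c)) → Nat.card L = c.factorial / 2 := fun c hc ⟨d⟩ =>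
      eq_div Nat.two_pos (alt_card hc d).symm
    rcases H957.EPX.g2_list hna _ hf S0000.result hs h with h1 | ⟨h3, h1⟩ | ⟨rfl, h1⟩ | ⟨h3, -, h1⟩ | ⟨h3, h1⟩ | ⟨-, h1⟩ | ⟨-, h1⟩ |
      ⟨h3, h1⟩ | ⟨h3, h4, h1⟩ | ⟨h3, K, _, _, hK, ⟨d⟩⟩
    · simp [h2 5 le_rfl h1, Nat.factorial]
    · simp [h2 6 (by norm_num) h1, Nat.factorial, h3]
    · simp [h2 7 (by norm_num) h1, Nat.factorial]
    · simp [card_L (n := 168) h1 (by decide +kernel) (by decide +kernel), h3]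
    · simp [card_L (n := 504) h1 (by decide +kernel) (by decide +kernel), h3]
    · simp [card_L (n := 660) h1 (by decide +kernel) (by decide +kernel)]
    · simp [card_L (n := 1092) h1 (by decide +kernel) (by decide +kernel)]
    · simp [card_U (n := 6048) h1 le_rfl (by decide +kernel) (by decide +kernel), h3]
    · simp [card_U (n := 25920) h1 (by norm_num) (by decide +kernel) (by decide +kernel), hp.five_le_of_ne_two_of_ne_three h3 h4]
    · have h4 := psp_eq (F := K) (m := 3) (by norm_num)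
      rw [hK, ← Nat.card_congr d.toEquiv] at h4
      have h5 : Nat.card L = 1451520 := (eq_div (by decide +kernel) h4).trans (by decide +kernel)
      simp [h5, h3]

theorem Cross.sq {L : Type} [Group L] (h : Cross p L) (hp : p.Prime) (h5 : 5 ≤ p) : ¬ p ^ 2 ∣ Nat.card L := by
  have h1 : Nat.card L ∣ 2 ^ 9 * 3 ^ 4 * 95095 := by
    simp only [Cross, List.mem_cons, List.not_mem_nil, or_false] at h
    rcases h with (h | h | h) | ⟨-, h | h⟩ | ⟨-, h | h | h⟩ | ⟨-, h | h | h⟩ | ⟨-, h | h⟩ | ⟨h, -⟩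
    all_goals first | omega | (rw [h]; norm_num)
  intro h2
  have h3 : ∀ r : ℕ, r.Prime → r < 5 → ∀ k, (p ^ 2).Coprime (r ^ k) := fun r hr h4 k =>
    ((Nat.coprime_primes hp hr).2 (by omega)).pow _ _
  have h4 := ((h3 2 Nat.prime_two (by norm_num) 9).mul_right (h3 3 Nat.prime_three (by norm_num) 4)).dvd_of_dvd_mul_left
    (h2.trans h1)
  have h6 := Nat.le_of_dvd (by norm_num) h4
  exact (by decide +kernel : ∀ k < 309, 5 ≤ k → ¬ k ^ 2 ∣ 95095) p (by nlinarith) h5 h4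

theorem piso (hp : p.Prime) (hG : IsNamed (.g2 (p ^ f)) G) {d r : ℕ} (hd : d = 3 ∨ d = 6) (hr : Prim (p ^ f) d r) : PIso p r G := by
  obtain ⟨F, _, _, hF, ⟨e⟩⟩ := hG.real
  have := Fact.mk hp
  have := H420.GG.charP_of_card hp hF
  exact (H74.PisoG2.piso_G2 (by rw [hF]; exact hG.cond.1) hd (hF ▸ hr)).congr e.symm

theorem dvd_num (hG : IsNamed (.g2 (p ^ f)) G) (L : Subgroup G) : Nat.card L ∣ num (.g2 (p ^ f)) :=
  hG.eq ▸ (card_subgroup_dvd_card L).mul_left _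

theorem not_g2 (hG : IsNamed (.g2 (p ^ f)) G) {L : Subgroup G} (hL : L ≠ ⊤) : ¬ IsNamed (.g2 (p ^ f)) L := fun h =>
  hL (eq_top_of_card_eq L (h.ord.trans hG.ord.symm))

theorem not_psl (hp : p.Prime) (hG : IsNamed (.g2 (p ^ f)) G) (L : Subgroup G) : ¬ IsNamed (.psl 2 (p ^ (3 * f))) L := fun h => by
  have h3 : 3 ≤ p ^ f := hG.cond.1
  obtain ⟨r, hr⟩ := exists_prim (q := p ^ f) (e := 3) (by omega) le_rfl (by omega)
  exact H420.GG.kill_psl2 hp h hr ((piso hp hG (Or.inl rfl) hr).sub L)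

theorem all_six {g : Grp} {c : ℕ} (hp : p.Prime) (hf : 1 ≤ f) (h21 : ¬ (p = 2 ∧ f = 1)) (hg : Cond g) (hch : HasChar p g)
    (hc : den g * c = num g) (hdvd : c ∣ num (.g2 (p ^ f))) {r : ℕ} (hr : Prim p (f * 6) r) (hrc : r ∣ c) :
    ∀ s, Prim p (f * 6) s → s ∣ c := by
  obtain ⟨f₁, hf₁, hfl, hK, hY⟩ := kd_all hp hg hch hc
  have hT := td_g2 hp hf hdvd
  have hM2 := two_le_Mg hg hch
  have hle : f * 6 ≤ f₁ * Mg g := by
    obtain ⟨x, hx, hx2⟩ := hK.exp hr hrc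
    have hx3 := hK.le hx
    exact (Nat.le_of_dvd (Nat.mul_pos (by omega) (by omega)) hx2).trans (Nat.mul_le_mul_left _ hx3.2)
  obtain ⟨t, ht⟩ := exists_prim (q := p) (e := f₁ * Mg g) hp.two_le (by omega) (by omega)
  obtain ⟨i, hi, hi2⟩ := hT.exp ht (hK.has hY (by omega) ht)
  have hi' : i ∈ [2, 6] := hi
  simp only [List.mem_cons, List.not_mem_nil, or_false] at hi'
  have hM : f₁ * Mg g = f * 6 := by
    rcases hi' with rfl | rfl
    all_goals
      have := Nat.le_of_dvd (by omega) hi2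
      omega
  intro s hs
  rw [← hM] at hs
  exact hK.has hY (by omega) hs

theorem not_tf4 {h : ℕ} (h0 : 1 ≤ h) (hG : IsNamed (.g2 (2 ^ (2 * h))) G) {L : Subgroup G} (hL : L ≠ ⊤) {s : ℕ}
    (hs : Prim (2 ^ (2 * h)) 6 s) (hsL : s ∣ Nat.card L) : ¬ IsNamed (.tf4 (2 ^ h)) L := fun hn => by
  have hP : H396.Par 2 G := by
    obtain ⟨F, _, _, hF, ⟨e⟩⟩ := hG.real
    have := H420.GG.charP_of_card Nat.prime_two hF
    refine ((H396.CommTab.hasCG_G2 F 2 ?_).of_equiv e.symm).par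
    classical
    have h4 : 2 ^ 2 ≤ Fintype.card F := hF ▸ Nat.pow_le_pow_right (by norm_num) (by omega)
    have h1 : 1 < ((Finset.univ : Finset F) \ {0, 1}).card := by
      rw [Finset.card_univ_diff, Finset.card_pair zero_ne_one]
      omega
    obtain ⟨a, ha, b, hb, hab⟩ := Finset.one_lt_card.1 h1
    simp only [Finset.mem_sdiff, Finset.mem_univ, Finset.mem_insert, Finset.mem_singleton, true_and, not_or] at ha hb
    exact ⟨a, b, ha.1, ha.2, hb.1, hb.2, hab⟩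
  refine H56.Exc.ParP.elim hP (piso Nat.prime_two hG (Or.inr rfl) hs) L hL (fun h3 => ?_) hsL
  have h1 : 1 * Nat.card L = (2 ^ h) ^ 12 * _ := hn.eq
  have h2 : 1 * Nat.card G = (2 ^ (2 * h)) ^ 6 * (((2 ^ (2 * h)) ^ 2 - 1) * ((2 ^ (2 * h)) ^ 6 - 1)) := hG.eq
  have h4 : (2 ^ h) ^ 12 * 2 ∣ Nat.card G := by
    rw [← L.card_mul_index, ← one_mul (Nat.card L), h1]
    exact mul_dvd_mul (dvd_mul_right _ _) ((dvd_pow_self 2 two_ne_zero).trans h3)
  rw [← one_mul (Nat.card G), h2, show (2 ^ (2 * h)) ^ 6 = (2 ^ h) ^ 12 by ring] at h4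
  have h5 : ∀ n, 1 ≤ n → ¬ 2 ∣ 2 ^ n - 1 := fun n hn h6 => by
    have h7 : 2 ∣ 2 ^ n := dvd_pow_self 2 (by omega)
    have h8 : 0 < 2 ^ n := by positivity
    omega
  rcases Nat.prime_two.dvd_mul.1 (Nat.dvd_of_mul_dvd_mul_left (by positivity) h4) with h6 | h6
  all_goals
    rw [← pow_mul] at h6
    exact h5 _ (by omega) h6

theorem not_sz {h : ℕ} (h0 : 1 ≤ h) (hG : IsNamed (.g2 (2 ^ (2 * h))) G) (L : Subgroup G) : ¬ IsNamed (.sz (2 ^ (3 * h))) L :=
  fun hn => by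
  obtain ⟨r, hr⟩ := exists_prim (q := 2 ^ h) (e := 3) (Nat.le_self_pow (by omega) 2) le_rfl (by omega)
  have h1 := H394.Wei.prim3_pow (Or.inl rfl) hr
  rw [← pow_mul, mul_comm] at h1
  obtain ⟨F, _, _, m, hm, hF, hq, ⟨e⟩⟩ := hn.real
  refine sz_not_piso hm (hF.trans hq) ?_ (((piso Nat.prime_two hG (Or.inl rfl) h1).sub L).congr e)
  rw [← hq, mul_comm, pow_mul]
  exact hr.dvd dvd_rfl

end S6

open S6 in
/-- **[S6]** -/
theorem boxS6 : BoxS6 := by
  intro p f G _ _ hp hf hG L hL hS s hs hsL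
  have h3 : 3 ≤ p ^ f := hG.cond.1
  have h21 : ¬ (p = 2 ∧ f = 1) := by
    rintro ⟨rfl, rfl⟩
    omega
  rcases split hp hG hS with ⟨g, hg, hch⟩ | h
  · rcases H394.Wei.charp_g2_6 hp hf h21 hg.cond hch hg.eq (dvd_num hG L)
      (all_six hp hf h21 hg.cond hch hg.eq (dvd_num hG L) hs hsL) with rfl | rfl | rfl | ⟨h1, rfl⟩ | ⟨rfl, h, rfl, rfl | rfl⟩
    · exact absurd hg (not_g2 hG hL)
    · exact absurd hg (not_psl hp hG L)
    · exact Or.inl hg
    · exact Or.inr (Or.inl ⟨h1, hg⟩)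
    · exact absurd hg (not_tf4 (by omega) hG hL (prim_pow hf hs) hsL)
    · exact absurd hg (not_sz (by omega) hG L)
  by_cases h5 : 5 ≤ p
  · exact Or.inr (Or.inr (Or.inl ⟨h5, h.sq hp h5⟩))
  refine Or.inr (Or.inr (Or.inr ?_))
  simp only [Cross, List.mem_cons, List.not_mem_nil, or_false, h5, false_and, false_or] at h
  have h1 : s ≤ 13 := by
    refine hs.prime.dvd_factorial.1 (hsL.trans ?_)
    rcases h with (h | h | h) | ⟨-, h | h⟩ | ⟨-, h | h | h⟩ | ⟨-, h | h⟩ | ⟨-, -, h⟩ <;> rw [h] <;> decide +kernel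
  have h2 := lt_of_prim hs
  have h4 : 6 ∣ s - 1 := (Dvd.intro_left f rfl).trans ((hs.dvd_iff _).1 ((Nat.modEq_iff_dvd' (Nat.one_le_pow _ _ hp.pos)).1
    (Nat.totient_prime hs.prime ▸ Nat.ModEq.pow_totient ((Nat.Prime.coprime_iff_not_dvd hs.prime).2 hs.not_dvd).symm).symm))
  have h6 := fun m => (hs.dvd_iff m).1
  have h7 : p = 2 ∨ p = 3 := by
    have := hp.two_le
    have h8 : p ≠ 4 := by
      rintro rfl
      exact absurd hp (by norm_num)
    omega
  have h8 := dvd_num hG L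
  obtain rfl | rfl : s = 7 ∨ s = 13 := by omega
  · rcases h7 with rfl | rfl
    · exact absurd (Nat.le_of_dvd (by norm_num) (h6 3 (by norm_num))) (by omega)
    · obtain rfl : f = 1 := by omega
      have h9 : Nat.card L ∣ 4245696 := h8.trans (dvd_of_eq (by decide +kernel))
      refine Or.inl ⟨rfl, ?_⟩
      generalize Nat.card L = n at *
      have h10 : n ≠ 1451520 := by
        rintro rfl
        exact absurd h9 (by norm_num)
      rcases h with h | ⟨h, -⟩ | ⟨-, h⟩ | ⟨-, h⟩ | ⟨h, -⟩ <;> omega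
  · rcases h7 with rfl | rfl
    · obtain rfl : f = 2 := by omega
      refine Or.inr ⟨rfl, ?_⟩
      generalize Nat.card L = n at *
      rcases h with h | ⟨-, h⟩ | ⟨h, -⟩ | ⟨h, -⟩ | ⟨-, -, h⟩ <;> omega
    · exact absurd (Nat.le_of_dvd (by norm_num) (h6 3 (by norm_num))) (by omega)

end Cfsg.Agent.SM.Ex78
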