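import Cfsg.Agent.SM.Ex78.LU
import Cfsg.Agent.H947.El.Ree
import Cfsg.Agent.S1219
import Cfsg.Agent.S2357
import Cfsg.Agent.S2359

/-!
# SM (S3570), `G₂(q)`: the boxes `BoxTI`, `BoxTU` (helper78)
-/

set_option autoImplicit false

namespace Cfsg.Agent.SM.Ex78

open Cfsg Cfsg.Lie Subgroup Cfsg.Agent.OrdDiv Cfsg.Agent.H436 Cfsg.Agent.H946.Num

section tool

variable {Γ : Type} [Group Γ] [Finite Γ] {M S H T B A : Subgroup Γ} {c : Γ} {r : ℕ}

theorem idx_two (hc : c ∈ A) (h : Nat.card A ∣ 2 * orderOf c) : ((zpowers c).subgroupOf A).index ∣ 2 := by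
  have h1 := ((zpowers c).subgroupOf A).card_mul_index
  rw [Nat.card_congr (subgroupOfEquivOfLe (zpowers_le.2 hc)).toEquiv, Nat.card_zpowers] at h1
  rw [← h1, mul_comm 2] at h
  exact Nat.dvd_of_mul_dvd_mul_left (orderOf_pos c) h

theorem mul_mem_of (hc : c ∈ A) (h : Nat.card A ∣ 2 * orderOf c) {a b : Γ} (ha : a ∈ A) (hb : b ∈ A)
    (hab : a ∈ zpowers c ↔ b ∈ zpowers c) : a * b ∈ zpowers c := by
  rcases (Nat.dvd_prime Nat.prime_two).1 (idx_two hc h) with h1 | h1
  · exact subgroupOf_eq_top.1 (index_eq_one.1 h1) (A.mul_mem ha hb)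
  · exact (mul_mem_iff_of_index_two h1 (a := ⟨a, ha⟩) (b := ⟨b, hb⟩)).2 hab

omit [Finite Γ] in
theorem comm_of_zpowers {a b : Γ} (ha : a ∈ zpowers c) (hb : b ∈ zpowers c) : a * b = b * a := by
  obtain ⟨i, rfl⟩ := ha
  obtain ⟨j, rfl⟩ := hb
  exact (Commute.refl c).zpow_zpow i j

theorem inv_unique {a b : Γ} (ha : a ∈ zpowers c) (hb : b ∈ zpowers c) (h1 : orderOf a = 2) (h2 : orderOf b = 2) : a = b := by
  classical
  have h3 : zpowers a ≤ zpowers b := CharactersDeep.QuatSylow.le_of_card_dvd_of_le_cyclic inferInstance (zpowers_le.2 ha)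
    (zpowers_le.2 hb) (by rw [Nat.card_zpowers, Nat.card_zpowers, h1, h2])
  obtain ⟨k, h4, rfl⟩ := (mem_powers_iff_mem_zpowers.2 (h3 (mem_zpowers a)) : a ∈ Submonoid.powers b) |>
    (isOfFinOrder_of_finite b).powers_eq_image_range_orderOf.subset |> Finset.mem_coe.1 |> Finset.mem_image.1
  rw [h2, Finset.mem_range] at h4
  interval_cases k
  · simp at h1
  · exact pow_one b

/-- **ZI**: a cyclic subgroup of even order and index at most two -/
theorem zi (f : Fac M S H T B) (hc : c ∈ T ⊓ B) (h : Nat.card ↥(T ⊓ B) ∣ 2 * orderOf c) (h2 : 2 ∣ orderOf c) :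
    ∃ t : T, orderOf t = 2 ∧ Nat.card (centralizer ({t} : Set T)) ≤ Nat.card ↥(T ⊓ B) := by
  set t := c ^ (orderOf c / 2) with ht
  have t2 : orderOf t = 2 := orderOf_pow_orderOf_div (orderOf_pos c).ne' h2
  have tc : t ∈ zpowers c := npow_mem_zpowers c _
  have tA : t ∈ T ⊓ B := zpowers_le.2 hc tc
  have hcen : ∀ a ∈ T ⊓ B, a * t = t * a := fun a ha => by
    by_cases h1 : a ∈ zpowers c
    · exact comm_of_zpowers h1 tc
    have h3 : a * t ∉ zpowers c := fun k => h1 ((mul_mem_cancel_right tc).1 k)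
    have h4 : a * t * a⁻¹ ∈ zpowers c :=
      mul_mem_of hc h (mul_mem ha tA) (inv_mem ha) (iff_of_false h3 (fun k => h1 (inv_mem_iff.1 k)))
    exact mul_inv_eq_iff_eq_mul.1 (inv_unique h4 tc (by
      rw [← t2]; exact (MulAut.conj a).orderOf_eq t) t2)
  have huniq : ∀ x ∈ T ⊓ B, orderOf x = 2 → (∀ a ∈ T ⊓ B, a * x = x * a) → x = t := fun x hx x2 hxa => by
    by_cases h1 : x ∈ zpowers c
    · exact inv_unique h1 tc x2 t2
    refine (f.not_comm fun a ha b hb => ?_).elim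
    have k : ∀ a ∈ T ⊓ B, a ∈ zpowers c ∨ ∃ a' ∈ zpowers c, a = a' * x := fun a ha => by
      by_cases h3 : a ∈ zpowers c
      · exact Or.inl h3
      · exact Or.inr ⟨a * x⁻¹, mul_mem_of hc h ha (inv_mem hx) (iff_of_false h3 (fun k => h1 (inv_mem_iff.1 k))), by group⟩
    have k2 : ∀ a ∈ zpowers c, Commute a x := fun a ha => hxa a (zpowers_le.2 hc ha)
    rcases k a ha with h3 | ⟨a', h3, rfl⟩ <;> rcases k b hb with h4 | ⟨b', h4, rfl⟩
    · exact comm_of_zpowers h4 h3
    · exact Commute.mul_left (comm_of_zpowers h4 h3) (k2 a h3).symm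
    · exact Commute.mul_right (comm_of_zpowers h4 h3) (k2 b h4)
    · exact Commute.mul_left (Commute.mul_right (comm_of_zpowers h4 h3) (k2 b' h4))
        (Commute.mul_right (k2 a' h3).symm (Commute.refl x))
  have hinv : ∀ g ∈ H ⊓ B, g * t * g⁻¹ = t := fun g hg =>
    huniq _ (f.conjA hg tA) (by rw [← t2]; exact (MulAut.conj g).orderOf_eq t) fun a ha => by
      have h1 := hcen _ (f.conjA (inv_mem hg) ha)
      calc a * (g * t * g⁻¹) = g * (g⁻¹ * a * g⁻¹⁻¹ * t) * g⁻¹ := by group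
        _ = g * t * g⁻¹ * a := by rw [h1]; group
  have key : ∀ u ∈ T, u * t = t * u → u ∈ B := fun u hu hut =>
    f.mem_of_comm (C := zpowers t) (zpowers_le.2 tA) (fun k => by
      rw [zpowers_eq_bot.1 k, orderOf_one] at t2
      omega) (by
      rintro g hg _ ⟨k, rfl⟩
      show g * t ^ k * g⁻¹ ∈ _
      rw [← conj_zpow, hinv g hg]
      exact zpow_mem_zpowers t k) hu (by
      rintro _ ⟨k, rfl⟩
      exact Commute.zpow_right hut k)
  refine ⟨⟨t, tA.1⟩, (orderOf_mk _ _).trans t2, ?_⟩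
  rw [← card_map_of_injective T.subtype_injective]
  refine card_le_of_le ?_
  rintro _ ⟨u, hu, rfl⟩
  exact ⟨u.2, key u u.2 (congrArg Subtype.val (mem_centralizer_singleton_iff.1 hu))⟩

/-- the odd primes of a cyclic subgroup of index at most two -/
theorem odd_syl (f : Fac M S H T B) (hc : c ∈ T ⊓ B) (h : Nat.card ↥(T ⊓ B) ∣ 2 * orderOf c) (hr : r.Prime) (h2 : r ≠ 2)
    (hd : r ∣ orderOf c) : ¬ r ∣ B.relIndex T := by
  have := Fact.mk hr
  set y : ↥(T ⊓ B) := ⟨c, hc⟩ with hy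
  have k : ∀ P : Sylow r ↥(T ⊓ B), (P : Subgroup ↥(T ⊓ B)) ≤ zpowers y := fun P x hx => by
    obtain ⟨j, hj⟩ := P.isPGroup' ⟨x, hx⟩
    have h3 : x ^ r ^ j = 1 := congrArg Subtype.val hj
    obtain ⟨i, hi⟩ := mul_mem_of hc h x.2 x.2 Iff.rfl
    obtain ⟨m, hm⟩ := (hr.odd_of_ne_two h2).pow (n := j)
    have h4 : x * x = y ^ i := Subtype.ext hi.symm
    have h5 : x = (y ^ i)⁻¹ ^ m := by
      rw [hm, pow_succ, pow_mul, pow_two, h4] at h3
      rw [inv_pow]
      exact eq_inv_of_mul_eq_one_right h3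
    rw [h5]
    exact pow_mem (inv_mem (zpow_mem_zpowers y i)) m
  have h1 : Nat.card (Sylow r ↥(T ⊓ B)) = 1 := Nat.card_eq_one_iff_unique.2 ⟨⟨fun P Q => Sylow.ext (le_antisymm
    (CharactersDeep.QuatSylow.le_of_card_dvd_of_le_cyclic inferInstance (k P) (k Q)
      (by rw [P.card_eq_multiplicity, Q.card_eq_multiplicity]))
    (CharactersDeep.QuatSylow.le_of_card_dvd_of_le_cyclic inferInstance (k Q) (k P)
      (by rw [P.card_eq_multiplicity, Q.card_eq_multiplicity])))⟩, inferInstance⟩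
  have h3 := f.syl (p := r) (hd.trans ((orderOf_mk c hc).symm ▸ orderOf_dvd_natCard y)) h1
  intro h4
  exact hr.one_lt.ne' (Nat.dvd_one.1 ((Nat.modEq_zero_iff_dvd.1 (h3.symm.trans (Nat.modEq_zero_iff_dvd.2 h4)))))

theorem two_odd (f : Fac M S H T B) (h : IsPGroup 2 ↥(T ⊓ B)) : ¬ 2 ∣ B.relIndex T := by
  obtain ⟨k, hk⟩ := IsPGroup.iff_card.1 h
  obtain _ | k := k
  · exact (f.nb (card_eq_one.1 hk)).elim
  have := f.syl_num 2 k 1 Nat.prime_two (by rw [hk, mul_one]) (by norm_num) (by decide)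
  omega

omit [Finite Γ] in
theorem Iv.dvd (h : Iv T B r) : r ∣ Nat.card ↥(T ⊓ B) := by
  obtain ⟨-, -, -, E, h1, h2, -⟩ := h
  exact h2 ▸ card_dvd_of_le h1

theorem Iv.conj (h : Iv T B r) {x : T} (hx : r ^ (Nat.card T).factorization r ∣ orderOf x) :
    ∃ c ∈ T ⊓ B, orderOf c = orderOf x := by
  obtain ⟨hr, -, -, E, h1, h2, h3⟩ := h
  obtain ⟨g, hg, h4⟩ := conj_into hr x.2 (by rwa [orderOf_coe]) (h1.trans inf_le_left)
    (IsPGroup.of_card (n := 1) (by rw [h2, pow_one]))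
  refine ⟨g * x * g⁻¹, h3 ▸ ⟨T.mul_mem (T.mul_mem hg x.2) (T.inv_mem hg), centralizer_le_normalizer _ fun z hz =>
    comm_of_zpowers (h4 hz) (mem_zpowers _)⟩, ?_⟩
  rw [← orderOf_coe]
  exact (MulAut.conj g).orderOf_eq (x : Γ)

end tool

section num

theorem exists_odd_prime {n : ℕ} (h0 : 0 < n) (h : ∀ a, n ≠ 2 ^ a) : ∃ s, s.Prime ∧ s ≠ 2 ∧ s ∣ n := by
  by_contra hcon
  push Not at hcon
  exact h _ (Nat.eq_prime_pow_of_unique_prime_dvd h0.ne' fun {d} hd hdn => by
    by_contra h2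
    exact hcon d hd h2 hdn)

theorem three_pow_mod (f : ℕ) : 3 ^ f % 8 = 1 ∨ 3 ^ f % 8 = 3 := by
  induction f with
  | zero => simp
  | succ f ih => rw [pow_succ]; omega

theorem three_pow_succ {f a : ℕ} (h : 3 ^ f + 1 = 2 ^ a) : 3 ^ f ≤ 3 := by
  have h1 := three_pow_mod f
  by_cases h2 : 3 ≤ a
  · obtain ⟨k, rfl⟩ := Nat.exists_eq_add_of_le h2
    rw [pow_add] at h
    omega
  · have : 2 ^ a ≤ 2 ^ 2 := Nat.pow_le_pow_right (by norm_num) (by omega)
    omega

end num

theorem card_cent_congr {T T' : Type} [Group T] [Group T'] (e : T ≃* T') (t : T) :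
    Nat.card (centralizer ({t} : Set T)) = Nat.card (centralizer ({e t} : Set T')) := by
  rw [← card_map_of_injective (f := e.toMonoidHom) e.injective]
  congr 2
  ext x
  rw [mem_map_equiv, mem_centralizer_singleton_iff, mem_centralizer_singleton_iff, ← e.injective.eq_iff, map_mul, map_mul,
    e.apply_symm_apply]

/-- the centraliser of an involution of `L₃(3 ^ f)` -/
theorem l3_inv {T : Type} [Group T] {f : ℕ} (hf : 3 ≤ 3 ^ f) (hT : IsNamed (.psl 3 (3 ^ f)) T) {t : T} (ht : orderOf t = 2) :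
    2 * ((3 ^ f) ^ 2 - 1) < Nat.card (centralizer ({t} : Set T)) := by
  obtain ⟨F, _, _, hF, ⟨e⟩⟩ := hT.real
  obtain ⟨Z, _, -, h2, ⟨e2⟩⟩ := S1219.result (F := F) (hF ▸ Odd.pow (by decide)) (e t) (by rw [MulEquiv.orderOf_eq, ht])
  have h1 := card_cent_congr e t
  have h3 : Nat.gcd (Fintype.card F - 1) 3 = 1 := by
    rw [hF, Nat.gcd_comm]
    refine dd_eq_one (ε := true) fun k => ?_
    have := eq_one_of_qm (by omega) k (dvd_pow_self 3 (by rintro rfl; omega))
    omega
  have h4 := card_eq_card_quotient_mul_card_subgroup Z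
  rw [h2, h3, mul_one, Matrix.card_GL_field, Fin.prod_univ_two, hF] at h4
  rw [h1, Nat.card_congr e2.toEquiv, ← h4, mul_comm 2]
  simp only [Fin.val_zero, Fin.val_one, pow_zero, pow_one]
  generalize 3 ^ f = q at *
  have h5 : q * 3 ≤ q ^ 2 := by rw [pow_two]; exact Nat.mul_le_mul_left q hf
  exact Nat.mul_lt_mul_of_pos_left (by omega) (by omega)

theorem boxTI : BoxTI := by
  intro Γ _ _ M S H T B p f ε F hp h3 h4 hT hO k hk he
  have hf : f ≠ 0 := by rintro rfl; simp at h3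
  have hc := LU_card hT
  obtain ⟨x, hx⟩ := LU_xx hT
  have hn := Fac.card_mul T B
  have hpq : p ∣ p ^ f := dvd_pow_self p hf
  have hl : ε = true → p = 3 → ∀ c ∈ T ⊓ B, orderOf c = orderOf x → Nat.card ↥(T ⊓ B) ∣ 2 * orderOf c → False := by
    rintro rfl rfl c hcA h1 h2
    have h5 : dd true (3 ^ f) = 1 := dd_eq_one fun k => by have := eq_one_of_qm (by omega) k hpq; omega
    rw [h5, one_mul, ← h1] at hx
    obtain ⟨t, t2, ht⟩ := zi F hcA h2 (by
      rw [hx]
      have := three_pow_mod (f * 2)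
      rw [pow_mul] at this
      omega)
    have h6 := l3_inv h3 hT t2
    have h7 := Nat.le_of_dvd (Nat.mul_pos two_pos (orderOf_pos c)) h2
    omega
  set q := p ^ f with hq
  set a := Nat.card ↥(T ⊓ B) with ha
  set n := B.relIndex T with hnd
  have q1 : 1 ≤ q := by omega
  have hm := qm_mul q1 ε
  have m1 := qm_pos (show 2 ≤ q by omega) ε
  have m2 := qm_pos (show 2 ≤ q by omega) (!ε)
  have d1 := dd_pos ε q
  have d2 := dd_pos (!ε) q
  have hkn : k * n = dd (!ε) q * (q ^ 3 * (qm ε q * Nc ε q)) := by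
    refine Nat.eq_of_mul_eq_mul_left (show 0 < q ^ 2 - 1 from hm ▸ Nat.mul_pos m1 m2) ?_
    calc (q ^ 2 - 1) * (k * n) = k * (q ^ 2 - 1) * n := by ring
      _ = dd (!ε) q * (dd ε q * (a * n)) := by rw [← he]; ring
      _ = _ := by rw [hn, hc, oL]; ring
  have hk3 : ∀ r, r.Prime → r ≠ 2 → r ∣ k → r ∣ qm (!ε) q := fun r hr h2 h => by
    rcases (hr.dvd_mul.1 (h.trans hk)) with h5 | h5
    · exact absurd ((Nat.prime_dvd_prime_iff_eq hr Nat.prime_two).1 h5) h2
    · exact h5.trans (dd_dvd _ _)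
  have hA : ∀ r, r.Prime → r ≠ 2 → r ∣ qm ε q → r ∣ n := fun r hr h2 h =>
    (hr.dvd_mul.1 (hkn ▸ ((h.mul_right _).mul_left _).mul_left _)).resolve_left fun h5 =>
      h2 ((Nat.prime_dvd_prime_iff_eq hr Nat.prime_two).1 (dvd_two_of_qm q1 h (hk3 r hr h2 h5)))
  have hax : a ∣ 2 * orderOf x := by
    obtain ⟨j, hj⟩ := hk
    refine ⟨j, Nat.eq_of_mul_eq_mul_left (Nat.mul_pos d1 d2) ?_⟩
    calc dd ε q * dd (!ε) q * (2 * orderOf x) = 2 * dd (!ε) q * (dd ε q * orderOf x) := by ring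
      _ = k * (q ^ 2 - 1) * j := by rw [hj, hx]; ring
      _ = _ := by rw [← he]; ring
  rcases hO with ⟨r, hI⟩ | ⟨rfl, h2⟩
  · have hr := hI.1
    have h5 : r ∣ qm (!ε) q := by
      have h6 : r ∣ k * (qm ε q * qm (!ε) q) := by rw [hm, ← he]; exact hI.dvd.mul_left _
      rcases hr.dvd_mul.1 h6 with h7 | h7
      · exact hk3 r hr hI.2.1 h7
      · exact (hr.dvd_mul.1 h7).resolve_left fun h8 => hI.2.2.1 (hA r hr hI.2.1 h8)
    obtain ⟨e, he'⟩ := dd_dvd ε q
    have hxe : orderOf x = e * qm (!ε) q := Nat.eq_of_mul_eq_mul_left d1 (by rw [hx, ← hm, ← mul_assoc, ← he'])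
    obtain ⟨c, hcA, hco⟩ := hI.conj (x := x) (by
      have h6 : (Nat.card T).factorization r ≤ (qm (!ε) q).factorization r := by
        rw [← fact_oL (by omega) hr hI.2.1 h5, ← hc]
        exact (Nat.factorization_le_iff_dvd Nat.card_pos.ne' (Nat.mul_pos d1 Nat.card_pos).ne').2 (Dvd.intro_left _ rfl) r
      rw [hxe]
      exact ((pow_dvd_pow r h6).trans (Nat.ordProj_dvd _ _)).mul_left _)
    by_cases h6 : ε = true ∧ p = 3
    · exact hl h6.1 h6.2 c hcA hco (hco ▸ hax)
    obtain ⟨s, s1, s2, s3⟩ := exists_odd_prime (n := e) (Nat.pos_of_mul_pos_left (he' ▸ m1)) fun b hb => by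
      rcases hp with rfl | rfl
      · have h7 : q % 2 = 0 := Nat.mod_eq_zero_of_dvd hpq
        have h8 : ¬ 2 ∣ qm ε q := fun k => by have := eq_one_of_qm q1 k hpq; omega
        obtain rfl : b = 0 := by
          by_contra h9
          exact h8 (he' ▸ (hb ▸ dvd_pow_self 2 h9).mul_left _)
        have h9 := dd_cases ε q
        rw [hb, pow_zero, mul_one] at he'
        cases ε <;> simp only [qm, cond] at he' <;> simp at h4 <;> omega
      · have h7 : ε = false := by simpa using h6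
        subst h7
        have h8 : dd false q = 1 := dd_eq_one fun k => by have := eq_one_of_qm q1 k hpq; omega
        rw [h8, one_mul, hb] at he'
        have h9 := three_pow_succ he'
        obtain h10 : q = 3 := by omega
        rw [h10] at h5
        exact hI.2.1 ((Nat.prime_dvd_prime_iff_eq hr Nat.prime_two).1 h5)
    exact odd_syl F hcA (hco ▸ hax) s1 s2 (hco ▸ hxe ▸ s3.mul_right _) (hA s s1 s2 (he' ▸ s3.mul_left _))
  · have h5 : ∀ ε, dd ε q = 1 := fun ε => dd_eq_one fun k => by have := eq_one_of_qm q1 k hpq; omega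
    have h6 := two_odd F h2
    obtain ⟨b, hb⟩ := IsPGroup.iff_card.1 h2
    rw [h5, h5, one_mul, one_mul, ← hm] at he
    have h7 : q + 1 ∣ 2 ^ b := by
      rw [← hb, ← ha, he]
      cases ε
      · exact (dvd_mul_right _ _).mul_left _
      · exact (dvd_mul_left _ _).mul_left _
    obtain ⟨j, -, hj⟩ := (Nat.dvd_prime_pow Nat.prime_two).1 h7
    have h8 := three_pow_succ hj
    obtain h9 : q = 3 := by omega
    rw [h5] at hk hkn hx hc
    rw [h9] at hkn hx hc he
    have h10 := (Nat.dvd_prime Nat.prime_two).1 hk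
    cases ε
    · have : k * n = 756 := hkn
      rcases h10 with rfl | rfl <;> omega
    · have h11 : k * n = 702 := hkn
      obtain rfl : k = 2 := by rcases h10 with rfl | rfl <;> omega
      have h12 : Nat.card T = 5616 := (one_mul _).symm.trans hc
      have h13 : orderOf (x : Γ) = 8 := (orderOf_coe x).trans ((one_mul _).symm.trans hx)
      have h14 : IsPGroup 2 (zpowers (x : Γ)) := IsPGroup.of_card (n := 3) (by rw [Nat.card_zpowers, h13]; rfl)
      have h15 : Nat.card ((T ⊓ B).subgroupOf T) = 2 ^ (Nat.card T).factorization 2 := by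
        rw [Nat.card_congr (subgroupOfEquivOfLe inf_le_left).toEquiv, ← ha, he, h12]
        decide +kernel
      obtain ⟨Q, hQ⟩ := (h14.comap_subtype (K := T)).exists_le_sylow
      obtain ⟨g, hg⟩ := MulAction.exists_smul_eq T Q (Sylow.ofCard _ h15)
      have h16 : g * x * g⁻¹ ∈ ((g • Q : Sylow 2 T) : Subgroup T) := by
        rw [Sylow.smul_def, Sylow.pointwise_smul_def]
        exact smul_mem_pointwise_smul x (MulAut.conj g) _ (hQ (mem_zpowers _))
      rw [hg] at h16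
      have h17 : orderOf ((g * x * g⁻¹ : T) : Γ) = orderOf x := (orderOf_coe _).trans ((MulAut.conj g).orderOf_eq x)
      exact hl rfl rfl _ h16 h17 (h17 ▸ hax)

/-- the class of `t` consists of elements of the same order -/
theorem index_cent_le {T : Type} [Group T] [Finite T] (t : T) :
    (centralizer ({t} : Set T)).index ≤ Nat.card {g : T // orderOf g = orderOf t} := by
  refine Nat.card_le_card_of_injective (fun c : T ⧸ centralizer ({t} : Set T) =>
    (⟨c.out * t * c.out⁻¹, (MulAut.conj c.out).orderOf_eq t⟩ : {g : T // orderOf g = orderOf t})) fun c d h => ?_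
  have h1 : c.out * t * c.out⁻¹ = d.out * t * d.out⁻¹ := congrArg Subtype.val h
  rw [← c.out_eq', ← d.out_eq', QuotientGroup.eq, mem_centralizer_singleton_iff]
  calc c.out⁻¹ * d.out * t = c.out⁻¹ * (d.out * t * d.out⁻¹) * d.out := by group
    _ = t * (c.out⁻¹ * d.out) := by rw [← h1]; group

open Cfsg.Agent.H947.El in
theorem ree_case {Γ : Type} [Group Γ] [Finite Γ] {M S H T B : Subgroup Γ} {q : ℕ} (F : Fac M S H T B)
    (hT : IsNamed (.ree q) T) (hO : Ou 3 T B) : ¬ Nat.card ↥(T ⊓ B) ∣ 2 * (q - 1) := by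
  intro hd
  obtain ⟨K, _, _, m, hm, hK, rfl, ⟨e⟩⟩ := hT.real
  obtain ⟨ρ, N⟩ := exists_reeN m hm
  have R := reeF hm hK N
  have hc : Nat.card T = _ := (Nat.card_congr e.toEquiv).trans R.card
  have hn := Fac.card_mul T B
  have h27 := N.q27
  have h4 := N.q4
  rcases hO with ⟨r, hI⟩ | ⟨-, h2⟩
  · have hr := hI.1
    have h1 : r ∣ 3 ^ (2 * m + 1) - 1 := (hr.dvd_mul.1 (hI.dvd.trans hd)).resolve_left fun k =>
      hI.2.1 ((Nat.prime_dvd_prime_iff_eq hr Nat.prime_two).1 k)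
    have h3 : 3 < r := by
      have h5 : r ≠ 3 := by
        rintro rfl
        have := eq_one_of_qm (ε := true) (by omega) h1 N.q3
        omega
      have := hr.two_le
      have := hI.2.1
      omega
    obtain ⟨-, h2, -, E, hE, hEr, hN⟩ := hI
    have hET : E ≤ T := hE.trans inf_le_left
    set E' := (E.subgroupOf T).map e.toMonoidHom with hE'
    have cE : Nat.card E' = r := by
      rw [hE', card_map_of_injective e.injective, Nat.card_congr (subgroupOfEquivOfLe hET).toEquiv, hEr]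
    obtain ⟨A₀, a1, a2, a3⟩ := R.norm r hr h3 E' cE
    have hrA : r ∣ Nat.card A₀ := cE ▸ card_dvd_of_le a2
    have h5 : 2 * Nat.card A₀ = 3 ^ (2 * m + 1) - 1 := by
      rcases a3 with h | h | ⟨h, -⟩
      · exact h.1
      · exact (h2 ((Nat.prime_dvd_prime_iff_eq hr Nat.prime_two).1 (dvd_two_of_qm (ε := true) (by omega) h1
          (show r ∣ 3 ^ (2 * m + 1) + 1 from h.1 ▸ hrA.mul_left _)))).elim
      · have h6 : r ∣ Nc false (3 ^ (2 * m + 1)) := by
          show r ∣ (3 ^ (2 * m + 1)) ^ 2 - 3 ^ (2 * m + 1) + 1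
          rw [N.fac]
          rcases h with h | h
          · exact (h ▸ hrA).mul_right _
          · exact (h ▸ hrA).mul_left _
        exact (hr.one_lt.ne' (eq_one_of_Nc (ε := false) (by omega) h1 h6)).elim
    obtain ⟨b1, b2, b3⟩ := (S2359.result hm hK A₀ a1).1 (by omega)
    have b4 := b3 E' a2 (fun k => by
      rw [k, card_bot] at cE
      omega)
    obtain ⟨⟨c', hc'⟩, hg⟩ := IsCyclic.exists_generator (α := centralizer (A₀ : Set ↥(twistedG2 K (3 ^ m))))
    have ho : orderOf ((e.symm c' : T) : Γ) = 3 ^ (2 * m + 1) - 1 := by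
      rw [orderOf_coe, MulEquiv.orderOf_eq, ← b2, ← orderOf_eq_card_of_forall_mem_zpowers hg]
      exact (orderOf_mk c' hc').symm
    have hcA : ((e.symm c' : T) : Γ) ∈ T ⊓ B := by
      rw [← hN]
      refine ⟨(e.symm c').2, centralizer_le_normalizer _ fun z hz => ?_⟩
      rw [← b4] at hc'
      have h6 := congrArg e.symm (hc' (e ⟨z, hET hz⟩) ⟨_, hz, rfl⟩)
      rw [map_mul, map_mul, e.symm_apply_apply] at h6
      exact congrArg Subtype.val h6
    obtain ⟨t, t2, ht⟩ := zi F hcA (ho ▸ hd) (by omega)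
    have h6 := index_cent_le (e t)
    rw [MulEquiv.orderOf_eq, t2, (S2357.result hm hK).1] at h6
    have h7 := (centralizer ({e t} : Set ↥(twistedG2 K (3 ^ m)))).card_mul_index
    rw [← card_cent_congr, R.card, N.cube] at h7
    have h8 := Nat.mul_le_mul (ht.trans (Nat.le_of_dvd (by omega) hd)) h6
    rw [h7] at h8
    generalize 3 ^ (2 * m + 1) = q at *
    have h9 : q ^ 2 * (q - 1) * (q ^ 2 - q + 1) * (q * (q + 1)) ≤ q ^ 2 * (q - 1) * (q ^ 2 - q + 1) * 2 :=
      le_of_eq_of_le (by ring) (h8.trans_eq (by ring))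
    have h10 := Nat.le_of_mul_le_mul_left h9 (Nat.mul_pos (Nat.mul_pos (by positivity) (by omega)) (by omega))
    nlinarith
  · have h3 := two_odd F h2
    have h5 : 8 ∣ Nat.card ↥(T ⊓ B) * B.relIndex T := by
      obtain ⟨P⟩ : Nonempty (Sylow 2 ↥(twistedG2 K (3 ^ m))) := inferInstance
      rw [hn, Nat.card_congr e.toEquiv, ← (R.syl2 P).1]
      exact card_subgroup_dvd_card _
    have h6 := (Nat.Coprime.dvd_of_dvd_mul_right ((Nat.prime_two.coprime_iff_not_dvd.2 h3).pow_left 3) h5).trans hd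
    omega

theorem boxTU : BoxTU := by
  intro Γ _ _ M S H T B p f F hp h9 hT hO
  rcases hT with hT | ⟨rfl, hT⟩
  swap
  · exact ree_case F hT hO
  intro hd
  have hf : f ≠ 0 := by rintro rfl; simp at h9
  have hc := LU_card (ε := false) hT
  obtain ⟨x, hx⟩ := LU_xx (ε := false) hT
  have hn := Fac.card_mul T B
  have hpq : p ∣ p ^ f := dvd_pow_self p hf
  set q := p ^ f with hq
  have q1 : 1 ≤ q := by omega
  have hm : (q + 1) * (q - 1) = q ^ 2 - 1 := qm_mul q1 false
  have d1 := dd_pos false q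
  rcases hO with ⟨r, hI⟩ | ⟨rfl, h2⟩
  · have hr := hI.1
    have h5 : r ∣ qm (!false) q := (hr.dvd_mul.1 (hI.dvd.trans hd)).resolve_left fun k =>
      hI.2.1 ((Nat.prime_dvd_prime_iff_eq hr Nat.prime_two).1 k)
    obtain ⟨e, he'⟩ : dd false q ∣ q + 1 := dd_dvd false q
    have hxe : orderOf x = e * (q - 1) := Nat.eq_of_mul_eq_mul_left d1 (by rw [hx, ← hm, ← mul_assoc, ← he'])
    obtain ⟨c, hcA, hco⟩ := hI.conj (x := x) (by
      have h6 : (Nat.card T).factorization r ≤ (qm (!false) q).factorization r := by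
        rw [← fact_oL (by omega) hr hI.2.1 h5, ← hc]
        exact (Nat.factorization_le_iff_dvd Nat.card_pos.ne' (Nat.mul_pos d1 Nat.card_pos).ne').2 (Dvd.intro_left _ rfl) r
      rw [hxe]
      exact ((pow_dvd_pow r h6).trans (Nat.ordProj_dvd _ _)).mul_left _)
    have h6 : e * (q - 1) ∣ 2 * (q - 1) := by
      rw [← hxe, ← hco]
      exact (Subgroup.orderOf_dvd_natCard _ hcA).trans hd
    have h7 := Nat.le_of_dvd two_pos (Nat.dvd_of_mul_dvd_mul_right (by omega) h6)
    rcases dd_cases false q with h8 | h8 <;> rw [h8] at he' <;> omega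
  · have h5 : dd false q = 1 := dd_eq_one fun k => by have := eq_one_of_qm q1 k hpq; omega
    have h6 := two_odd F h2
    obtain ⟨j, hj⟩ := hd
    have h7 : 2 * B.relIndex T = j * (q ^ 3 * ((q + 1) * ((q + 1) * Nc false q))) := by
      refine Nat.eq_of_mul_eq_mul_left (show 0 < q - 1 by omega) ?_
      calc (q - 1) * (2 * B.relIndex T) = 2 * (q - 1) * B.relIndex T := by ring
        _ = j * (dd false q * Nat.card T) := by rw [hj, h5, ← hn]; ring
        _ = _ := by rw [hc, oL, ← hm]; show _ * (_ * (_ * ((q + 1) * _))) = _; ring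
    obtain ⟨i, hi⟩ : 2 ∣ q + 1 := by
      have := three_pow_mod f
      omega
    refine h6 ⟨j * (q ^ 3 * (i * i * Nc false q)), Nat.eq_of_mul_eq_mul_left two_pos ?_⟩
    rw [h7, hi]
    ring

end Cfsg.Agent.SM.Ex78
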